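import Mathlib
import Cfsg.Prelude.Def_KGroupFacts
import Cfsg.Agent.Lib.Schur.Fusion
import Cfsg.Agent.Lib.Multiplier.Basic

/-!
Lib/MultPSU/Ext: central extensions whose kernel is an `r`-group.  Complements over subgroups
generated by elements of order a power of another prime, reduction to subgroups of index prime to
`r`, and the passage from these to Schur multipliers.
-/

set_option autoImplicit false
set_option linter.unusedSectionVars false

namespace Cfsg.Agent.Lib.MultPSU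

open Subgroup
open scoped commutatorElement

universe u v

section General

variable {G : Type v} [Group G] {E : Type u} [Group E]

/-- The derived group of the preimage of `H` meets the kernel trivially. -/
def Split (σ : E →* G) (H : Subgroup G) : Prop := ⁅H.comap σ, H.comap σ⁆ ⊓ σ.ker = ⊥

/-- `C` is a complement to the kernel over `H`. -/
structure Comp (σ : E →* G) (H : Subgroup G) (C : Subgroup E) : Prop where
  map_eq : C.map σ = H
  inf_ker : C ⊓ σ.ker = ⊥

/-- The subgroup generated by the elements of `p`-power order above `H`. -/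
def pHat (p : ℕ) (σ : E →* G) (H : Subgroup G) : Subgroup E :=
  closure {x | σ x ∈ H ∧ ∃ k : ℕ, x ^ p ^ k = 1}

/-- `H` is generated by its elements of `p`-power order. -/
def PGen (p : ℕ) (H : Subgroup G) : Prop := H ≤ closure {h | h ∈ H ∧ ∃ k : ℕ, h ^ p ^ k = 1}

variable {σ : E →* G} {H K N : Subgroup G} {p r : ℕ}

theorem Split.eq_one (h : Split σ H) {z : E} (hz : z ∈ ⁅H.comap σ, H.comap σ⁆) (hk : σ z = 1) :
    z = 1 := mem_bot.1 (h ▸ mem_inf.2 ⟨hz, hk⟩)

theorem split_iff : Split σ H ↔ ∀ z ∈ ⁅H.comap σ, H.comap σ⁆, σ z = 1 → z = 1 :=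
  ⟨fun h _ hz hk => h.eq_one hz hk, fun h =>
    eq_bot_iff.2 fun z hz => mem_bot.2 (h z (mem_inf.1 hz).1 (mem_inf.1 hz).2)⟩

theorem Split.mono (h : Split σ H) (hKH : K ≤ H) : Split σ K :=
  eq_bot_iff.2 ((inf_le_inf_right _ (commutator_mono (comap_mono hKH) (comap_mono hKH))).trans
    h.le)

theorem Comp.eq_one {C : Subgroup E} (h : Comp σ H C) {z : E} (hz : z ∈ C) (hk : σ z = 1) :
    z = 1 := mem_bot.1 (h.inf_ker ▸ mem_inf.2 ⟨hz, hk⟩)

theorem Comp.exists_mem {C : Subgroup E} (h : Comp σ H C) {g : G} (hg : g ∈ H) :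
    ∃ c ∈ C, σ c = g := by
  rw [← h.map_eq] at hg
  exact hg

theorem Comp.mem {C : Subgroup E} (h : Comp σ H C) {c : E} (hc : c ∈ C) : σ c ∈ H :=
  h.map_eq ▸ mem_map_of_mem σ hc

/-- A complement gives a section. -/
theorem Comp.exists_section {C : Subgroup E} (h : Comp σ H C) {X : Type*} [Group X] (f : X →* G)
    (hf : f.range ≤ H) : ∃ s : X →* E, σ.comp s = f ∧ s.range ≤ C := by
  let e : C →* H := (σ.domRestrict C).codRestrict H fun c => h.mem c.2
  have he : Function.Bijective e := by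
    refine ⟨(injective_iff_map_eq_one _).2 fun c hc => Subtype.ext
      (h.eq_one c.2 (congrArg Subtype.val hc)), fun g => ?_⟩
    obtain ⟨c, hc, hcg⟩ := h.exists_mem g.2
    exact ⟨⟨c, hc⟩, Subtype.ext hcg⟩
  refine ⟨C.subtype.comp ((MulEquiv.ofBijective e he).symm.toMonoidHom.comp
    (f.codRestrict H fun x => hf ⟨x, rfl⟩)), MonoidHom.ext fun x => ?_, ?_⟩
  · exact congrArg Subtype.val ((MulEquiv.ofBijective e he).apply_symm_apply
      (f.codRestrict H (fun y => hf ⟨y, rfl⟩) x))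
  · rintro _ ⟨x, rfl⟩
    exact Subtype.prop _

/-- A section over a subgroup gives a complement. -/
theorem comp_range {X : Type*} [Group X] {f : X →* G} (hf : Function.Injective f) {s : X →* E}
    (hs : σ.comp s = f) : Comp σ f.range s.range := by
  refine ⟨by rw [← hs, MonoidHom.range_comp], eq_bot_iff.2 ?_⟩
  rintro _ ⟨⟨x, rfl⟩, hx⟩
  have : x = 1 := hf (by rw [map_one, ← hs, MonoidHom.comp_apply]; exact hx)
  rw [this, map_one]
  exact one_mem _

variable (hk : σ.ker ≤ center E)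

include hk

theorem commute_ker {z : E} (hz : σ z = 1) (x : E) : Commute x z :=
  mem_center_iff.1 (hk hz) x

theorem Comp.split {C : Subgroup E} (h : Comp σ H C) : Split σ H := by
  have hle : ⁅H.comap σ, H.comap σ⁆ ≤ C := by
    rw [commutator_le]
    intro a ha b hb
    obtain ⟨a', ha', ea⟩ := h.exists_mem ha
    obtain ⟨b', hb', eb⟩ := h.exists_mem hb
    rw [Schur.Fusion.commutator_congr hk ea.symm eb.symm, commutatorElement_def]
    exact mul_mem (mul_mem (mul_mem ha' hb') (inv_mem ha')) (inv_mem hb')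
  exact split_iff.2 fun z hz hz1 => h.eq_one (hle hz) hz1

theorem split_of_commute (h : ∀ a ∈ H.comap σ, ∀ b ∈ H.comap σ, Commute a b) : Split σ H := by
  have : ⁅H.comap σ, H.comap σ⁆ = ⊥ := eq_bot_iff.2 (commutator_le.2 fun a ha b hb =>
    mem_bot.2 (commutatorElement_eq_one_iff_commute.2 (h a ha b hb)))
  rw [Split, this, bot_inf_eq]

/-- Lifts over a cyclic subgroup commute. -/
theorem commute_of_zpowers {s : G} (hs : ∃ S : E, σ S = s) {a b : E} (ha : σ a ∈ zpowers s)
    (hb : σ b ∈ zpowers s) : Commute a b := by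
  obtain ⟨S, rfl⟩ := hs
  obtain ⟨i, hi⟩ := mem_zpowers_iff.1 ha
  obtain ⟨j, hj⟩ := mem_zpowers_iff.1 hb
  exact commutatorElement_eq_one_iff_commute.1
    ((Schur.Fusion.commutator_congr hk (a' := S ^ i) (b' := S ^ j) (by rw [map_zpow, hi])
      (by rw [map_zpow, hj])).trans
      (commutatorElement_eq_one_iff_commute.2 ((Commute.refl S).zpow_zpow i j)))

theorem split_of_isCyclic (hσ : Function.Surjective σ) (h : IsCyclic H) : Split σ H := by
  obtain ⟨g, hg⟩ := h.exists_generator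
  have hle : ∀ x ∈ H, x ∈ zpowers (g : G) := fun x hx => by
    obtain ⟨i, hi⟩ := mem_zpowers_iff.1 (hg ⟨x, hx⟩)
    exact mem_zpowers_iff.2 ⟨i, by rw [← coe_zpow, hi]⟩
  exact split_of_commute hk fun a ha b hb =>
    commute_of_zpowers hk (hσ g) (hle _ ha) (hle _ hb)

/-- Modulo a subgroup `D` centralising or normalised, commuting generators give commutators in `D`. -/
theorem commutator_le_of_normalizer {D A B : Subgroup E} (hA : A ≤ normalizer (D : Set E))
    (hB : B ≤ normalizer (D : Set E))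
    (h : ∀ a ∈ A, ∀ b ∈ B, ⁅a, b⁆ ∈ D) (hAA : ∀ a ∈ A, ∀ b ∈ A, ⁅a, b⁆ ∈ D)
    (hBB : ∀ a ∈ B, ∀ b ∈ B, ⁅a, b⁆ ∈ D) : ⁅A ⊔ B, A ⊔ B⁆ ≤ D := by
  classical
  let M := normalizer (D : Set E)
  let D' := D.subgroupOf M
  haveI : D'.Normal := ⟨fun n hn g => mem_subgroupOf.2 ((mem_normalizer_iff.1 g.2 (n : E)).1 hn)⟩
  let π := QuotientGroup.mk' D'
  have key : ∀ a b : M, ⁅(a : E), (b : E)⁆ ∈ D → Commute (π a) (π b) := fun a b hab =>
    commutatorElement_eq_one_iff_commute.1 (by
      rw [← map_commutatorElement]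
      exact (QuotientGroup.eq_one_iff _).2 (mem_subgroupOf.2 hab))
  have hAB : A ⊔ B ≤ M := sup_le hA hB
  rw [commutator_le]
  intro x hx y hy
  let S : Set M := {g | (g : E) ∈ A ∨ (g : E) ∈ B}
  have hgen : ∀ g : M, (g : E) ∈ A ⊔ B → π g ∈ closure (π '' S) := by
    intro g hg
    have hle : A ⊔ B ≤ ((closure (π '' S)).comap π).map M.subtype := sup_le
      (fun a ha => ⟨⟨a, hA ha⟩, subset_closure ⟨_, Or.inl ha, rfl⟩, rfl⟩)
      (fun b hb => ⟨⟨b, hB hb⟩, subset_closure ⟨_, Or.inr hb, rfl⟩, rfl⟩)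
    obtain ⟨g', hg', he⟩ := hle hg
    rwa [show g = g' from Subtype.ext he.symm]
  have hcomm : ∀ u ∈ π '' S, ∀ w ∈ π '' S, u * w = w * u := by
    rintro _ ⟨a, ha, rfl⟩ _ ⟨b, hb, rfl⟩
    rcases ha with ha | ha <;> rcases hb with hb | hb
    · exact key a b (hAA _ ha _ hb)
    · exact key a b (h _ ha _ hb)
    · exact (key b a (h _ hb _ ha)).symm
    · exact key a b (hBB _ ha _ hb)
  have hc := commutatorElement_eq_one_iff_commute.2
    (show Commute (π ⟨x, hAB hx⟩) (π ⟨y, hAB hy⟩) from by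
      have := Subgroup.isMulCommutative_closure hcomm
      exact congrArg Subtype.val (mul_comm' (⟨_, hgen _ hx⟩ : closure (π '' S)) ⟨_, hgen _ hy⟩))
  rw [← map_commutatorElement] at hc
  exact mem_subgroupOf.1 ((QuotientGroup.eq_one_iff _).1 hc)

/-- A semidirect product: a complement over the normal part, a split top part. -/
theorem split_product (hσ : Function.Surjective σ) {C : Subgroup E} (hC : Comp σ N C)
    (hn : ∀ g, σ g ∈ K → ∀ c ∈ C, g * c * g⁻¹ ∈ C) (hNK : N ⊓ K = ⊥) (hK : Split σ K) :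
    Split σ (N ⊔ K) := by
  have hsup : (N ⊔ K).comap σ ≤ C ⊔ K.comap σ := by
    rw [← comap_map_eq_self (le_sup_of_le_right (ker_le_comap σ K) : σ.ker ≤ C ⊔ K.comap σ)]
    refine comap_mono (sup_le ?_ ?_)
    · rw [← hC.map_eq]; exact map_mono le_sup_left
    · intro k hk'
      obtain ⟨x, rfl⟩ := hσ k
      exact mem_map_of_mem σ (mem_sup_right hk')
  have hKn : K.comap σ ≤ normalizer (C : Set E) := fun g hg => mem_normalizer_iff.2 fun c =>
    ⟨fun hc => hn g hg c hc, fun hc => by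
      have := hn g⁻¹ (by rw [map_inv]; exact inv_mem hg) _ hc
      simpa [mul_assoc] using this⟩
  set Kt := K.comap σ
  set M := C ⊔ ⁅Kt, Kt⁆
  have hKc : ∀ g ∈ Kt, ∀ d ∈ ⁅Kt, Kt⁆, g * d * g⁻¹ ∈ ⁅Kt, Kt⁆ := fun g hg d hd => by
    have h1 : ⁅Kt, Kt⁆ ≤ ⁅Kt, Kt⁆.comap (MulAut.conj g).toMonoidHom := commutator_le.2 fun a ha b hb => by
      rw [mem_comap, map_commutatorElement]
      exact commutator_mem_commutator (mul_mem (mul_mem hg ha) (inv_mem hg))
        (mul_mem (mul_mem hg hb) (inv_mem hg))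
    exact h1 hd
  rw [split_iff]
  intro z hz hz1
  have hzM : z ∈ M := by
    have hCk : C ≤ normalizer (C : Set E) := le_normalizer
    have hM : ⁅C ⊔ Kt, C ⊔ Kt⁆ ≤ M := by
      have hconjC : ∀ g ∈ Kt, ∀ c ∈ C, ⁅c, g⁆ ∈ C := fun g hg c hc => by
        rw [commutatorElement_def, show c * g * c⁻¹ * g⁻¹ = c * (g * c⁻¹ * g⁻¹) by group]
        exact mul_mem hc (hn g hg _ (inv_mem hc))
      have hMC : C ≤ normalizer (M : Set E) := le_sup_left.trans le_normalizer
      have hMK : Kt ≤ normalizer (M : Set E) := fun g hg => mem_normalizer_iff.2 (by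
        have hmap : ∀ g ∈ Kt, ∀ m ∈ M, g * m * g⁻¹ ∈ M := by
          intro g hg m hm
          have hle : M ≤ M.comap (MulAut.conj g).toMonoidHom := sup_le
            (fun c hc => mem_sup_left (hn g hg c hc))
            (fun d hd => mem_sup_right (hKc g hg d hd))
          exact hle hm
        intro m
        refine ⟨hmap g hg m, fun hm => ?_⟩
        have := hmap g⁻¹ (inv_mem hg) _ hm
        simpa [mul_assoc] using this)
      exact commutator_le_of_normalizer hk hMC hMK
        (fun c hc g hg => mem_sup_left (hconjC g hg c hc))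
        (fun a ha b hb => mem_sup_left (mul_mem (mul_mem (mul_mem ha hb) (inv_mem ha)) (inv_mem hb)))
        (fun a ha b hb => mem_sup_right (commutator_mem_commutator ha hb))
    exact hM (commutator_mono hsup hsup hz)
  have hdle : ⁅Kt, Kt⁆ ≤ normalizer (C : Set E) := ((commutator_le_self Kt)).trans hKn
  have hzmul : z ∈ ((C ⊔ ⁅Kt, Kt⁆ : Subgroup E) : Set E) := hzM
  rw [coe_mul_of_right_le_normalizer_left C ⁅Kt, Kt⁆ hdle] at hzmul
  obtain ⟨c, hc, d, hd, rfl⟩ := hzmul
  have hdK : σ d ∈ K := commutator_le_self Kt hd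
  rw [map_mul] at hz1
  have hc1 : σ c ∈ N ⊓ K := mem_inf.2 ⟨hC.mem hc, by
    rw [eq_inv_of_mul_eq_one_left hz1]; exact inv_mem hdK⟩
  rw [hNK, mem_bot] at hc1
  rw [hc1, one_mul] at hz1
  show c * d = 1
  rw [hC.eq_one hc hc1, hK.eq_one hd hz1, one_mul]

/-- An abelian normal part and a cyclic top whose commuting part has commuting lifts. -/
theorem split_cyclic_ext (hσ : Function.Surjective σ) {A : Subgroup G} {S : E}
    (hA : ∀ a, σ a ∈ A → ∀ b, σ b ∈ A → Commute a b)
    (hS : ∀ x ∈ A, σ S * x * (σ S)⁻¹ ∈ A) (hS' : ∀ x ∈ A, (σ S)⁻¹ * x * σ S ∈ A)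
    (hC : ∀ b, σ b ∈ A → Commute (σ S) (σ b) → Commute S b) :
    Split σ (A ⊔ zpowers (σ S)) := by
  set At := A.comap σ
  have hmem : ∀ b ∈ At, S * b * S⁻¹ ∈ At := fun b hb => by
    rw [mem_comap, map_mul, map_mul, map_inv]; exact hS _ hb
  have hmem' : ∀ b ∈ At, S⁻¹ * b * S ∈ At := fun b hb => by
    rw [mem_comap, map_mul, map_mul, map_inv]; exact hS' _ hb
  have hcb : ∀ b ∈ At, ⁅S, b⁆ ∈ At := fun b hb => by
    rw [commutatorElement_def]; exact mul_mem (hmem b hb) (inv_mem hb)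
  let φ : At →* E :=
    { toFun := fun b => ⁅S, (b : E)⁆
      map_one' := by simp
      map_mul' := fun a b => by
        have h1 : (a : E) * ⁅S, (b : E)⁆ * (a : E)⁻¹ = ⁅S, (b : E)⁆ := by
          rw [(hA _ a.2 _ (hcb _ b.2)).eq, mul_inv_cancel_right]
        calc ⁅S, ((a * b : At) : E)⁆ = ⁅S, (a : E)⁆ * ((a : E) * ⁅S, (b : E)⁆ * (a : E)⁻¹) := by
              rw [coe_mul]; simp only [commutatorElement_def]; group
          _ = _ := by rw [h1] }
  set R := φ.range
  have hRA : R ≤ At := by rintro _ ⟨b, rfl⟩; exact hcb _ b.2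
  have hRnA : At ≤ normalizer (R : Set E) := fun a ha => mem_normalizer_iff.2 fun x => by
    constructor
    · intro hx
      rw [(hA a ha x (hRA hx)).eq, mul_inv_cancel_right]; exact hx
    · intro hx
      have : x = a * x * a⁻¹ := by
        have hxA : x ∈ At := by
          have := mul_mem (mul_mem (inv_mem ha) (hRA hx)) ha
          simpa [mul_assoc] using this
        rw [(hA a ha x hxA).eq, mul_inv_cancel_right]
      rw [this]; exact hx
  have hRS : zpowers S ≤ normalizer (R : Set E) := by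
    rw [zpowers_le, mem_normalizer_iff]
    intro x
    constructor
    · rintro ⟨b, rfl⟩
      exact ⟨⟨_, hmem _ b.2⟩, by simp [φ, commutatorElement_def, mul_assoc]⟩
    · rintro ⟨b, hb⟩
      refine ⟨⟨_, hmem' _ b.2⟩, ?_⟩
      have hx : x = S⁻¹ * φ b * S := by rw [hb]; group
      rw [hx]
      simp [φ, commutatorElement_def, mul_assoc]
  have hsup : (A ⊔ zpowers (σ S)).comap σ ≤ At ⊔ zpowers S := by
    intro x hx
    have hle : A ⊔ zpowers (σ S) ≤ σ.range := by
      refine sup_le (fun a ha => ?_) (zpowers_le.2 ⟨S, rfl⟩)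
      exact hσ a
    have h1 : (At ⊔ zpowers S).map σ = A ⊔ zpowers (σ S) := by
      rw [Subgroup.map_sup, MonoidHom.map_zpowers, map_comap_eq_self_of_surjective hσ]
    rw [← comap_map_eq_self (le_sup_of_le_left (ker_le_comap σ A) : σ.ker ≤ At ⊔ zpowers S), h1]
    exact hx
  have hle : ⁅(A ⊔ zpowers (σ S)).comap σ, (A ⊔ zpowers (σ S)).comap σ⁆ ≤ R := by
    refine (commutator_mono hsup hsup).trans (commutator_le_of_normalizer hk hRnA hRS ?_ ?_ ?_)
    · rintro a ha _ ⟨i, rfl⟩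
      have h1 : ∀ g ∈ zpowers S, ⁅g, a⁆ ∈ R := by
        intro g hg
        rw [zpowers_eq_closure] at hg
        induction hg using closure_induction with
        | mem y hy => rw [Set.mem_singleton_iff.1 hy]; exact ⟨⟨a, ha⟩, rfl⟩
        | one => rw [commutatorElement_one_left]; exact one_mem _
        | mul y w hy _ ihy ihw =>
          rw [show ⁅y * w, a⁆ = y * ⁅w, a⁆ * y⁻¹ * ⁅y, a⁆ by simp only [commutatorElement_def]; group]
          exact mul_mem ((mem_normalizer_iff.1 (hRS (by rwa [zpowers_eq_closure])) _).1 ihw) ihy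
        | inv y hy ihy =>
          rw [show ⁅y⁻¹, a⁆ = y⁻¹ * ⁅y, a⁆⁻¹ * y by simp only [commutatorElement_def]; group]
          have := (mem_normalizer_iff.1 (hRS (inv_mem (by rwa [zpowers_eq_closure]))) _).1 (inv_mem ihy)
          rwa [inv_inv] at this
      rw [← commutatorElement_inv]
      exact inv_mem (h1 _ ⟨i, rfl⟩)
    · intro a ha b hb
      rw [commutatorElement_eq_one_iff_commute.2 (hA a ha b hb)]; exact one_mem _
    · rintro _ ⟨i, rfl⟩ _ ⟨j, rfl⟩
      rw [commutatorElement_eq_one_iff_commute.2 ((Commute.refl S).zpow_zpow i j)]; exact one_mem _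
  rw [split_iff]
  intro z hz hz1
  obtain ⟨b, rfl⟩ := hle hz
  have hcom : Commute (σ S) (σ (b : E)) := by
    have h0 : σ ⁅S, (b : E)⁆ = 1 := hz1
    rw [map_commutatorElement] at h0
    exact commutatorElement_eq_one_iff_commute.1 h0
  exact commutatorElement_eq_one_iff_commute.2 (hC b b.2 hcom)

end General

/-! ### Kernels of `r`-power order -/

section RGroup

variable {G : Type v} [Group G] {E : Type u} [Group E] [Finite E] {σ : E →* G}
variable {p r : ℕ} (hp : p.Prime) (hr : r.Prime) (hpr : p ≠ r)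

/-- An `r`-element killed by a power of `p` is trivial. -/
theorem eq_one_of_two_primes {M : Type*} [Monoid M] {x : M} {k l : ℕ} (hp : p.Prime) (hr : r.Prime)
    (hpr : p ≠ r) (h1 : x ^ p ^ k = 1) (h2 : x ^ r ^ l = 1) : x = 1 :=
  orderOf_eq_one_iff.1 (Nat.eq_one_of_dvd_coprimes
    (((Nat.coprime_primes hp hr).2 hpr).pow k l) (orderOf_dvd_of_pow_eq_one h1)
    (orderOf_dvd_of_pow_eq_one h2))

/-- A subgroup of index prime to `r` suffices. -/
theorem commutator_inf_ker_of_index (hk : σ.ker ≤ center E) (hσ : Function.Surjective σ)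
    (hr : r.Prime) (hker : IsPGroup r σ.ker) {H : Subgroup G} (hH : Split σ H)
    (hd : ¬ r ∣ H.index) : commutator E ⊓ σ.ker = ⊥ := by
  rw [eq_bot_iff]
  rintro z ⟨hz, hzk⟩
  obtain ⟨l, hl⟩ := hker ⟨z, hzk⟩
  have hl' : z ^ r ^ l = 1 := congrArg Subtype.val hl
  have h1 := Schur.Fusion.pow_index_mem_commutator (H.comap σ) (hk hzk) hz
  rw [index_comap_of_surjective H hσ] at h1
  have hcop : H.index.Coprime (orderOf z) :=
    Nat.Coprime.coprime_dvd_right (orderOf_dvd_of_pow_eq_one hl')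
      (((hr.coprime_iff_not_dvd).2 hd).symm.pow_right l)
  obtain ⟨m, hm⟩ := exists_pow_eq_self_of_coprime hcop
  exact mem_bot.2 (hH.eq_one (hm ▸ pow_mem h1 m) hzk)

/-- An element of `p`-power order has a lift of `p`-power order. -/
theorem exists_pLift (hσ : Function.Surjective σ) (hp : p.Prime) (hr : r.Prime) (hpr : p ≠ r)
    (hker : IsPGroup r σ.ker) {g : G} {k : ℕ} (hg : g ^ p ^ k = 1) :
    ∃ x : E, σ x = g ∧ x ^ p ^ k = 1 := by
  obtain ⟨y, rfl⟩ := hσ g
  rw [← map_pow] at hg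
  obtain ⟨l, hl⟩ := hker ⟨y ^ p ^ k, hg⟩
  have hl' : (y ^ p ^ k) ^ r ^ l = 1 := congrArg Subtype.val hl
  rcases k with _ | k
  · exact ⟨1, by simpa using hg.symm, by simp⟩
  have h1 : 1 < p ^ (k + 1) := Nat.one_lt_pow (by omega) hp.one_lt
  obtain ⟨a, -, ha⟩ := Nat.exists_mul_mod_eq_one_of_coprime
    (((Nat.coprime_primes hr hp).2 hpr.symm).pow l (k + 1)) h1
  refine ⟨y ^ (r ^ l * a), ?_, ?_⟩
  · have h2 : (σ y) ^ p ^ (k + 1) = 1 := by rw [← map_pow]; exact hg
    rw [map_pow, pow_eq_pow_mod _ h2, ha, pow_one]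
  · rw [← pow_mul, show r ^ l * a * p ^ (k + 1) = (p ^ (k + 1) * r ^ l) * a by ring, pow_mul, pow_mul,
      hl', one_pow]

variable {H : Subgroup G}

theorem pHat_le : pHat p σ H ≤ H.comap σ := (closure_le _).2 fun _ hx => hx.1

theorem map_pHat (hσ : Function.Surjective σ) (hp : p.Prime) (hr : r.Prime) (hpr : p ≠ r)
    (hker : IsPGroup r σ.ker) (hH : PGen p H) : (pHat p σ H).map σ = H := by
  refine le_antisymm (map_le_iff_le_comap.2 pHat_le) (hH.trans ((closure_le _).2 ?_))
  rintro g ⟨hg, k, hk'⟩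
  obtain ⟨x, rfl, hx⟩ := exists_pLift hσ hp hr hpr hker hk'
  exact mem_map_of_mem σ (subset_closure ⟨hg, k, hx⟩)

/-- The elements of `p`-power order above a split subgroup meet the kernel trivially. -/
theorem pHat_inf_ker (hp : p.Prime) (hr : r.Prime) (hpr : p ≠ r) (hker : IsPGroup r σ.ker)
    (hH : Split σ H) : pHat p σ H ⊓ σ.ker = ⊥ := by
  let ab : ↥(H.comap σ) →* Abelianization ↥(H.comap σ) := Abelianization.of
  let P : Subgroup ↥(H.comap σ) :=
    { carrier := {x | ∃ k : ℕ, ab x ^ p ^ k = 1}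
      one_mem' := ⟨0, by simp⟩
      mul_mem' := fun {x y} ⟨i, hi⟩ ⟨j, hj⟩ => ⟨i + j, by
        have hx : ab x ^ p ^ (i + j) = 1 := by rw [pow_add, pow_mul, hi, one_pow]
        have hy : ab y ^ p ^ (i + j) = 1 := by rw [Nat.add_comm, pow_add, pow_mul, hj, one_pow]
        rw [map_mul, mul_pow, hx, hy, one_mul]⟩
      inv_mem' := fun {x} ⟨i, hi⟩ => ⟨i, by rw [map_inv, inv_pow, hi, inv_one]⟩ }
  have hle : pHat p σ H ≤ P.map (H.comap σ).subtype := (closure_le _).2 fun x ⟨hx, k, hk'⟩ =>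
    ⟨⟨x, hx⟩, ⟨k, by rw [← map_pow, show (⟨x, hx⟩ : ↥(H.comap σ)) ^ p ^ k = 1 from Subtype.ext hk', map_one]⟩, rfl⟩
  rw [eq_bot_iff]
  rintro z ⟨hz, hzk⟩
  obtain ⟨⟨x, hx⟩, ⟨k, hk'⟩, rfl⟩ := hle hz
  obtain ⟨l, hl⟩ := hker ⟨x, hzk⟩
  have h1 : (⟨x, hx⟩ : ↥(H.comap σ)) ^ p ^ k ∈ commutator ↥(H.comap σ) :=
    (Abelianization.ker_of _).le (by rw [MonoidHom.mem_ker, map_pow]; exact hk')
  have h2 := mem_map_of_mem (H.comap σ).subtype h1
  rw [map_subtype_commutator] at h2
  have h3 : x ^ p ^ k = 1 := hH.eq_one h2 (by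
    show σ (x ^ p ^ k) = 1
    rw [map_pow, show σ x = 1 from hzk, one_pow])
  exact mem_bot.2 (eq_one_of_two_primes hp hr hpr h3 (congrArg Subtype.val hl))

/-- Over a split subgroup generated by `p`-elements there is a complement. -/
theorem comp_pHat (hσ : Function.Surjective σ) (hp : p.Prime) (hr : r.Prime) (hpr : p ≠ r)
    (hker : IsPGroup r σ.ker) (hg : PGen p H) (hH : Split σ H) : Comp σ H (pHat p σ H) :=
  ⟨map_pHat hσ hp hr hpr hker hg, pHat_inf_ker hp hr hpr hker hH⟩

theorem conj_mem_pHat {g : E} (hg : ∀ h ∈ H, σ g * h * (σ g)⁻¹ ∈ H) {x : E}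
    (hx : x ∈ pHat p σ H) : g * x * g⁻¹ ∈ pHat p σ H := by
  have : pHat p σ H ≤ (pHat p σ H).comap (MulAut.conj g).toMonoidHom :=
    (closure_le _).2 fun y ⟨hy, k, hyk⟩ => subset_closure ⟨by
      rw [MulEquiv.coe_toMonoidHom, MulAut.conj_apply, map_mul, map_mul, map_inv]; exact hg _ hy,
      k, by rw [MulEquiv.coe_toMonoidHom, ← map_pow, hyk, map_one]⟩
  exact this hx

/-- Lifts commute with lifts of a subgroup generated by `p`-elements centralised below. -/
theorem commute_of_pGen (hk : σ.ker ≤ center E) (hσ : Function.Surjective σ) (hp : p.Prime)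
    (hr : r.Prime) (hpr : p ≠ r) (hker : IsPGroup r σ.ker) (hH : PGen p H) {x u : E}
    (hx : σ x ∈ H) (hu : ∀ h ∈ H, Commute h (σ u)) : Commute x u := by
  have hle : H ≤ (centralizer {u}).map σ := hH.trans ((closure_le _).2 fun g ⟨hg, k, hgk⟩ => by
    obtain ⟨y, rfl, hy⟩ := exists_pLift hσ hp hr hpr hker hgk
    refine mem_map_of_mem σ (mem_centralizer_singleton_iff.2 ?_)
    have hz : σ ⁅y, u⁆ = 1 := by
      rw [map_commutatorElement]; exact commutatorElement_eq_one_iff_commute.2 (hu _ hg)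
    have hzc : ∀ w, Commute w ⁅y, u⁆ := fun w => commute_ker hk hz w
    have hpow : ∀ N : ℕ, y ^ N * u = ⁅y, u⁆ ^ N * (u * y ^ N) := by
      intro N
      induction N with
      | zero => simp
      | succ N ih =>
        have h1 : y * u = ⁅y, u⁆ * (u * y) := by rw [commutatorElement_def]; group
        calc y ^ (N + 1) * u = y ^ N * (y * u) := by rw [pow_succ, mul_assoc]
          _ = ⁅y, u⁆ * (y ^ N * u) * y := by
            rw [h1, ← mul_assoc, (hzc _).eq]; group
          _ = ⁅y, u⁆ ^ (N + 1) * (u * y ^ (N + 1)) := by rw [ih, pow_succ', pow_succ]; group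
    have h2 := hpow (p ^ k)
    rw [hy, one_mul, mul_one] at h2
    obtain ⟨l, hl⟩ := hker ⟨_, hz⟩
    have h3 := eq_one_of_two_primes hp hr hpr (mul_eq_right.1 h2.symm) (congrArg Subtype.val hl)
    exact commutatorElement_eq_one_iff_mul_comm.1 h3)
  obtain ⟨c, hc, hcx⟩ := hle hx
  exact commutatorElement_eq_one_iff_commute.1 ((Schur.Fusion.commutator_congr hk hcx.symm rfl).trans
    (commutatorElement_eq_one_iff_mul_comm.2 (mem_centralizer_singleton_iff.1 hc)))

end RGroup

/-! ### Passing to Schur multipliers -/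

/-- No central extension with an `r`-group kernel has a kernel element in its derived group. -/
def Tame (r : ℕ) (G : Type u) [Group G] : Prop :=
  ∀ (E : Type u) [Group E] [Finite E] (σ : E →* G), Function.Surjective σ → σ.ker ≤ center E →
    IsPGroup r σ.ker → commutator E ⊓ σ.ker = ⊥

/-- Tameness passes to the preimage of an isomorphic copy. -/
theorem Tame.split_range {r : ℕ} {X : Type u} [Group X] {G : Type u} [Group G] (h : Tame r X)
    {ι : X →* G} (hι : Function.Injective ι) {E : Type u} [Group E] [Finite E] {σ : E →* G}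
    (hσ : Function.Surjective σ) (hk : σ.ker ≤ center E) (hker : IsPGroup r σ.ker) :
    Split σ ι.range := by
  let P := ι.range.comap σ
  let τ : P →* X := (MonoidHom.ofInjective hι).symm.toMonoidHom.comp (σ.subgroupComap ι.range)
  have hτ : ∀ x : P, τ x = 1 ↔ σ (x : E) = 1 := fun x => by
    simp only [τ, MonoidHom.comp_apply, MulEquiv.coe_toMonoidHom, EmbeddingLike.map_eq_one_iff,
      Subtype.ext_iff]
    rfl
  have hs : Function.Surjective τ := fun x => by
    obtain ⟨y, hy⟩ := hσ (ι x)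
    refine ⟨⟨y, mem_comap.2 (hy ▸ ⟨x, rfl⟩)⟩, ?_⟩
    show (MonoidHom.ofInjective hι).symm _ = x
    rw [MulEquiv.symm_apply_eq]
    exact Subtype.ext hy
  have hc : τ.ker ≤ center P := fun x hx => mem_center_iff.2 fun y =>
    Subtype.ext (mem_center_iff.1 (hk ((hτ x).1 hx)) y)
  have hpg : IsPGroup r τ.ker := fun x => by
    obtain ⟨l, hl⟩ := hker ⟨_, (hτ x.1).1 x.2⟩
    exact ⟨l, Subtype.ext (Subtype.ext (congrArg Subtype.val hl :))⟩
  have hbot := h P τ hs hc hpg
  rw [split_iff]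
  intro z hz hz1
  rw [← map_subtype_commutator] at hz
  obtain ⟨w, hw, rfl⟩ := hz
  have : w ∈ commutator P ⊓ τ.ker := mem_inf.2 ⟨hw, (hτ w).2 hz1⟩
  rw [hbot, mem_bot] at this
  rw [this, map_one]

/-- Tameness at every prime kills all the central extensions. -/
theorem commutator_inf_ker_eq_bot {G : Type u} [Group G] (h : ∀ r, r.Prime → Tame r G)
    {E : Type u} [Group E] [Finite E] {σ : E →* G} (hσ : Function.Surjective σ)
    (hk : σ.ker ≤ center E) : commutator E ⊓ σ.ker = ⊥ := by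
  rw [eq_bot_iff]
  rintro z ⟨hz, hzk⟩
  by_contra hne
  have hne' : orderOf z ≠ 1 := fun h1 => hne (mem_bot.2 (orderOf_eq_one_iff.1 h1))
  obtain ⟨r, hr, hrd⟩ := Nat.exists_prime_and_dvd hne'
  let M : Subgroup E :=
    { carrier := {x | x ∈ σ.ker ∧ (orderOf x).Coprime r}
      one_mem' := ⟨one_mem _, by simp⟩
      mul_mem' := fun {a b} ha hb => ⟨mul_mem ha.1 hb.1, Nat.Coprime.coprime_dvd_left
        (Commute.orderOf_mul_dvd_mul_orderOf (commute_ker hk hb.1 a))
        (Nat.Coprime.mul_left ha.2 hb.2)⟩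
      inv_mem' := fun {a} ha => ⟨inv_mem ha.1, by rw [orderOf_inv]; exact ha.2⟩ }
  haveI : M.Normal := ⟨fun x hx g => by
    rw [(commute_ker hk hx.1 g).eq, mul_inv_cancel_right]; exact hx⟩
  let τ : E ⧸ M →* G := QuotientGroup.lift M σ fun x hx => hx.1
  have hτs : Function.Surjective τ := fun g => by
    obtain ⟨x, rfl⟩ := hσ g; exact ⟨QuotientGroup.mk' M x, rfl⟩
  have hτk : τ.ker ≤ center (E ⧸ M) := fun x hx => by
    obtain ⟨x, rfl⟩ := QuotientGroup.mk'_surjective M x
    refine mem_center_iff.2 fun y => ?_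
    obtain ⟨y, rfl⟩ := QuotientGroup.mk'_surjective M y
    rw [← map_mul, ← map_mul, (commute_ker hk (show σ x = 1 from hx) y).eq]
  have hpg : IsPGroup r τ.ker := fun x => by
    obtain ⟨w, hw⟩ := QuotientGroup.mk'_surjective M x.1
    have hwk : σ w = 1 := by
      have h0 : τ x.1 = 1 := x.2
      rwa [← hw] at h0
    obtain ⟨k, c, hc, he⟩ := Nat.exists_eq_pow_mul_and_not_dvd (orderOf_pos w).ne' r hr.ne_one
    refine ⟨k, Subtype.ext ?_⟩
    rw [coe_pow, ← hw, ← map_pow, coe_one]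
    refine (QuotientGroup.eq_one_iff _).2 ⟨pow_mem hwk _, ?_⟩
    rw [orderOf_pow, he, Nat.gcd_mul_right_left, Nat.mul_div_cancel_left _ (pow_pos hr.pos k)]
    exact ((hr.coprime_iff_not_dvd).2 hc).symm
  have hd : QuotientGroup.mk' M z ∈ commutator (E ⧸ M) ⊓ τ.ker := by
    refine mem_inf.2 ⟨?_, show τ (QuotientGroup.mk' M z) = 1 from hzk⟩
    have := mem_map_of_mem (QuotientGroup.mk' M) hz
    rw [commutator_def, map_commutator] at this
    exact commutator_mono le_top le_top this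
  rw [h r hr (E ⧸ M) τ hτs hτk hpg, mem_bot] at hd
  exact hr.ne_one (Nat.eq_one_of_dvd_coprimes ((QuotientGroup.eq_one_iff z).1 hd).2 hrd (dvd_refl r))

/-- A stem extension of a tame group gives the multiplier. -/
theorem hasCyclic_of_tame {S : Type u} [Group S] [Finite S] {G : Type u} [Group G]
    (h : ∀ r, r.Prime → Tame r S) (σ : S →* G) (hσ : Cfsg.IsStemExtension σ)
    (hperf : commutator S = ⊤) (hcyc : IsCyclic σ.ker) {c : ℕ} (hc : Nat.card σ.ker = c) :
    Cfsg.HasCyclicSchurMultiplier G c := by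
  haveI : Finite G := Finite.of_surjective σ hσ.1
  haveI := hcyc
  refine Multiplier.hasSchurMultiplier_of_cover σ hσ
    (mulEquivOfCyclicCardEq (by rw [hc, Nat.card_congr Multiplicative.toAdd, Nat.card_zmod])) ?_
  intro Δ _ _ δ hδ
  rw [Nat.card_congr Multiplicative.toAdd, Nat.card_zmod, ← hc]
  let P : Subgroup (Δ × S) :=
    { carrier := {x | δ x.1 = σ x.2}
      one_mem' := by simp
      mul_mem' := fun {a b} ha hb => by
        show δ (a.1 * b.1) = σ (a.2 * b.2)
        rw [map_mul, map_mul, show δ a.1 = σ a.2 from ha, show δ b.1 = σ b.2 from hb]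
      inv_mem' := fun {a} ha => by
        show δ a.1⁻¹ = σ a.2⁻¹
        rw [map_inv, map_inv, show δ a.1 = σ a.2 from ha] }
  let π : P →* S := (MonoidHom.snd Δ S).comp P.subtype
  have hπs : Function.Surjective π := fun s => by
    obtain ⟨d, hd⟩ := hδ.1 (σ s); exact ⟨⟨(d, s), hd⟩, rfl⟩
  have hπk : π.ker ≤ center P := fun x hx => mem_center_iff.2 fun y => by
    have h2 : x.1.2 = 1 := hx
    have h1 : δ x.1.1 = 1 := by rw [show δ x.1.1 = σ x.1.2 from x.2, h2, map_one]
    refine Subtype.ext (Prod.ext (mem_center_iff.1 (hδ.2.1 h1) y.1.1) ?_)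
    show y.1.2 * x.1.2 = x.1.2 * y.1.2
    rw [h2, mul_one, one_mul]
  have hbot := commutator_inf_ker_eq_bot h hπs hπk
  have hmap : (commutator P).map π = ⊤ := by
    rw [commutator_def, map_commutator, ← MonoidHom.range_eq_map, MonoidHom.range_eq_top.2 hπs,
      ← commutator_def, hperf]
  have hcomp : Comp π ⊤ (commutator P) := ⟨hmap, hbot⟩
  obtain ⟨s, hs, -⟩ := hcomp.exists_section (MonoidHom.id S) le_top
  let τ : S →* Δ := (MonoidHom.fst Δ S).comp (P.subtype.comp s)
  have hτ : ∀ g, δ (τ g) = σ g := fun g => by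
    have h2 : (s g).1.2 = g := congrArg (fun f : S →* S => f g) hs
    rw [show δ (τ g) = σ (s g).1.2 from (s g).2, h2]
  have hrange : τ.range = ⊤ := by
    have hle : commutator Δ ≤ τ.range := by
      rw [commutator_def, commutator_le]
      intro x _ y _
      obtain ⟨gx, hgx⟩ := hσ.1 (δ x)
      obtain ⟨gy, hgy⟩ := hσ.1 (δ y)
      refine ⟨⁅gx, gy⁆, ?_⟩
      rw [map_commutatorElement]
      exact Schur.Fusion.commutator_congr hδ.2.1 (by rw [hτ, hgx]) (by rw [hτ, hgy])
    rw [eq_top_iff]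
    intro d _
    obtain ⟨g, hg⟩ := hσ.1 (δ d)
    have hk' : (τ g)⁻¹ * d ∈ δ.ker := by
      rw [MonoidHom.mem_ker, map_mul, map_inv, hτ, hg, inv_mul_cancel]
    have := mul_mem (MonoidHom.mem_range.2 ⟨g, rfl⟩ : τ g ∈ τ.range) (hle (hδ.2.2 hk'))
    rwa [mul_inv_cancel_left] at this
  refine Nat.card_le_card_of_surjective
    (fun z : σ.ker => (⟨τ z.1, by rw [MonoidHom.mem_ker, hτ]; exact z.2⟩ : δ.ker)) ?_
  rintro ⟨d, hd⟩
  obtain ⟨g, rfl⟩ : d ∈ τ.range := hrange ▸ Subgroup.mem_top d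
  exact ⟨⟨g, by rw [MonoidHom.mem_ker, ← hτ]; exact hd⟩, rfl⟩

end Cfsg.Agent.Lib.MultPSU
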