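import Mathlib
import Cfsg.Agent.Lib.Unitary.Order

/-!
Lib/MultPSU/Val: the `r`-part of the order of `GU n`, and the three shapes of `n` that matter.
-/

set_option autoImplicit false
set_option linter.unusedSectionVars false

namespace Cfsg.Agent.Lib.MultPSU

open Nat

/-- The exponent of `r` in `(-q) ^ i - 1`. -/
def gv (r q i : ℕ) : ℕ := padicValInt r ((-(q : ℤ)) ^ i - 1)

/-- The exponent of `r` in the order of `GU n`. -/
def vGU (r q n : ℕ) : ℕ := ∑ i ∈ Finset.range n, gv r q (i + 1)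

variable {r q : ℕ}

theorem pow_sub_one_ne_zero (hq : 1 < q) {i : ℕ} (hi : i ≠ 0) : (-(q : ℤ)) ^ i - 1 ≠ 0 := by
  intro h
  have h1 : ((-(q : ℤ)) ^ i).natAbs = 1 := by rw [sub_eq_zero.1 h]; rfl
  rw [Int.natAbs_pow, Int.natAbs_neg, Int.natAbs_natCast] at h1
  exact absurd h1 (Nat.one_lt_pow hi hq).ne'

theorem natAbs_pow_sub_one (hq : 1 < q) (i : ℕ) :
    ((-(q : ℤ)) ^ (i + 1) - 1).natAbs = if Even i then q ^ (i + 1) + 1 else q ^ (i + 1) - 1 := by
  have h1 : 1 ≤ q ^ (i + 1) := Nat.one_le_pow _ _ (by omega)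
  split_ifs with h
  · rw [Odd.neg_pow h.add_one, show -((q : ℤ) ^ (i + 1)) - 1 = -((q ^ (i + 1) + 1 : ℕ) : ℤ) by
      push_cast; ring, Int.natAbs_neg, Int.natAbs_natCast]
  · rw [Even.neg_pow (Nat.not_even_iff_odd.1 h).add_one, show ((q : ℤ) ^ (i + 1)) - 1 =
      ((q ^ (i + 1) - 1 : ℕ) : ℤ) by rw [Nat.cast_sub h1]; push_cast; ring, Int.natAbs_natCast]

variable {F : Type*} [Field F] [Fintype F]

open Cfsg.Agent.Lib.Unitary in
theorem padicValNat_card_GU (hF : Fintype.card F = q ^ 2) (hr : r.Prime) (hrq : ¬ r ∣ q) (n : ℕ) :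
    padicValNat r (Nat.card (GU n F q)) = vGU r q n := by
  haveI := Fact.mk hr
  have hq := one_lt_q hF
  rw [card_GU hF]
  have hne : ∀ i, (if Even i then q ^ (i + 1) + 1 else q ^ (i + 1) - 1) ≠ 0 := fun i => by
    rw [← natAbs_pow_sub_one hq, Int.natAbs_ne_zero]; exact pow_sub_one_ne_zero hq (by omega)
  rw [padicValNat.mul (pow_ne_zero _ (by omega)) (Finset.prod_ne_zero_iff.2 fun i _ => hne i),
    padicValNat.pow, padicValNat.eq_zero_of_not_dvd hrq, mul_zero, zero_add]
  unfold vGU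
  induction n with
  | zero => simp
  | succ n ih =>
    rw [Finset.prod_range_succ, Finset.sum_range_succ,
      padicValNat.mul (Finset.prod_ne_zero_iff.2 fun i _ => hne i) (hne n), ih]
    congr 1
    rw [gv, padicValInt, natAbs_pow_sub_one hq]

theorem enat_padicValInt (hr : r.Prime) {z : ℤ} (hz : z ≠ 0) :
    (padicValInt r z : ℕ∞) = emultiplicity (r : ℤ) z := by
  haveI := Fact.mk hr
  rw [← Int.emultiplicity_natAbs, padicValInt]
  exact padicValNat_eq_emultiplicity (Int.natAbs_ne_zero.2 hz)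

theorem enat_padicValNat (hr : r.Prime) {m : ℕ} (hm : m ≠ 0) :
    (padicValNat r m : ℕ∞) = emultiplicity r m := by
  haveI := Fact.mk hr
  exact padicValNat_eq_emultiplicity hm

variable (hr : r.Prime) (hq : 1 < q) (hrq : ¬ r ∣ q)

include hr hq hrq

/-- For odd `r` the exponents are governed by the order of `-q` modulo `r`. -/
theorem gv_odd (hr2 : r ≠ 2) :
    ∃ e s : ℕ, 1 ≤ e ∧ 1 ≤ s ∧
      ∀ i, i ≠ 0 → gv r q i = if e ∣ i then s + padicValNat r (i / e) else 0 := by
  haveI := Fact.mk hr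
  set x : ℤ := -(q : ℤ)
  have hx0 : (x : ZMod r) ≠ 0 := by
    simp only [x, Int.cast_neg, Int.cast_natCast, ne_eq, neg_eq_zero, ZMod.natCast_eq_zero_iff]
    exact hrq
  set e := orderOf (x : ZMod r)
  have he : 1 ≤ e := orderOf_pos_iff.2 (isOfFinOrder_iff_pow_eq_one.2
    ⟨r - 1, by have := hr.two_le; omega, ZMod.pow_card_sub_one_eq_one hx0⟩)
  have hdvd : ∀ i, (r : ℤ) ∣ x ^ i - 1 ↔ e ∣ i := fun i => by
    rw [← ZMod.intCast_zmod_eq_zero_iff_dvd, orderOf_dvd_iff_pow_eq_one]
    push_cast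
    rw [sub_eq_zero]
  refine ⟨e, gv r q e, he, ?_, fun i hi => ?_⟩
  · rw [Nat.one_le_iff_ne_zero, gv, Ne, padicValInt.eq_zero_iff]
    push Not
    exact ⟨hr.ne_one, pow_sub_one_ne_zero hq (by omega), (hdvd e).2 dvd_rfl⟩
  · split_ifs with h
    · obtain ⟨j, rfl⟩ := h
      have hj : j ≠ 0 := fun h0 => hi (by simp [h0])
      rw [Nat.mul_div_cancel_left _ (by omega)]
      have hndx : ¬ (r : ℤ) ∣ x ^ e := fun hd => by
        have := (Nat.prime_iff_prime_int.1 hr).dvd_of_dvd_pow hd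
        rw [Int.dvd_neg, Int.natCast_dvd_natCast] at this
        exact hrq this
      have h1 := Int.emultiplicity_pow_sub_pow (x := x ^ e) (y := 1) hr (hr.odd_of_ne_two hr2)
        ((hdvd e).2 dvd_rfl) hndx j
      rw [one_pow, ← pow_mul, ← enat_padicValInt hr (pow_sub_one_ne_zero hq hi),
        ← enat_padicValInt hr (pow_sub_one_ne_zero hq (by omega)), ← enat_padicValNat hr hj] at h1
      simp only [gv]
      exact_mod_cast h1
    · exact padicValInt.eq_zero_of_not_dvd fun hd => h ((hdvd i).1 hd)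

omit hr in
/-- The exponents of two. -/
theorem gv_two (hr2 : r = 2) :
    ∃ d : ℕ, 1 ≤ gv r q 1 ∧ ∀ i, i ≠ 0 →
      gv r q i = if Even i then gv r q 1 + d + padicValNat r (i / 2) else gv r q 1 := by
  subst hr2
  haveI := Fact.mk Nat.prime_two
  set x : ℤ := -(q : ℤ)
  have hodd : ¬ (2 : ℤ) ∣ x := fun h => by
    rw [Int.dvd_neg] at h
    exact hrq (by exact_mod_cast h)
  have hx1 : (2 : ℤ) ∣ x - 1 := by omega
  have hxp : x + 1 ≠ 0 := by simp only [x]; omega
  have hx1' : x - 1 ≠ 0 := by simp only [x]; omega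
  have h2v : ∀ z : ℤ, z ≠ 0 → (padicValInt 2 z : ℕ∞) = emultiplicity (2 : ℤ) z := fun z hz => by
    simpa using enat_padicValInt Nat.prime_two hz
  refine ⟨padicValInt 2 (x + 1), ?_, fun i hi => ?_⟩
  · rw [Nat.one_le_iff_ne_zero, gv, Ne, padicValInt.eq_zero_iff, pow_one]
    push Not
    exact ⟨by norm_num, hx1', by exact_mod_cast hx1⟩
  · have e0 : gv 2 q 1 = padicValInt 2 (x - 1) := by rw [gv, pow_one]
    rw [e0]
    have hgi : (gv 2 q i : ℕ∞) = emultiplicity (2 : ℤ) (x ^ i - 1) :=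
      h2v _ (pow_sub_one_ne_zero hq hi)
    split_ifs with h
    · obtain ⟨j, rfl⟩ := h
      have h1 := Int.two_pow_sub_pow (x := x) (y := 1) (by exact_mod_cast hx1) hodd
        (show Even (j + j) from ⟨j, rfl⟩)
      rw [one_pow, ← hgi, ← h2v _ hxp,
        ← h2v _ hx1',
        show emultiplicity (2 : ℤ) ((j + j : ℕ) : ℤ) = emultiplicity 2 (j + j) from by exact_mod_cast Int.natCast_emultiplicity 2 (j + j), ← enat_padicValNat Nat.prime_two hi] at h1
      have h2 : padicValNat 2 (j + j) = padicValNat 2 j + 1 := by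
        rw [← two_mul, padicValNat.mul (by norm_num) (by omega), padicValNat_self]; omega
      rw [h2] at h1
      rw [show (j + j) / 2 = j by omega]
      have : gv 2 q (j + j) + 1 = padicValInt 2 (x + 1) + padicValInt 2 (x - 1) + (padicValNat 2 j + 1) := by
        exact_mod_cast h1
      omega
    · have h1 := emultiplicity_pow_sub_pow_of_prime (p := (2 : ℤ)) Int.prime_two (x := x) (y := 1)
        hx1 hodd (n := i) (fun hd => h (even_iff_two_dvd.2 (by exact_mod_cast hd)))
      rw [one_pow, ← hgi, ← h2v _ hx1'] at h1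
      exact_mod_cast h1

/-- For odd `r`. -/
theorem vGU_odd (hr2 : r ≠ 2) :
    ∃ e s : ℕ, 1 ≤ e ∧ 1 ≤ s ∧ ∀ n, vGU r q n = n / e * s + padicValNat r (n / e)! := by
  haveI := Fact.mk hr
  obtain ⟨e, s, he, hs, h⟩ := gv_odd hr hq hrq hr2
  refine ⟨e, s, he, hs, fun n => ?_⟩
  induction n with
  | zero => simp [vGU]
  | succ n ih =>
    rw [vGU, Finset.sum_range_succ, ← vGU, ih, h (n + 1) (by omega), Nat.succ_div]
    split_ifs with hd
    · rw [Nat.factorial_succ, padicValNat.mul (Nat.succ_ne_zero _) (Nat.factorial_ne_zero _),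
        Nat.add_mul, one_mul]
      ring
    · rfl

/-- For `r = 2`. -/
theorem vGU_two (hr2 : r = 2) :
    ∃ s d : ℕ, 1 ≤ s ∧ ∀ n, vGU r q n = n * s + n / 2 * d + padicValNat r (n / 2)! := by
  haveI := Fact.mk hr
  obtain ⟨d, hs, h⟩ := gv_two hq hrq hr2
  refine ⟨gv r q 1, d, hs, fun n => ?_⟩
  induction n with
  | zero => simp [vGU]
  | succ n ih =>
    rw [vGU, Finset.sum_range_succ, ← vGU, ih, h (n + 1) (by omega), Nat.succ_div]
    by_cases he : Even (n + 1)
    · rw [if_pos he, if_pos (even_iff_two_dvd.1 he), Nat.factorial_succ,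
        padicValNat.mul (by omega) (Nat.factorial_ne_zero _), Nat.add_mul (n / 2) 1, one_mul,
        Nat.add_mul n 1, one_mul]
      ring
    · rw [if_neg he, if_neg (fun h2 => he (even_iff_two_dvd.2 h2)), Nat.add_zero]
      ring

omit hq hrq in
theorem padicValNat_factorial_pow_mul (a c : ℕ) :
    padicValNat r (r ^ a * c)! = c * padicValNat r (r ^ a)! + padicValNat r c ! := by
  haveI := Fact.mk hr
  induction a with
  | zero => simp
  | succ a ih =>
    have e1 : padicValNat r (r ^ (a + 1))! = r ^ a + padicValNat r (r ^ a)! := by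
      rw [pow_succ', padicValNat_factorial_mul, Nat.add_comm]
    rw [show r ^ (a + 1) * c = r * (r ^ a * c) by ring, padicValNat_factorial_mul, ih, e1]
    ring

omit hq hrq in
theorem padicValNat_factorial_pow (a : ℕ) :
    padicValNat r (r ^ (a + 1))! = r * padicValNat r (r ^ a)! + 1 := by
  haveI := Fact.mk hr
  induction a with
  | zero =>
    rw [pow_one, pow_zero, show r ! = (r * 1)! by rw [mul_one], padicValNat_factorial_mul]
    simp
  | succ a ih =>
    have e1 : padicValNat r (r ^ a)! + r ^ a = r * padicValNat r (r ^ a)! + 1 := by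
      rw [← ih, pow_succ', padicValNat_factorial_mul]
    have e2 := congrArg (r * ·) e1
    simp only [mul_add, mul_one] at e2
    rw [pow_succ' r (a + 1), padicValNat_factorial_mul, ih, pow_succ' r a]
    simp only [mul_add, mul_one]
    omega

omit hq hrq in
/-- Splitting of a number which is not a power of `r`. -/
theorem factorial_split {j : ℕ} (hj : j ≠ 0) :
    (∃ i, 1 ≤ i ∧ i < j ∧ padicValNat r j ! = padicValNat r i ! + padicValNat r (j - i)!) ∨
      ∃ a, j = r ^ a := by
  haveI := Fact.mk hr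
  obtain ⟨a, c, hc, rfl⟩ := Nat.exists_eq_pow_mul_and_not_dvd hj r hr.ne_one
  rcases (show c = 1 ∨ 2 ≤ c from by rcases c with _ | _ | c <;> simp_all) with rfl | hc2
  · exact Or.inr ⟨a, mul_one _⟩
  · refine Or.inl ⟨r ^ a, Nat.one_le_pow _ _ hr.pos, ?_, ?_⟩
    · calc r ^ a = r ^ a * 1 := (mul_one _).symm
        _ < r ^ a * c := Nat.mul_lt_mul_of_pos_left (by omega) (pow_pos hr.pos a)
    · obtain ⟨c', rfl⟩ : ∃ c', c = c' + 1 := ⟨c - 1, by omega⟩
      rw [show r ^ a * (c' + 1) - r ^ a = r ^ a * c' by rw [mul_add, mul_one, Nat.add_sub_cancel],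
        padicValNat_factorial_pow_mul hr, padicValNat_factorial_pow_mul hr, Nat.factorial_succ,
        padicValNat.mul (by omega) (Nat.factorial_ne_zero _), padicValNat.eq_zero_of_not_dvd hc]
      ring

/-- The three shapes of `n`. -/
theorem shapes {n : ℕ} (hn : 2 ≤ n) :
    (∃ k, 1 ≤ k ∧ k < n ∧ vGU r q n = vGU r q k + vGU r q (n - k)) ∨
      (∃ b, 1 ≤ b ∧ n = r * b ∧ vGU r q n = r * vGU r q b + 1 ∧ (r = 2 → Even b)) ∨
      vGU r q (n - 1) = vGU r q 1 := by
  haveI := Fact.mk hr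
  by_cases hr2 : r = 2
  · obtain ⟨s, d, hs, hv⟩ := vGU_two hr hq hrq hr2
    rcases Nat.even_or_odd n with ⟨h, rfl⟩ | hodd
    · rcases factorial_split hr (j := h) (by omega) with ⟨i, hi1, hi2, hi⟩ | ⟨a, rfl⟩
      · refine Or.inl ⟨i + i, by omega, by omega, ?_⟩
        rw [hv, hv, hv, show (h + h) / 2 = h by omega, show (i + i) / 2 = i by omega,
          show (h + h - (i + i)) / 2 = h - i by omega, hi]
        obtain ⟨c, rfl⟩ := Nat.exists_eq_add_of_le hi2.le
        rw [show i + c + (i + c) - (i + i) = c + c by omega, show i + c - i = c by omega]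
        ring
      · rcases a with _ | a
        · exact Or.inr (Or.inr (by simp))
        · subst hr2
          refine Or.inr (Or.inl ⟨2 ^ (a + 1), Nat.one_le_pow _ _ (by norm_num), by ring, ?_,
            fun _ => ⟨2 ^ a, by ring⟩⟩)
          have e1 : (2 ^ (a + 1) + 2 ^ (a + 1)) / 2 = 2 ^ (a + 1) := by omega
          have e2 : 2 ^ (a + 1) / 2 = 2 ^ a := by rw [pow_succ]; omega
          rw [hv, hv, e1, e2, padicValNat_factorial_pow hr]
          ring
    · obtain ⟨m, rfl⟩ := hodd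
      refine Or.inl ⟨1, le_rfl, by omega, ?_⟩
      rw [hv, hv, hv, show (2 * m + 1 - 1) = 2 * m by omega, show (2 * m + 1) / 2 = m by omega,
        show 2 * m / 2 = m by omega]
      simp
      ring
  · obtain ⟨e, s, he, hs, hv⟩ := vGU_odd hr hq hrq hr2
    by_cases hd : e ∣ n
    · obtain ⟨j, rfl⟩ := hd
      have hj0 : j ≠ 0 := fun h0 => by subst h0; omega
      have ej : ∀ i, e * i / e = i := fun i => Nat.mul_div_cancel_left _ (by omega)
      rcases factorial_split hr (j := j) hj0 with ⟨i, hi1, hi2, hi⟩ | ⟨a, rfl⟩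
      · refine Or.inl ⟨e * i, Nat.mul_pos (by omega) (by omega), Nat.mul_lt_mul_of_pos_left hi2 he,
          ?_⟩
        rw [← Nat.mul_sub, hv, hv, hv, ej, ej, ej, hi]
        obtain ⟨c, rfl⟩ := Nat.exists_eq_add_of_le hi2.le
        rw [show i + c - i = c by omega]
        ring
      · rcases a with _ | a
        · refine Or.inr (Or.inr ?_)
          have h1 : (e * r ^ 0 - 1) / e = 0 := Nat.div_eq_of_lt (by simp; omega)
          have h2 : 1 / e = 0 := Nat.div_eq_of_lt (by simp at hn; omega)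
          rw [hv, hv, h1, h2]
        · refine Or.inr (Or.inl ⟨e * r ^ a, Nat.mul_pos (by omega) (pow_pos hr.pos a), by ring, ?_,
            fun h => absurd h hr2⟩)
          rw [hv, hv, ej, ej, padicValNat_factorial_pow hr]
          ring
    · refine Or.inl ⟨1, le_rfl, by omega, ?_⟩
      have he1 : e ≠ 1 := fun h => hd (h ▸ one_dvd n)
      have h1 : 1 / e = 0 := Nat.div_eq_of_lt (by omega)
      have h2 : (n - 1) / e = n / e := by
        have := Nat.succ_div (a := n - 1) (b := e)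
        rw [show n - 1 + 1 = n by omega, if_neg hd] at this
        omega
      rw [hv, hv, hv, h1, h2]
      simp

end Cfsg.Agent.Lib.MultPSU
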