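import Mathlib
import Cfsg.Agent.Lib.Unitary.Generation
import Cfsg.Agent.Lib.AutPSU.Root
import Cfsg.Agent.Lib.MultPSU.Ext
import Cfsg.Agent.Lib.MultPSU.Val

/-!
Lib/MultPSU/Blocks: block diagonal, diagonal and permutation elements of `GU n`; `SU n` is generated
by the elements of `p`-power order; indices of subgroups of `SU n` read in `GU n`.
-/

set_option autoImplicit false
set_option linter.unusedSectionVars false

namespace Cfsg.Agent.Lib.MultPSU

open Matrix Module Subgroup Cfsg.Agent.Lib.Unitary Cfsg.Agent.Lib.AutPSU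

universe u

variable {F : Type u} [Field F] [Fintype F] {q n : ℕ}

/-! ### Homomorphisms into `SU` -/

/-- A homomorphism into `GU` with determinant one lands in `SU`. -/
noncomputable def toSU {X : Type*} [Group X] (f : X →* GU n F q)
    (hdet : ∀ x, (f x).1.1.det = 1) : X →* SU n F q :=
  (MonoidHom.ofInjective (suToGU_injective (n := n) (F := F) (q := q))).symm.toMonoidHom.comp
    (f.codRestrict _ fun x => by
      rw [suToGU_range]; exact MonoidHom.mem_ker.2 (Units.ext (hdet x)))

theorem suToGU_toSU {X : Type*} [Group X] (f : X →* GU n F q) (hdet : ∀ x, (f x).1.1.det = 1)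
    (x : X) : suToGU n F q (toSU f hdet x) = f x :=
  congrArg Subtype.val ((MonoidHom.ofInjective suToGU_injective).apply_symm_apply
    (f.codRestrict (suToGU n F q).range (fun y => by
      rw [suToGU_range]; exact MonoidHom.mem_ker.2 (Units.ext (hdet y))) x))

theorem toSU_injective {X : Type*} [Group X] {f : X →* GU n F q}
    {hdet : ∀ x, (f x).1.1.det = 1} (hf : Function.Injective f) :
    Function.Injective (toSU f hdet) := fun a b h => hf (by
  rw [← suToGU_toSU f hdet, ← suToGU_toSU f hdet, h])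

/-- Conjugation of `SU` by an element of `GU`. -/
noncomputable def conjSU (g : GU n F q) : SU n F q →* SU n F q :=
  toSU ((MulAut.conj g).toMonoidHom.comp (suToGU n F q)) fun X => by
    simp only [MonoidHom.comp_apply, MulEquiv.coe_toMonoidHom, MulAut.conj_apply, Subgroup.coe_mul,
      Units.val_mul, Matrix.det_mul, suToGU_val, X.1.2, mul_one]
    rw [← Matrix.det_mul, ← Units.val_mul, ← Subgroup.coe_mul, mul_inv_cancel]
    simp

theorem conjSU_injective (g : GU n F q) : Function.Injective (conjSU g) :=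
  toSU_injective ((MulAut.conj g).injective.comp suToGU_injective)

/-! ### Block diagonal elements -/

section Blocks

variable {o : Type} [Fintype o] [DecidableEq o] {b : o → ℕ} (κ : (Σ i, Fin (b i)) ≃ Fin n)

/-- The block diagonal matrix. -/
def blockMat (M : ∀ i, Matrix (Fin (b i)) (Fin (b i)) F) : Matrix (Fin n) (Fin n) F :=
  (Matrix.blockDiagonal' M).submatrix κ.symm κ.symm

theorem blockMat_mulVec (M : ∀ i, Matrix (Fin (b i)) (Fin (b i)) F) (v : Fin n → F) (i : o)
    (k : Fin (b i)) : (blockMat κ M *ᵥ v) (κ ⟨i, k⟩) = (M i *ᵥ fun l => v (κ ⟨i, l⟩)) k := by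
  rw [blockMat, Matrix.submatrix_mulVec_equiv, Function.comp_apply, Equiv.symm_apply_apply]
  simp only [Matrix.mulVec, dotProduct, Fintype.sum_sigma]
  rw [Finset.sum_eq_single i]
  · simp [Matrix.blockDiagonal'_apply_eq]
  · intro j _ hj
    exact Finset.sum_eq_zero fun l _ => by rw [Matrix.blockDiagonal'_apply_ne M k l hj.symm, zero_mul]
  · simp

theorem herm_blocks (u v : Fin n → F) : hermForm n F q u v =
    ∑ i, hermForm (b i) F q (fun l => u (κ ⟨i, l⟩)) (fun l => v (κ ⟨i, l⟩)) := by
  simp only [hermForm]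
  rw [← κ.sum_comp, Fintype.sum_sigma]

theorem blockMat_preserving (M : ∀ i, GU (b i) F q) (u v : Fin n → F) :
    hermForm n F q (blockMat κ (fun i => (M i).1.1) *ᵥ u) (blockMat κ (fun i => (M i).1.1) *ᵥ v) =
      hermForm n F q u v := by
  rw [herm_blocks κ, herm_blocks κ u v]
  refine Finset.sum_congr rfl fun i _ => ?_
  rw [show (fun l => (blockMat κ (fun i => (M i).1.1) *ᵥ u) (κ ⟨i, l⟩)) =
      (M i).1.1 *ᵥ fun l => u (κ ⟨i, l⟩) from funext (blockMat_mulVec κ _ u i),
    show (fun l => (blockMat κ (fun i => (M i).1.1) *ᵥ v) (κ ⟨i, l⟩)) =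
      (M i).1.1 *ᵥ fun l => v (κ ⟨i, l⟩) from funext (blockMat_mulVec κ _ v i), GU_herm]

/-- The block diagonal embedding. -/
noncomputable def blockGU (hF : Fintype.card F = q ^ 2) : (∀ i, GU (b i) F q) →* GU n F q :=
  MonoidHom.mk' (fun M => mkGU hF (blockMat κ fun i => (M i).1.1) (blockMat_preserving κ M))
    fun A B => Subtype.ext (Units.ext (by
      show blockMat κ (fun i => ((A * B) i).1.1) = blockMat κ _ * blockMat κ _
      rw [blockMat, blockMat, blockMat, Matrix.submatrix_mul_equiv, ← Matrix.blockDiagonal'_mul]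
      rfl))

theorem blockGU_mulVec (hF : Fintype.card F = q ^ 2) (M : ∀ i, GU (b i) F q) (v : Fin n → F) (i : o)
    (k : Fin (b i)) :
    ((blockGU κ hF M).1.1 *ᵥ v) (κ ⟨i, k⟩) = ((M i).1.1 *ᵥ fun l => v (κ ⟨i, l⟩)) k :=
  blockMat_mulVec κ _ v i k

theorem blockGU_injective (hF : Fintype.card F = q ^ 2) : Function.Injective (blockGU κ hF) := by
  intro A B h
  have h1 : blockMat κ (fun i => (A i).1.1) = blockMat κ fun i => (B i).1.1 :=
    congrArg (fun X : GU n F q => X.1.1) h
  have h2 := congrArg (fun M => Matrix.submatrix M κ κ) h1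
  simp only [blockMat, Matrix.submatrix_submatrix, Equiv.symm_comp_self, Matrix.submatrix_id_id] at h2
  exact funext fun i => Subtype.ext (Units.ext (congrFun (Matrix.blockDiagonal'_injective h2) i))

theorem det_blockMat (M : ∀ i, Matrix (Fin (b i)) (Fin (b i)) F) :
    (blockMat κ M).det = ∏ i, (M i).det := by
  letI ord : LinearOrder o := LinearOrder.lift' (Fintype.equivFin o) (Fintype.equivFin o).injective
  rw [blockMat, Matrix.det_submatrix_equiv_self, (Matrix.blockTriangular_blockDiagonal' _).det_fintype]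
  refine Finset.prod_congr rfl fun i _ => ?_
  let e : Fin (b i) ≃ {x : Σ j, Fin (b j) // x.1 = i} :=
    (Equiv.sigmaSubtype (β := fun j => Fin (b j)) i).symm
  rw [← Matrix.det_submatrix_equiv_self e]
  congr 1
  ext k l
  simp only [Matrix.submatrix_apply, Matrix.toSquareBlock_def, e, Equiv.sigmaSubtype,
    Equiv.coe_fn_symm_mk]
  exact Matrix.blockDiagonal'_apply_eq M i k l

theorem det_blockGU (hF : Fintype.card F = q ^ 2) (M : ∀ i, GU (b i) F q) :
    (blockGU κ hF M).1.1.det = ∏ i, (M i).1.1.det := det_blockMat κ _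

/-- One block inside `SU`. -/
noncomputable def suBlock (hF : Fintype.card F = q ^ 2) (i : o) : SU (b i) F q →* SU n F q :=
  toSU (((blockGU κ hF).comp (MonoidHom.mulSingle (fun j => GU (b j) F q) i)).comp
      (suToGU (b i) F q)) fun X => by
    simp only [MonoidHom.comp_apply, det_blockGU]
    refine Finset.prod_eq_one fun j _ => ?_
    by_cases h : j = i
    · subst h; simp
    · simp [Pi.mulSingle_eq_of_ne h]

theorem suBlock_injective (hF : Fintype.card F = q ^ 2) (i : o) :
    Function.Injective (suBlock κ hF i) :=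
  toSU_injective ((blockGU_injective κ hF).comp
    ((Pi.mulSingle_injective i).comp suToGU_injective))

end Blocks

/-! ### Diagonal and permutation elements -/

theorem diag_preserving {c : Fin n → F} (hc : ∀ i, c i * c i ^ q = 1) (u v : Fin n → F) :
    hermForm n F q (Matrix.diagonal c *ᵥ u) (Matrix.diagonal c *ᵥ v) = hermForm n F q u v := by
  simp only [hermForm, Matrix.mulVec_diagonal, mul_pow]
  exact Finset.sum_congr rfl fun i _ => by linear_combination (u i * v i ^ q) * hc i

/-- A diagonal element. -/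
noncomputable def diagGU (hF : Fintype.card F = q ^ 2) (c : Fin n → F)
    (hc : ∀ i, c i * c i ^ q = 1) : GU n F q := mkGU hF (Matrix.diagonal c) (diag_preserving hc)

theorem diagGU_mulVec (hF : Fintype.card F = q ^ 2) (c : Fin n → F)
    (hc : ∀ i, c i * c i ^ q = 1) (v : Fin n → F) (i : Fin n) :
    ((diagGU hF c hc).1.1 *ᵥ v) i = c i * v i := Matrix.mulVec_diagonal c v i

theorem det_diagGU (hF : Fintype.card F = q ^ 2) (c : Fin n → F) (hc : ∀ i, c i * c i ^ q = 1) :
    (diagGU hF c hc).1.1.det = ∏ i, c i := Matrix.det_diagonal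

theorem perm_preserving (π : Equiv.Perm (Fin n)) (u v : Fin n → F) :
    hermForm n F q (π.permMatrix F *ᵥ u) (π.permMatrix F *ᵥ v) = hermForm n F q u v := by
  rw [Matrix.permMatrix_mulVec, Matrix.permMatrix_mulVec]
  exact Equiv.sum_comp π (fun i => u i * v i ^ q)

/-- A permutation element; it sends `v` to `v ∘ π`. -/
noncomputable def permGU (hF : Fintype.card F = q ^ 2) (π : Equiv.Perm (Fin n)) : GU n F q :=
  mkGU hF (π.permMatrix F) (perm_preserving π)

theorem permGU_mulVec (hF : Fintype.card F = q ^ 2) (π : Equiv.Perm (Fin n)) (v : Fin n → F) :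
    (permGU hF π).1.1 *ᵥ v = v ∘ π := Matrix.permMatrix_mulVec π

theorem det_permGU (hF : Fintype.card F = q ^ 2) (π : Equiv.Perm (Fin n)) :
    (permGU hF π).1.1.det = ((Equiv.Perm.sign π : ℤ) : F) := Matrix.det_permutation π

theorem permGU_pow_mulVec (hF : Fintype.card F = q ^ 2) (π : Equiv.Perm (Fin n)) :
    ∀ (k : ℕ) (v : Fin n → F), (permGU hF π ^ k).1.1 *ᵥ v = v ∘ (π ^ k : Equiv.Perm (Fin n))
  | 0, v => by simp
  | k + 1, v => by
    rw [pow_succ', GU_mul_mulVec, permGU_pow_mulVec hF π k v, permGU_mulVec, pow_succ,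
      Equiv.Perm.coe_mul]
    rfl

/-! ### Generation by `p`-elements -/

theorem pGen_iff_top {G : Type*} [Group G] {p : ℕ} :
    PGen p (⊤ : Subgroup G) ↔ closure {g : G | ∃ k : ℕ, g ^ p ^ k = 1} = ⊤ := by
  simp [PGen, top_le_iff]

theorem pGen_range {X G : Type*} [Group X] [Group G] {p : ℕ} (ι : X →* G)
    (h : PGen p (⊤ : Subgroup X)) : PGen p ι.range := by
  rw [PGen, MonoidHom.range_eq_map]
  conv_lhs => rw [← pGen_iff_top.1 h, MonoidHom.map_closure]
  refine closure_mono ?_
  rintro _ ⟨x, ⟨k, hk⟩, rfl⟩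
  exact ⟨⟨x, mem_top x, rfl⟩, k, by rw [← map_pow, hk, map_one]⟩

/-- The subgroup generated by the elements of `p`-power order. -/
def pPart (p : ℕ) (G : Type*) [Group G] : Subgroup G := closure {g : G | ∃ k : ℕ, g ^ p ^ k = 1}

theorem IsTvAt.pow (hF : Fintype.card F = q ^ 2) {v : Fin n → F} {c : F} {A : GU n F q}
    (hv : hermForm n F q v v = 0) (hA : IsTvAt v c A) :
    ∀ k : ℕ, IsTvAt v (k * c) (A ^ k)
  | 0 => fun x => by simp
  | k + 1 => fun x => by
    rw [pow_succ', GU_mul_mulVec, IsTvAt.pow hF hv hA k x, Matrix.mulVec_add, Matrix.mulVec_smul,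
      hA x, hA v, hv]
    simp only [mul_zero, zero_smul, add_zero, Nat.cast_add, Nat.cast_one, add_mul, one_mul, add_smul]
    abel

variable {p : ℕ} [CharP F p]

theorem TGroup_le_pPart (hF : Fintype.card F = q ^ 2) :
    TGroup F q n ≤ (pPart p (SU n F q)).map (suToGU n F q) := by
  refine (closure_le _).2 fun A hA => ?_
  obtain ⟨X, rfl⟩ : A ∈ (suToGU n F q).range := by
    rw [suToGU_range]; exact MonoidHom.mem_ker.2 (Units.ext (IsTv.det hF hA))
  obtain ⟨v, c, hv, -, hT⟩ := hA
  refine mem_map_of_mem _ (subset_closure ⟨1, suToGU_injective ?_⟩)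
  rw [map_pow, map_one, pow_one]
  exact GU_ext fun x => by rw [IsTvAt.pow hF hv hT p x, CharP.cast_eq_zero]; simp

theorem eq_one_of_fix_hyp_three (hF : Fintype.card F = q ^ 2) {e f : Fin 3 → F} (h : Hyp q e f)
    {k : SU 3 F q} (hke : k.1.1 *ᵥ e = e) (hkf : k.1.1 *ᵥ f = f) : k = 1 := by
  obtain ⟨c, hc, ho, hli⟩ := h.exists_complement hF
  obtain ⟨s, hs⟩ : ∃ s, k.1.1 *ᵥ c 0 = s • c 0 := by
    have he' : hermForm _ F q (k.1.1 *ᵥ c 0) e = 0 := by
      conv_lhs => arg 5; rw [← hke]
      rw [SU_herm, (ho 0).1]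
    have hf' : hermForm _ F q (k.1.1 *ᵥ c 0) f = 0 := by
      conv_lhs => arg 5; rw [← hkf]
      rw [SU_herm, (ho 0).2]
    have := h.complement_expand hF hc ho hli he' hf'
    exact ⟨_, this.trans (Fin.sum_univ_one _)⟩
  have hs1 : s * s ^ q = 1 := by
    have := SU_herm k (c 0) (c 0)
    rw [hs, herm_smul_left, herm_smul_right, hc 0 0, if_pos rfl, mul_one] at this
    exact this
  obtain ⟨S, hSdet, hSc, hSfix⟩ := exists_GU_scale hF (x := c 0) (by simpa using hc 0 0) hs1
  have hkS : suToGU 3 F q k = S := by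
    refine h.ext hF ?_ ?_ ?_
    · rw [suToGU_val, hke, hSfix e (herm_eq_zero_symm hF (ho 0).1)]
    · rw [suToGU_val, hkf, hSfix f (herm_eq_zero_symm hF (ho 0).2)]
    · intro v h1 h2
      rw [suToGU_val, (h.complement_expand hF hc ho hli h1 h2).trans (Fin.sum_univ_one _),
        Matrix.mulVec_smul, Matrix.mulVec_smul, hs, hSc]
  have hs' : s = 1 := by rw [← hSdet, ← hkS, suToGU_val, k.1.2]
  refine suToGU_injective ?_
  rw [map_one, hkS]
  refine h.ext hF ?_ ?_ ?_
  · rw [hSfix e (herm_eq_zero_symm hF (ho 0).1)]; simp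
  · rw [hSfix f (herm_eq_zero_symm hF (ho 0).2)]; simp
  · intro v h1 h2
    rw [(h.complement_expand hF hc ho hli h1 h2).trans (Fin.sum_univ_one _), Matrix.mulVec_smul,
      hSc, hs']
    simp

theorem pow_char_of_nilpotent {m : ℕ} {A : Matrix (Fin m) (Fin m) F} (hp : p.Prime)
    (hA : IsNilpotent (A - 1)) : ∃ k : ℕ, A ^ p ^ k = 1 := by
  haveI := Fact.mk hp
  rcases Nat.eq_zero_or_pos m with rfl | hm
  · exact ⟨0, Subsingleton.elim _ _⟩
  haveI : Nonempty (Fin m) := ⟨⟨0, hm⟩⟩
  obtain ⟨N, hN⟩ := hA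
  refine ⟨N, ?_⟩
  have h1 : (A - 1) ^ p ^ N = 0 := pow_eq_zero_of_le (Nat.lt_pow_self hp.one_lt).le hN
  rwa [sub_pow_char_pow_of_commute (p := p) (h := Commute.one_right A), one_pow, sub_eq_zero] at h1

theorem QS_pElement (hF : Fintype.card F = q ^ 2) (hp : p.Prime) {e f : Fin n → F} (h : Hyp q e f)
    {X : SU n F q} (hX : X ∈ QS e) : ∃ k : ℕ, X ^ p ^ k = 1 := by
  obtain ⟨z, d, hze, -, -, hA⟩ := QS_param hF h hX
  have hez : hermForm n F q e z = 0 := herm_eq_zero_symm hF hze
  obtain ⟨k, hk⟩ := pow_char_of_nilpotent (p := p) (A := (X.1.1 : Matrix (Fin n) (Fin n) F)) hp ⟨3, by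
    have hlin : ∀ x, ((X.1.1 : Matrix (Fin n) (Fin n) F) - 1) *ᵥ x = X.1.1 *ᵥ x - x := fun x => by
      rw [Matrix.sub_mulVec, Matrix.one_mulVec]
    have h1 : ∀ x, hermForm n F q (((X.1.1 : Matrix (Fin n) (Fin n) F) - 1) *ᵥ x) e = 0 := fun x => by
      rw [hlin, herm_sub_left, sub_eq_zero]
      conv_lhs => arg 5; rw [← hX.1]
      rw [SU_herm]
    have h2 : ∀ x, hermForm n F q x e = 0 → ∃ a : F, ((X.1.1 : Matrix (Fin n) (Fin n) F) - 1) *ᵥ x = a • e := by
      intro x hx
      obtain ⟨a, ha⟩ := hX.2 x hx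
      exact ⟨a, by rw [hlin, ha, add_sub_cancel_left]⟩
    refine Matrix.toLin'.injective (LinearMap.ext fun x => ?_)
    rw [map_zero, LinearMap.zero_apply, Matrix.toLin'_apply, pow_succ', pow_two, ← Matrix.mulVec_mulVec,
      ← Matrix.mulVec_mulVec]
    obtain ⟨a, ha⟩ := h2 _ (h1 x)
    rw [ha, Matrix.mulVec_smul, hlin e, hX.1, sub_self, smul_zero]⟩
  exact ⟨k, Subtype.ext (Subtype.ext (by simpa using hk))⟩

/-- `SU n` is generated by the elements of `p`-power order. -/
theorem pGen_SU (hF : Fintype.card F = q ^ 2) (hp : p.Prime) :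
    PGen p (⊤ : Subgroup (SU n F q)) := by
  rw [pGen_iff_top, eq_top_iff]
  intro g _
  show g ∈ pPart p (SU n F q)
  rcases (show n ≤ 1 ∨ n = 2 ∨ 3 ≤ n by omega) with hn | rfl | hn
  · haveI : Subsingleton (SU n F q) := ⟨fun A B => by
      refine Subtype.ext (Subtype.ext ?_)
      interval_cases n
      · exact Subsingleton.elim _ _
      · ext i j
        have hA := A.1.2
        have hB := B.1.2
        rw [Matrix.det_fin_one] at hA hB
        rw [Subsingleton.elim i 0, Subsingleton.elim j 0, hA, hB]⟩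
    rw [Subsingleton.elim g 1]; exact one_mem _
  · obtain ⟨X, hX, he⟩ := TGroup_le_pPart (p := p) hF
      (mem_TGroup_two hF (suToGU 2 F q g) (by simpa using g.1.2))
    rwa [suToGU_injective he] at hX
  · by_cases h32 : n = 3 ∧ q = 2
    swap
    · obtain ⟨X, hX, he⟩ := TGroup_le_pPart (p := p) hF
        (mem_TGroup hF hn h32 (suToGU n F q g) (by simpa using g.1.2))
      rwa [suToGU_injective he] at hX
    · obtain ⟨rfl, -⟩ := h32
      obtain ⟨e, f, h⟩ := exists_hyp_any (F := F) (n := 3) hF (by omega)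
      have he0 := ne_zero_of_hyp h
      obtain ⟨t, ht, hte⟩ := exists_mem_TGroup_isotropic hF (le_refl 3) (u := g.1.1 *ᵥ e)
        (fun h0 => he0 (by rw [← SU_inv_mulVec g e, h0, Matrix.mulVec_zero])) (by rw [SU_herm]; exact h.1)
        he0 h.1
      obtain ⟨T, hT, rfl⟩ := TGroup_le_pPart (p := p) hF ht
      set k := T * g
      have hke : k.1.1 *ᵥ e = e := by rw [SU_mul_mulVec]; exact hte
      set f' := k.1.1 *ᵥ f
      have hfe : hermForm 3 F q f' e = 1 := by
        conv_lhs => arg 5; rw [← hke]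
        rw [SU_herm]; exact h.symm' hF
      have hff : hermForm 3 F q f' f' = 0 := by rw [SU_herm]; exact h.2.1
      set d := hermForm 3 F q f' f
      set z := f' - f - d • e
      have hze : hermForm 3 F q z e = 0 := by
        simp [z, herm_sub_left, herm_smul_left, hfe, h.symm' hF, h.1]
      have hzf : hermForm 3 F q z f = 0 := by
        simp [z, herm_sub_left, herm_smul_left, h.2.1, h.2.2, d]
      have hd : d + d ^ q + hermForm 3 F q z z = 0 := by
        have e1 : f' = f + z + d • e := by simp only [z]; abel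
        rw [e1] at hff
        simp only [herm_add_left, herm_add_right _ _ _ hF, herm_smul_left, herm_smul_right, h.1,
          h.2.1, h.2.2, h.symm' hF, hze, hzf, herm_eq_zero_symm hF hze, herm_eq_zero_symm hF hzf,
          mul_zero, mul_one, add_zero, zero_add] at hff
        linear_combination hff
      obtain ⟨Y, hY⟩ := exists_SU_eich hF h.1 hze hd
      have hYQ := mem_QS_of_eich hF h.1 hze hY
      have hYf : Y.1.1 *ᵥ f = f' := by
        have h1 := hY f
        rw [suToGU_val, h.symm' hF, herm_eq_zero_symm hF hzf] at h1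
        rw [h1]
        simp only [z, zero_smul, one_smul, mul_one]
        abel
      have hk1 : Y⁻¹ * k = 1 := eq_one_of_fix_hyp_three hF h
        (by rw [SU_mul_mulVec, hke]; conv_lhs => rw [← hYQ.1, SU_inv_mulVec])
        (by rw [SU_mul_mulVec, show k.1.1 *ᵥ f = f' from rfl, ← hYf, SU_inv_mulVec])
      have hkY : k = Y := (inv_mul_eq_one.1 hk1).symm
      rw [show g = T⁻¹ * k by simp [k]]
      exact mul_mem (inv_mem hT) (hkY ▸ subset_closure (QS_pElement hF hp h hYQ))

/-! ### Indices -/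

/-- An index in `SU` read in `GU`. -/
theorem index_comap_suToGU (hF : Fintype.card F = q ^ 2) (B : Subgroup (GU n F q))
    (hB : ∀ A : GU n F q, ∃ g ∈ B, g.1.1.det = A.1.1.det) :
    (B.comap (suToGU n F q)).index = B.index := by
  set N := (suToGU n F q).range
  haveI hN : N.Normal := by simp only [N, suToGU_range]; infer_instance
  have hsup : B ⊔ N = ⊤ := eq_top_iff.2 fun A _ => by
    obtain ⟨g, hg, hdet⟩ := hB A
    have h1 : g⁻¹ * A ∈ N := by
      simp only [N, suToGU_range, MonoidHom.mem_ker, map_mul, map_inv,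
        show detGU n F q g = detGU n F q A from Units.ext hdet, inv_mul_cancel]
    have := (B ⊔ N).mul_mem (mem_sup_left hg) (mem_sup_right h1)
    rwa [mul_inv_cancel_left] at this
  have h1 : N.index = N.relIndex B := by
    rw [← relIndex_top_right, ← hsup, relIndex_sup_right]
  haveI := Finite.of_injective _ (fun (A B : GU n F q) (h : A.1.1 = B.1.1) => Subtype.ext (Units.ext h))
  have h2 : B.relIndex N * N.index = (B ⊓ N).index := by
    rw [← inf_relIndex_right, relIndex_mul_index inf_le_right]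
  have h3 : N.relIndex B * B.index = (B ⊓ N).index := by
    rw [← inf_relIndex_left, relIndex_mul_index inf_le_left]
  rw [← h1, ← h2, Nat.mul_comm] at h3
  rw [index_comap]
  exact (Nat.eq_of_mul_eq_mul_right (Nat.pos_of_ne_zero index_ne_zero_of_finite) h3).symm

end Cfsg.Agent.Lib.MultPSU
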