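import Mathlib
import Cfsg.Agent.Lib.MultPSU.Blocks
import Cfsg.Agent.Lib.HalfTransitive.MaxCase

/-!
Lib/MultPSU/Cross: `SU n` has no multiplier at primes other than the characteristic (induction on
`n`, reduction to block stabilisers, monomial subgroups, or a semiregular Sylow subgroup).
-/

set_option autoImplicit false
set_option linter.unusedSectionVars false

namespace Cfsg.Agent.Lib.MultPSU

open Matrix Module Subgroup Cfsg.Agent.Lib.Unitary Cfsg.Agent.Lib.AutPSU
open scoped commutatorElement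

universe u

variable {F : Type u} [Field F] [Fintype F] {q n : ℕ}

/-- Norm one scalars. -/
abbrev U1 (F : Type*) [Field F] (q : ℕ) : Subgroup Fˣ := (normHom F q).ker

theorem U1_norm (a : U1 F q) : ((a : Fˣ) : F) * ((a : Fˣ) : F) ^ q = 1 := by
  have h : (((a : Fˣ) ^ (q + 1) : Fˣ) : F) = 1 := congrArg Units.val (MonoidHom.mem_ker.1 a.2)
  rw [← h, Units.val_pow_eq_pow_val, pow_succ']

/-- A norm one scalar as an element of `U1`. -/
def mkU1 {c : F} (hc : c * c ^ q = 1) : U1 F q :=
  ⟨Units.mk0 c (fun h => by simp [h] at hc), MonoidHom.mem_ker.2 (Units.ext (by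
    show ((Units.mk0 c _ ^ (q + 1) : Fˣ) : F) = 1
    rw [Units.val_pow_eq_pow_val, Units.val_mk0, pow_succ', hc]))⟩

theorem mkU1_val {c : F} (hc : c * c ^ q = 1) : (((mkU1 hc : U1 F q) : Fˣ) : F) = c := rfl

/-- The first entry `a`, the others one. -/
def firstVec {m : ℕ} (a : U1 F q) (i : Fin m) : F := if i.1 = 0 then ((a : Fˣ) : F) else 1

theorem firstVec_norm {m : ℕ} (a : U1 F q) (i : Fin m) :
    firstVec a i * firstVec a i ^ q = 1 := by
  rw [firstVec]; split_ifs
  · exact U1_norm a
  · simp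

/-- The diagonal element with a given first entry. -/
noncomputable def firstGU (hF : Fintype.card F = q ^ 2) {m : ℕ} (_hm : 0 < m) :
    U1 F q →* GU m F q :=
  MonoidHom.mk' (fun a => diagGU hF (firstVec a) (firstVec_norm a)) fun a b => by
    refine GU_ext fun v => funext fun i => ?_
    rw [GU_mul_mulVec, diagGU_mulVec, diagGU_mulVec, diagGU_mulVec, firstVec, firstVec, firstVec]
    split_ifs with h <;> simp [mul_assoc]

theorem firstGU_mulVec (hF : Fintype.card F = q ^ 2) {m : ℕ} (hm : 0 < m) (a : U1 F q)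
    (v : Fin m → F) (i : Fin m) :
    ((firstGU hF hm a).1.1 *ᵥ v) i = (if i.1 = 0 then ((a : Fˣ) : F) else 1) * v i :=
  diagGU_mulVec hF (firstVec a) (firstVec_norm a) v i

theorem det_firstGU (hF : Fintype.card F = q ^ 2) {m : ℕ} (hm : 0 < m) (a : U1 F q) :
    (firstGU hF hm a).1.1.det = ((a : Fˣ) : F) := by
  refine (det_diagGU hF (firstVec a) (firstVec_norm a)).trans ?_
  rw [Finset.prod_eq_single (⟨0, hm⟩ : Fin m)]
  · simp [firstVec]
  · exact fun i _ hi => if_neg fun h => hi (Fin.ext h)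
  · simp

/-- The product of a family of norm one scalars, read in `F`. -/
noncomputable def prodU1 (F : Type*) [Field F] (q : ℕ) (o : Type*) [Fintype o] :
    (o → U1 F q) →* F where
  toFun a := ∏ i, ((a i : Fˣ) : F)
  map_one' := by simp
  map_mul' a b := by simp [Finset.prod_mul_distrib]

/-! ### Block stabilisers -/

section Block

variable {o : Type} [Fintype o] [DecidableEq o] {b : o → ℕ} (κ : (Σ i, Fin (b i)) ≃ Fin n)

/-- The product of the `SU` blocks. -/
noncomputable def blockSU (hF : Fintype.card F = q ^ 2) : (∀ i, SU (b i) F q) →* SU n F q :=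
  toSU ((blockGU κ hF).comp (MonoidHom.piMap fun i => suToGU (b i) F q)) fun X => by
    rw [MonoidHom.comp_apply, det_blockGU]
    exact Finset.prod_eq_one fun i _ => by simp

theorem suToGU_blockSU (hF : Fintype.card F = q ^ 2) (X : ∀ i, SU (b i) F q) :
    suToGU n F q (blockSU κ hF X) = blockGU κ hF fun i => suToGU (b i) F q (X i) :=
  suToGU_toSU _ _ X

theorem blockSU_injective (hF : Fintype.card F = q ^ 2) : Function.Injective (blockSU κ hF) :=
  toSU_injective ((blockGU_injective κ hF).comp fun _ _ h =>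
    funext fun i => suToGU_injective (congrFun h i))

theorem blockSU_single (hF : Fintype.card F = q ^ 2) (i : o) (X : SU (b i) F q) :
    blockSU κ hF (Pi.mulSingle i X) = suBlock κ hF i X := by
  refine suToGU_injective ?_
  rw [suToGU_blockSU, suBlock, suToGU_toSU]
  simp only [MonoidHom.comp_apply, MonoidHom.mulSingle_apply]
  congr 1
  funext j
  rcases eq_or_ne j i with rfl | h
  · simp
  · simp [Pi.mulSingle_eq_of_ne h]

theorem suBlock_commute (hF : Fintype.card F = q ^ 2) {i j : o} (h : i ≠ j) (X : SU (b i) F q)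
    (Y : SU (b j) F q) : Commute (suBlock κ hF i X) (suBlock κ hF j Y) := by
  rw [← blockSU_single, ← blockSU_single]
  exact Commute.map (Pi.mulSingle_commute (f := fun i => SU (b i) F q) h X Y) (blockSU κ hF)

/-- The block first entries as a family of unitary elements. -/
noncomputable def firstFamily (hF : Fintype.card F = q ^ 2) (hb : ∀ i, 0 < b i) :
    (o → U1 F q) →* (∀ i, GU (b i) F q) where
  toFun a i := firstGU hF (hb i) (a i)
  map_one' := funext fun i => map_one (firstGU hF (hb i))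
  map_mul' a c := funext fun i => map_mul (firstGU hF (hb i)) (a i) (c i)

/-- The diagonal group with block first entries of product one, in `GU`. -/
noncomputable def torusGU (hF : Fintype.card F = q ^ 2) (hb : ∀ i, 0 < b i) :
    ↥(prodU1 F q o).ker →* GU n F q :=
  (blockGU κ hF).comp ((firstFamily hF hb).domRestrict (prodU1 F q o).ker)

theorem det_torusGU (hF : Fintype.card F = q ^ 2) (hb : ∀ i, 0 < b i)
    (a : ↥(prodU1 F q o).ker) : (torusGU κ hF hb a).1.1.det = 1 :=
  (det_blockGU κ hF _).trans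
    ((Finset.prod_congr rfl fun i _ => det_firstGU hF (hb i) (a.1 i)).trans a.2)

/-- The diagonal group with block first entries of product one. -/
noncomputable def torus (hF : Fintype.card F = q ^ 2) (hb : ∀ i, 0 < b i) :
    ↥(prodU1 F q o).ker →* SU n F q :=
  toSU (torusGU κ hF hb) (det_torusGU κ hF hb)

theorem suToGU_torus (hF : Fintype.card F = q ^ 2) (hb : ∀ i, 0 < b i)
    (a : ↥(prodU1 F q o).ker) :
    suToGU n F q (torus κ hF hb a) = blockGU κ hF fun i => firstGU hF (hb i) (a.1 i) :=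
  suToGU_toSU _ _ a

/-- The block stabiliser in `SU` is the product of the blocks and the torus. -/
theorem comap_blockGU_le (hF : Fintype.card F = q ^ 2) (hb : ∀ i, 0 < b i) :
    (blockGU κ hF).range.comap (suToGU n F q) ≤
      (blockSU κ hF).range ⊔ (torus κ hF hb).range := by
  rintro X ⟨M, hM⟩
  let a : o → U1 F q := fun i => mkU1 (det_norm_one hF (M i))
  have ha : a ∈ (prodU1 F q o).ker := by
    show (∏ i, ((a i : Fˣ) : F)) = 1
    simp only [a, mkU1_val]
    rw [← det_blockGU κ hF, hM, suToGU_val, X.1.2]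
  have hY : ∀ i, ∃ Y : SU (b i) F q, suToGU (b i) F q Y = M i * (firstGU hF (hb i) (a i))⁻¹ := fun i => by
    rw [← MonoidHom.mem_range, suToGU_range, MonoidHom.mem_ker, map_mul, map_inv, mul_inv_eq_one]
    refine Units.ext ?_
    rw [detGU_val, detGU_val, det_firstGU, mkU1_val]
  choose Y hY using hY
  have : X = blockSU κ hF Y * torus κ hF hb ⟨a, ha⟩ := suToGU_injective (by
    rw [map_mul, suToGU_blockSU, suToGU_torus, ← map_mul, ← hM]
    congr 1
    funext i
    simp [hY])
  rw [this]
  exact mul_mem (mem_sup_left ⟨Y, rfl⟩) (mem_sup_right ⟨_, rfl⟩)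

theorem blockSU_inf_torus (hF : Fintype.card F = q ^ 2) (hb : ∀ i, 0 < b i) :
    (blockSU κ hF).range ⊓ (torus κ hF hb).range = ⊥ := by
  rw [eq_bot_iff]
  rintro _ ⟨⟨Y, rfl⟩, a, ha⟩
  have h := congrArg (suToGU n F q) ha
  rw [suToGU_torus, suToGU_blockSU] at h
  have h1 : a.1 = 1 := funext fun i => by
    have h2 := congrArg (fun A : GU (b i) F q => A.1.1.det) (congrFun (blockGU_injective κ hF h) i)
    simp only [det_firstGU, suToGU_val, (Y i).1.2] at h2
    exact Subtype.ext (Units.ext h2)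
  rw [mem_bot, ← ha, show a = 1 from Subtype.ext h1, map_one]

/-- Elements normalising the range of `blockSU`. -/
theorem conj_blockSU (hF : Fintype.card F = q ^ 2) {g : SU n F q}
    (hg : ∀ M : ∀ i, GU (b i) F q, (∀ i, (M i).1.1.det = 1) → ∃ M' : ∀ i, GU (b i) F q,
      (∀ i, (M' i).1.1.det = 1) ∧
        suToGU n F q g * blockGU κ hF M * (suToGU n F q g)⁻¹ = blockGU κ hF M')
    {x : SU n F q} (hx : x ∈ (blockSU κ hF).range) : g * x * g⁻¹ ∈ (blockSU κ hF).range := by
  obtain ⟨X, rfl⟩ := hx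
  obtain ⟨M', hdet, hM'⟩ := hg (fun i => suToGU (b i) F q (X i)) fun i => by simp
  have hY : ∀ i, ∃ Y : SU (b i) F q, suToGU (b i) F q Y = M' i := fun i => by
    rw [← MonoidHom.mem_range, suToGU_range]
    exact MonoidHom.mem_ker.2 (Units.ext (hdet i))
  choose Y hY using hY
  refine ⟨Y, suToGU_injective ?_⟩
  rw [map_mul, map_mul, map_inv, suToGU_blockSU, suToGU_blockSU, hM']
  simp [hY]

theorem conj_torus (hF : Fintype.card F = q ^ 2) (hb : ∀ i, 0 < b i) {g : SU n F q}
    (hg : g ∈ (torus κ hF hb).range) {x : SU n F q} (hx : x ∈ (blockSU κ hF).range) :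
    g * x * g⁻¹ ∈ (blockSU κ hF).range := by
  obtain ⟨a, rfl⟩ := hg
  refine conj_blockSU κ hF (fun M hM => ⟨(fun i => firstGU hF (hb i) (a.1 i)) * M *
    (fun i => firstGU hF (hb i) (a.1 i))⁻¹, fun i => ?_, ?_⟩) hx
  · have : detGU (b i) F q (firstGU hF (hb i) (a.1 i) * M i * (firstGU hF (hb i) (a.1 i))⁻¹) = 1 := by
      rw [map_mul, map_mul, map_inv, show detGU (b i) F q (M i) = 1 from Units.ext (hM i), mul_one,
        mul_inv_cancel]
    exact congrArg Units.val this
  · rw [suToGU_torus, map_mul, map_mul, map_inv]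

end Block

/-! ### The extension -/

section Ext

variable {p r : ℕ} {E : Type u} [Group E] [Finite E] {σ : E →* SU n F q}

/-- A complement over the product of the blocks, with a split group normalising it. -/
theorem split_blocks [CharP F p] (hF : Fintype.card F = q ^ 2) (hp : p.Prime) (hr : r.Prime)
    (hpr : p ≠ r) (hσ : Function.Surjective σ) (hk : σ.ker ≤ center E) (hker : IsPGroup r σ.ker)
    {o : Type} [Fintype o] [DecidableEq o] {b : o → ℕ} (κ : (Σ i, Fin (b i)) ≃ Fin n)
    (hIH : ∀ i, Tame r (SU (b i) F q)) {K : Subgroup (SU n F q)}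
    (hn : ∀ g ∈ K, ∀ x ∈ (blockSU κ hF).range, g * x * g⁻¹ ∈ (blockSU κ hF).range)
    (hNK : (blockSU κ hF).range ⊓ K = ⊥) (hK : Split σ K) :
    Split σ ((blockSU κ hF).range ⊔ K) := by
  have hpg : ∀ i, PGen p (suBlock κ hF i).range := fun i => pGen_range _ (pGen_SU hF hp)
  have hC : ∀ i, Comp σ (suBlock κ hF i).range (pHat p σ (suBlock κ hF i).range) := fun i =>
    comp_pHat hσ hp hr hpr hker (hpg i)
      ((hIH i).split_range (suBlock_injective κ hF i) hσ hk hker)
  choose s hs hsC using fun i => (hC i).exists_section (suBlock κ hF i) le_rfl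
  have hcomm : Pairwise fun i j => ∀ x y, Commute (s i x) (s j y) := fun i j hij x y =>
    commute_of_pGen hk hσ hp hr hpr hker (hpg i) (H := (suBlock κ hF i).range)
      (by rw [← MonoidHom.comp_apply, hs]; exact ⟨x, rfl⟩) (by
        rintro _ ⟨x', rfl⟩
        rw [← MonoidHom.comp_apply, hs]
        exact suBlock_commute κ hF hij x' y)
  let Ψ := MonoidHom.noncommPiCoprod s hcomm
  have hΨ : σ.comp Ψ = blockSU κ hF := by
    have hle : Subgroup.pi Set.univ (fun i => (⊤ : Subgroup (SU (b i) F q))) ≤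
        (σ.comp Ψ).eqLocus (blockSU κ hF) := by
      refine Subgroup.pi_le_iff.2 fun i => ?_
      rintro _ ⟨x, -, rfl⟩
      show σ (Ψ (Pi.mulSingle i x)) = blockSU κ hF (Pi.mulSingle i x)
      rw [blockSU_single, MonoidHom.noncommPiCoprod_mulSingle, ← MonoidHom.comp_apply, hs]
    exact MonoidHom.ext fun x => hle (fun i _ => mem_top (x i))
  have hN : Split σ (blockSU κ hF).range := (comp_range (blockSU_injective κ hF) hΨ).split hk
  have hpgN : PGen p (blockSU κ hF).range := by
    have hle : Subgroup.pi Set.univ (fun i => (⊤ : Subgroup (SU (b i) F q))) ≤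
        (closure {h | h ∈ (blockSU κ hF).range ∧ ∃ k : ℕ, h ^ p ^ k = 1}).comap (blockSU κ hF) := by
      refine Subgroup.pi_le_iff.2 fun i => ?_
      rintro _ ⟨x, -, rfl⟩
      rw [mem_comap, MonoidHom.mulSingle_apply, blockSU_single]
      refine closure_mono ?_ (hpg i (MonoidHom.mem_range.2 ⟨x, rfl⟩))
      rintro _ ⟨⟨y, rfl⟩, hy⟩
      exact ⟨⟨Pi.mulSingle i y, blockSU_single κ hF i y⟩, hy⟩
    rintro _ ⟨x, rfl⟩
    exact hle (fun i _ => mem_top (x i))
  exact split_product hk hσ (comp_pHat hσ hp hr hpr hker hpgN hN)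
    (fun g hg c hc => conj_mem_pHat (fun h hh => hn _ hg h hh) hc) hNK hK

/-- The stabiliser of an anisotropic vector lies in a copy of the smaller group. -/
theorem exists_emb_PS {m : ℕ} (hF : Fintype.card F = q ^ 2) {z : Fin (m + 1) → F}
    (hz : hermForm _ F q z z ≠ 0) :
    ∃ ι : SU m F q →* SU (m + 1) F q, Function.Injective ι ∧ PS z ≤ ι.range := by
  obtain ⟨d, hd⟩ := norm_surj hF (y := (hermForm _ F q z z)⁻¹)
    (by rw [inv_pow, herm_self_fixed z hF])
  have hz' : hermForm _ F q (d • z) (d • z) = 1 := by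
    rw [herm_smul_left, herm_smul_right, ← mul_assoc, hd, inv_mul_cancel₀ hz]
  have he : hermForm (m + 1) F q (Pi.single 0 1) (Pi.single 0 1) = 1 := by
    rw [herm_std hF]; simp
  obtain ⟨g, hg⟩ := exists_GU_norm_one hF he hz'
  let ι₀ : SU m F q →* SU (m + 1) F q := toSU ((embGU hF).comp (suToGU m F q)) fun X => by
    rw [MonoidHom.comp_apply, embGU_det, suToGU_val, X.1.2]
  refine ⟨(conjSU g).comp ι₀,
    (conjSU_injective g).comp (toSU_injective ((embGU_injective hF).comp suToGU_injective)),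
    fun X hX => ?_⟩
  set A := g⁻¹ * suToGU _ F q X * g
  have hA : A.1.1 *ᵥ (Pi.single 0 1 : Fin (m + 1) → F) = Pi.single 0 1 := by
    rw [GU_mul_mulVec, GU_mul_mulVec, hg, suToGU_val, Matrix.mulVec_smul,
      show X.1.1 *ᵥ z = z from hX, ← hg, GU_inv_mulVec]
  obtain ⟨B, hB⟩ := exists_embGU hF A hA
  have hdetA : detGU (m + 1) F q A = 1 := by
    rw [map_mul, map_mul, map_inv, show detGU _ F q (suToGU _ F q X) = 1 from Units.ext X.1.2,
      mul_one, inv_mul_cancel]
  obtain ⟨Y, rfl⟩ : B ∈ (suToGU m F q).range := by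
    rw [suToGU_range]
    exact MonoidHom.mem_ker.2 (Units.ext (by
      rw [detGU_val, ← embGU_det hF, hB]; exact congrArg Units.val hdetA))
  refine ⟨Y, suToGU_injective ?_⟩
  rw [MonoidHom.comp_apply, conjSU, suToGU_toSU, MonoidHom.comp_apply, suToGU_toSU,
    MonoidHom.comp_apply, hB, MulEquiv.coe_toMonoidHom, MulAut.conj_apply]
  simp only [A]
  group

theorem split_PS {m : ℕ} (hF : Fintype.card F = q ^ 2) {E : Type u} [Group E] [Finite E]
    {σ : E →* SU (m + 1) F q} (hσ : Function.Surjective σ) (hk : σ.ker ≤ center E)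
    (hker : IsPGroup r σ.ker) (hIH : Tame r (SU m F q)) {z : Fin (m + 1) → F}
    (hz : hermForm _ F q z z ≠ 0) : Split σ (PS z) := by
  obtain ⟨ι, hι, hle⟩ := exists_emb_PS hF hz
  exact (hIH.split_range hι hσ hk hker).mono hle

/-- An `r`-element fixing a nonzero vector is trivial when `r` does not divide the order of the
smaller group. -/
theorem eq_one_of_fix {m : ℕ} (hF : Fintype.card F = q ^ 2) (hr : r.Prime) (hrF : (r : F) ≠ 0)
    (hd : ¬ r ∣ Nat.card (SU m F q)) {X : SU (m + 1) F q} {k : ℕ} (hX : X ^ r ^ k = 1)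
    {v : Fin (m + 1) → F} (hv0 : v ≠ 0) (hv : X.1.1 *ᵥ v = v) : X = 1 := by
  obtain ⟨z, hzX, hz⟩ : ∃ z, X.1.1 *ᵥ z = z ∧ hermForm _ F q z z ≠ 0 := by
    by_cases h : hermForm _ F q v v = 0
    swap
    · exact ⟨v, hv, h⟩
    obtain ⟨f, hf⟩ := exists_hyp hF hv0 h
    set N := r ^ k
    set w := ∑ i ∈ Finset.range N, (X ^ i).1.1 *ᵥ f
    have hw : X.1.1 *ᵥ w = w := by
      simp only [w, Matrix.mulVec_sum]
      have h1 : ∀ i, X.1.1 *ᵥ ((X ^ i).1.1 *ᵥ f) = (X ^ (i + 1)).1.1 *ᵥ f := fun i => by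
        rw [pow_succ', SU_mul_mulVec]
      simp only [h1]
      have h2 := Finset.sum_range_succ' (fun i => (X ^ i).1.1 *ᵥ f) N
      rw [Finset.sum_range_succ, hX] at h2
      simpa using h2.symm
    have hpow : ∀ i : ℕ, (X ^ i).1.1 *ᵥ v = v := fun i => by
      induction i with
      | zero => simp
      | succ i ih => rw [pow_succ', SU_mul_mulVec, ih, hv]
    have hwv : hermForm _ F q w v = (N : F) := by
      rw [herm_sum_left]
      rw [Finset.sum_congr rfl (g := fun _ => (1 : F)) fun i _ => by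
        conv_lhs => arg 5; rw [← hpow i]
        rw [SU_herm, hf.symm' hF]]
      simp
    have hN : (N : F) ≠ 0 := by simp only [N, Nat.cast_pow]; exact pow_ne_zero _ hrF
    by_cases hww : hermForm _ F q w w = 0
    swap
    · exact ⟨w, hw, hww⟩
    obtain ⟨t, ht⟩ := trace_surj hF (y := (1 : F)) (one_pow q)
    refine ⟨(t / N) • w + v, by rw [Matrix.mulVec_add, Matrix.mulVec_smul, hw, hv], ?_⟩
    have hvw : hermForm _ F q v w = (N : F) ^ q := by rw [← hwv, herm_conj w v hF]
    simp only [herm_add_left, herm_add_right _ _ _ hF, herm_smul_left, herm_smul_right, hww, h, hwv,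
      hvw, mul_zero, zero_add, add_zero, div_pow]
    rw [div_mul_cancel₀ _ hN, div_mul_cancel₀ _ (pow_ne_zero q hN), add_comm, ht]
    exact one_ne_zero
  obtain ⟨ι, hι, hle⟩ := exists_emb_PS hF hz
  by_contra hne
  have h1 : orderOf X ∣ Nat.card ι.range :=
    (Subgroup.orderOf_mk X (hle hzX)) ▸ orderOf_dvd_natCard (⟨X, hle hzX⟩ : ι.range)
  rw [← Nat.card_congr (MonoidHom.ofInjective hι).toEquiv] at h1
  obtain ⟨j, -, hj⟩ := (Nat.dvd_prime_pow hr).1 (orderOf_dvd_of_pow_eq_one hX)
  rcases j with _ | j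
  · exact hne (orderOf_eq_one_iff.1 hj)
  · exact hd ((dvd_pow_self r (Nat.succ_ne_zero j)).trans (hj ▸ h1))

end Ext

/-! ### The three shapes -/

section Shapes

variable {p r : ℕ} {E : Type u} [Group E] [Finite E] {σ : E →* SU n F q}

/-- A quaternion subgroup splits. -/
theorem split_quaternion (hσ : Function.Surjective σ) (hk : σ.ker ≤ center E) {m : ℕ} [NeZero m]
    (j : QuaternionGroup m →* SU n F q) (hj : Function.Injective j) : Split σ j.range := by
  obtain ⟨S, hS⟩ := hσ (j (QuaternionGroup.xa 0))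
  set A := zpowers (j (QuaternionGroup.a 1))
  have hA : ∀ i : ZMod (2 * m), j (QuaternionGroup.a i) ∈ A := fun i => by
    refine mem_zpowers_iff.2 ⟨(i.val : ℤ), ?_⟩
    rw [zpow_natCast, ← map_pow, QuaternionGroup.a_one_pow, ZMod.natCast_zmod_val]
  have hconj : ∀ (s : QuaternionGroup m) (x : SU n F q), x ∈ A →
      (∀ i, ∃ i', s * QuaternionGroup.a i * s⁻¹ = QuaternionGroup.a i') →
      j s * x * (j s)⁻¹ ∈ A := by
    intro s x hx h
    obtain ⟨k, rfl⟩ := mem_zpowers_iff.1 hx
    rw [← conj_zpow, ← map_inv, ← map_mul, ← map_mul]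
    refine zpow_mem ?_ k
    obtain ⟨i', hi'⟩ := h 1
    rw [hi']
    exact hA i'
  have hrange : j.range ≤ A ⊔ zpowers (σ S) := by
    rintro _ ⟨x, rfl⟩
    rcases x with i | i
    · exact mem_sup_left (hA i)
    · rw [show QuaternionGroup.xa i = QuaternionGroup.xa 0 * QuaternionGroup.a i by simp, map_mul]
      exact mul_mem (mem_sup_right (hS ▸ mem_zpowers _)) (mem_sup_left (hA i))
  refine (split_cyclic_ext hk hσ (fun a ha b hb => commute_of_zpowers hk (hσ _) ha hb)
    (fun x hx => ?_) (fun x hx => ?_) fun b hb hc => ?_).mono hrange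
  · rw [hS]
    exact hconj _ x hx fun i => ⟨-i, by
      rw [mul_inv_eq_iff_eq_mul]; simp⟩
  · rw [hS, ← map_inv]
    have := hconj (QuaternionGroup.xa 0)⁻¹ x hx fun i => ⟨-i, by
      rw [inv_inv, mul_assoc, inv_mul_eq_iff_eq_mul]; simp⟩
    simpa [← map_inv] using this
  · obtain ⟨k, hk'⟩ := mem_zpowers_iff.1 hb
    obtain ⟨x, hx⟩ : ∃ x, (QuaternionGroup.a 1 : QuaternionGroup m) ^ k = x := ⟨_, rfl⟩
    have hxa : ∃ y, x = QuaternionGroup.a y := by
      subst hx
      rcases Int.eq_nat_or_neg k with ⟨l, rfl | rfl⟩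
      · exact ⟨l, by rw [zpow_natCast, QuaternionGroup.a_one_pow]⟩
      · refine ⟨-(l : ZMod (2 * m)), ?_⟩
        rw [_root_.zpow_neg, zpow_natCast, QuaternionGroup.a_one_pow]
        refine inv_eq_of_mul_eq_one_left ?_
        rw [QuaternionGroup.a_mul_a, neg_add_cancel, QuaternionGroup.one_def]
    obtain ⟨y, rfl⟩ := hxa
    have hσb : σ b = j (QuaternionGroup.a y) := by rw [← hk', ← map_zpow, hx]
    rw [hS, hσb] at hc
    have h1 := hj ((map_mul j _ _).trans (hc.eq.trans (map_mul j _ _).symm))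
    simp only [QuaternionGroup.xa_mul_a, QuaternionGroup.a_mul_xa, QuaternionGroup.xa.injEq,
      zero_add, zero_sub] at h1
    have h2 : ((2 * y.val : ℕ) : ZMod (2 * m)) = 0 := by
      push_cast
      rw [ZMod.natCast_zmod_val]
      linear_combination h1
    rw [ZMod.natCast_eq_zero_iff] at h2
    have hlt := ZMod.val_lt y
    obtain ⟨c, hc2⟩ := h2
    have hmem : σ b ∈ zpowers (σ S) := by
      rw [hS, hσb, ← ZMod.natCast_zmod_val y]
      have hcases : y.val = 0 ∨ y.val = m := by
        rcases c with _ | _ | c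
        · omega
        · right; omega
        · exfalso
          have : 2 * m * 2 ≤ 2 * m * (c + 1 + 1) := Nat.mul_le_mul_left _ (by omega)
          omega
      rcases hcases with h | h <;> rw [h]
      · rw [Nat.cast_zero, ← QuaternionGroup.one_def, map_one]; exact one_mem _
      · have e : (QuaternionGroup.a (m : ZMod (2 * m))) =
            QuaternionGroup.xa 0 * QuaternionGroup.xa 0 := by simp
        rw [e, map_mul]
        exact mul_mem (mem_zpowers _) (mem_zpowers _)
    exact commute_of_zpowers hk (hσ _) (mem_zpowers _) hmem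

/-- When the stabilisers of anisotropic vectors have order prime to `r` the Sylow subgroup splits. -/
theorem split_semiregular {m : ℕ} [CharP F p] (hF : Fintype.card F = q ^ 2) (hp : p.Prime)
    (hr : r.Prime) (hpr : p ≠ r) (hd : ¬ r ∣ Nat.card (SU m F q)) {E : Type u} [Group E] [Finite E]
    {σ : E →* SU (m + 1) F q} (hσ : Function.Surjective σ) (hk : σ.ker ≤ center E)
    (P : Sylow r (SU (m + 1) F q)) : Split σ (P : Subgroup (SU (m + 1) F q)) := by
  haveI := Fact.mk hp
  haveI := Fact.mk hr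
  letI := ZMod.algebra F p
  let ρ : P →* ((Fin (m + 1) → F) ≃ₗ[ZMod p] (Fin (m + 1) → F)) :=
    { toFun := fun g =>
        { ((Matrix.mulVecLin ((g : SU (m + 1) F q).1.1)).restrictScalars (ZMod p)) with
          invFun := fun v => ((g⁻¹ : P) : SU (m + 1) F q).1.1 *ᵥ v
          left_inv := fun v => SU_inv_mulVec (g : SU (m + 1) F q) v
          right_inv := fun v => SU_mulVec_inv (g : SU (m + 1) F q) v }
      map_one' := LinearEquiv.ext fun v => by simp
      map_mul' := fun g h => LinearEquiv.ext fun v => by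
        simp [LinearEquiv.mul_apply] }
  have hrF : (r : F) ≠ 0 := fun h => by
    rw [CharP.cast_eq_zero_iff F p] at h
    exact hpr ((Nat.prime_dvd_prime_iff_eq hp hr).1 h)
  have hsr : ∀ v : Fin (m + 1) → F, v ≠ 0 → ∀ g : P, ρ g v = v → g = 1 := fun v hv g hg => by
    obtain ⟨k, hk'⟩ := P.2 g
    exact Subtype.ext (eq_one_of_fix hF hr hrF hd (k := k) (by
      rw [← Subgroup.coe_pow, hk', Subgroup.coe_one]) hv hg)
  rcases HalfTransitive.cyclic_or_quaternion_of_semiregular P.2 hpr ρ hsr with h | ⟨k, ⟨e⟩⟩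
  · exact split_of_isCyclic hk hσ h
  · haveI : NeZero k := ⟨fun h0 => by
      subst h0
      haveI : Finite (QuaternionGroup 0) := Finite.of_equiv _ e.toEquiv
      haveI : Finite ℤ := Finite.of_injective (QuaternionGroup.a (n := 0))
        fun _ _ h => QuaternionGroup.a.inj h
      exact not_finite ℤ⟩
    refine (split_quaternion hσ hk ((P : Subgroup (SU (m + 1) F q)).subtype.comp e.symm.toMonoidHom)
      (Subtype.val_injective.comp e.symm.injective)).mono ?_
    intro g hg
    exact ⟨e ⟨g, hg⟩, by simp⟩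

end Shapes

/-- An element mapping a finite subgroup into itself normalises it. -/
theorem mem_normalizer_of_conj {G : Type*} [Group G] [Finite G] {N : Subgroup G} {g : G}
    (h : ∀ x ∈ N, g * x * g⁻¹ ∈ N) : g ∈ normalizer (N : Set G) := by
  rw [mem_normalizer_iff]
  refine fun x => ⟨h x, fun hx => ?_⟩
  let f : N → N := fun y => ⟨g * y.1 * g⁻¹, h _ y.2⟩
  have hf : Function.Injective f := fun y z hyz => Subtype.ext
    (mul_left_cancel (mul_right_cancel (congrArg Subtype.val hyz :)))
  obtain ⟨y, hy⟩ := (Finite.injective_iff_surjective.1 hf) ⟨_, hx⟩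
  rw [← mul_left_cancel (mul_right_cancel (congrArg Subtype.val hy :))]
  exact y.2

/-! ### Monomial elements -/

section Wreath

variable {r c : ℕ} (e : Fin r × Fin c ≃ Fin n)

/-- The blocks of equal size. -/
def sameBlocks : (Σ _ : Fin r, Fin c) ≃ Fin n := (Equiv.sigmaEquivProd (Fin r) (Fin c)).trans e

theorem sameBlocks_apply (i : Fin r) (k : Fin c) : sameBlocks e ⟨i, k⟩ = e (i, k) := rfl

/-- The permutation of the blocks of equal size. -/
def blockPerm (τ : Equiv.Perm (Fin r)) : Equiv.Perm (Fin n) :=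
  e.symm.trans ((τ.prodCongr (Equiv.refl (Fin c))).trans e)

theorem blockPerm_apply (τ : Equiv.Perm (Fin r)) (i : Fin r) (k : Fin c) :
    blockPerm e τ (e (i, k)) = e (τ i, k) := by simp [blockPerm]

theorem blockPerm_mul (τ τ' : Equiv.Perm (Fin r)) :
    blockPerm e (τ * τ') = blockPerm e τ * blockPerm e τ' := by
  refine Equiv.ext fun x => ?_
  obtain ⟨⟨i, k⟩, rfl⟩ := e.surjective x
  rw [Equiv.Perm.mul_apply, blockPerm_apply, blockPerm_apply, blockPerm_apply, Equiv.Perm.mul_apply]

theorem blockPerm_one : blockPerm e 1 = 1 := by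
  refine Equiv.ext fun x => ?_
  obtain ⟨⟨i, k⟩, rfl⟩ := e.surjective x
  rw [blockPerm_apply]; rfl

theorem sign_blockPerm (τ : Equiv.Perm (Fin r)) :
    Equiv.Perm.sign (blockPerm e τ) = Equiv.Perm.sign τ ^ c := by
  rw [blockPerm, ← Equiv.trans_assoc, Equiv.Perm.sign_symm_trans_trans,
    show τ.prodCongr (Equiv.refl (Fin c)) = Equiv.prodCongrLeft (fun _ : Fin c => τ) from
      Equiv.ext fun x => rfl, Equiv.Perm.sign_prodCongrLeft, Finset.prod_const, Finset.card_univ,
    Fintype.card_fin]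

theorem perm_mul_blockGU (hF : Fintype.card F = q ^ 2) (τ : Equiv.Perm (Fin r))
    (M : Fin r → GU c F q) :
    permGU hF (blockPerm e τ) * blockGU (sameBlocks e) hF M =
      blockGU (sameBlocks e) hF (fun i => M (τ i)) * permGU hF (blockPerm e τ) := by
  refine GU_ext fun v => funext fun x => ?_
  obtain ⟨⟨i, k⟩, rfl⟩ := e.surjective x
  rw [GU_mul_mulVec, GU_mul_mulVec, permGU_mulVec, permGU_mulVec, Function.comp_apply,
    blockPerm_apply, ← sameBlocks_apply e (τ i) k, blockGU_mulVec, ← sameBlocks_apply e i k,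
    blockGU_mulVec]
  simp only [sameBlocks_apply, Function.comp_apply, blockPerm_apply]

theorem torus_mulVec (hF : Fintype.card F = q ^ 2) (hc : 0 < c) (a : ↥(prodU1 F q (Fin r)).ker)
    (v : Fin n → F) (i : Fin r) (k : Fin c) :
    ((torus (sameBlocks e) hF (fun _ => hc) a).1.1 *ᵥ v) (e (i, k)) =
      (if k.1 = 0 then ((a.1 i : Fˣ) : F) else 1) * v (e (i, k)) := by
  rw [← suToGU_val, suToGU_torus, ← sameBlocks_apply e i k, blockGU_mulVec, firstGU_mulVec]

theorem permGU_pow (hF : Fintype.card F = q ^ 2) (π : Equiv.Perm (Fin n)) {k : ℕ} (hk : π ^ k = 1) :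
    permGU hF π ^ k = 1 := GU_ext fun v => by
  rw [permGU_pow_mulVec, hk]; simp

end Wreath

end Cfsg.Agent.Lib.MultPSU
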