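import Mathlib
import Cfsg.Agent.Lib.MultPSU.Cross

/-!
Lib/MultPSU/CrossMain: the induction for the primes other than the characteristic.
-/

set_option autoImplicit false
set_option linter.unusedSectionVars false

namespace Cfsg.Agent.Lib.MultPSU

open Matrix Module Subgroup Cfsg.Agent.Lib.Unitary Cfsg.Agent.Lib.AutPSU
open scoped commutatorElement

universe u

variable {F : Type u} [Field F] [Fintype F] {q n : ℕ}
variable {p r : ℕ} {E : Type u} [Group E] [Finite E] {σ : E →* SU n F q}

/-- In the monomial case the lifts over the torus commute. -/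
theorem torus_lifts_commute (hF : Fintype.card F = q ^ 2) (hr : r.Prime) (hr2 : r ≠ 2)
    (hσ : Function.Surjective σ) (hk : σ.ker ≤ center E) (hker : IsPGroup r σ.ker) {d : ℕ}
    (e : Fin d × Fin 1 ≃ Fin n) :
    ∀ a, σ a ∈ (torus (q := q) (sameBlocks e) hF (fun _ => Nat.one_pos)).range →
    ∀ b, σ b ∈ (torus (q := q) (sameBlocks e) hF (fun _ => Nat.one_pos)).range → Commute a b := by
  rcases Nat.eq_zero_or_pos d with rfl | hd
  · intro a ha b hb
    obtain ⟨a', ha'⟩ := ha
    obtain ⟨b', hb'⟩ := hb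
    exact commute_of_zpowers hk (hσ 1) (by
      rw [← ha', show a' = 1 from Subtype.ext (Subsingleton.elim _ _), map_one]; exact one_mem _) (by
      rw [← hb', show b' = 1 from Subtype.ext (Subsingleton.elim _ _), map_one]; exact one_mem _)
  set T := torus (q := q) (sameBlocks e) hF (fun _ => Nat.one_pos) with hT
  let i0 : Fin d := ⟨0, hd⟩
  have hTv : ∀ a v i, ((T a).1.1 *ᵥ v) (e (i, 0)) = ((a.1 i : Fˣ) : F) * v (e (i, 0)) := fun a v i => by
    rw [hT, torus_mulVec]; simp
  -- the pairs
  have hpairmem : ∀ (i : Fin d) (x : U1 F q), i ≠ i0 →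
      (Function.update (Function.update (fun _ => (1 : U1 F q)) i x) i0 x⁻¹) ∈ (prodU1 F q (Fin d)).ker := by
    intro i x hi
    show (∏ j : Fin d, ((Function.update (Function.update (fun _ => (1 : U1 F q)) i x) i0 x⁻¹ j : Fˣ) : F)) = 1
    rw [Finset.prod_eq_mul i i0 hi (fun j _ hj => by simp [Function.update_of_ne hj.1, Function.update_of_ne hj.2])
      (fun h => absurd (Finset.mem_univ _) h) (fun h => absurd (Finset.mem_univ _) h)]
    simp [Function.update_of_ne hi]
  -- commutation with one pair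
  have hpair : ∀ (i : Fin d) (hi : i ≠ i0) (x : U1 F q) (b : ↥(prodU1 F q (Fin d)).ker) (A B : E),
      σ A = T ⟨_, hpairmem i x hi⟩ → σ B = T b → Commute A B := by
    intro i hi x b A B hA hB
    set t : U1 F q → ↥(prodU1 F q (Fin d)).ker := fun y => ⟨_, hpairmem i y hi⟩
    set y := b.1 i * (b.1 i0)⁻¹
    set b'' := b * b * (t y)⁻¹
    have hb'' : b''.1 i = b''.1 i0 := by
      simp [b'', t, y, Function.update_of_ne hi, mul_comm, mul_left_comm]
    obtain ⟨A', hA'⟩ := hσ (T (t y))
    obtain ⟨B', hB'⟩ := hσ (T b'')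
    -- the two pairs commute
    have h1 : Commute A A' := by
      obtain ⟨g, hg⟩ := (inferInstance : IsCyclic (U1 F q)).exists_generator
      have hz : ∀ z, T (t z) ∈ zpowers (T (t g)) := fun z => by
        obtain ⟨k, hk'⟩ := mem_zpowers_iff.1 (hg z)
        refine mem_zpowers_iff.2 ⟨k, ?_⟩
        rw [← map_zpow, ← hk']
        congr 1
        refine Subtype.ext (funext fun j => ?_)
        simp only [t, SubgroupClass.coe_zpow, Pi.pow_apply]
        by_cases hj : j = i0
        · subst hj; simp
        · by_cases hj' : j = i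
          · subst hj'; simp [Function.update_of_ne hj]
          · simp [Function.update_of_ne hj, Function.update_of_ne hj']
      exact commute_of_zpowers hk (hσ _) (hA ▸ hz x) (hA' ▸ hz y)
    -- the symmetry inverting the first and fixing the second
    have h2 : ⁅A, B'⁆ ^ 2 = 1 := by
      set π := blockPerm e (Equiv.swap i i0)
      let cv : Fin n → F := fun z => if z = e (i0, 0) then -1 else 1
      have hcv : ∀ z, cv z * cv z ^ q = 1 := fun z => by
        simp only [cv]
        split_ifs
        · rw [neg_pow_q hF]; simp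
        · simp
      set W := diagGU hF cv hcv * permGU hF π
      obtain ⟨w, hw⟩ : W ∈ (suToGU n F q).range := by
        rw [suToGU_range, MonoidHom.mem_ker]
        refine Units.ext ?_
        rw [map_mul, Units.val_mul, detGU_val, detGU_val, det_diagGU, det_permGU, sign_blockPerm,
          Equiv.Perm.sign_swap hi, pow_one, Units.val_neg, Units.val_one, Int.cast_neg, Int.cast_one]
        rw [Finset.prod_eq_single (e (i0, 0)) (fun z _ hz => if_neg hz) (by simp)]
        simp [cv]
      obtain ⟨w', hw'⟩ := hσ w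
      have hconj : ∀ a : ↥(prodU1 F q (Fin d)).ker, ∀ a' : ↥(prodU1 F q (Fin d)).ker,
          (∀ j, a'.1 j = a.1 (Equiv.swap i i0 j)) → w * T a * w⁻¹ = T a' := by
        intro a a' ha
        rw [mul_inv_eq_iff_eq_mul]
        refine suToGU_injective ?_
        rw [map_mul, map_mul, hw]
        refine GU_ext fun v => funext fun z => ?_
        obtain ⟨⟨j, k⟩, rfl⟩ := e.surjective z
        obtain rfl : k = 0 := Subsingleton.elim _ _
        simp only [W, GU_mul_mulVec, suToGU_val, permGU_mulVec, diagGU_mulVec, Function.comp_apply, π,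
          hTv, blockPerm_apply, ha]
        ring
      have e1 : σ (w' * A * w'⁻¹) = σ A⁻¹ := by
        rw [map_mul, map_mul, map_inv, hw', hA, map_inv, hA, ← map_inv]
        refine hconj _ _ fun j => ?_
        simp only [InvMemClass.coe_inv, Pi.inv_apply]
        by_cases hj : j = i0
        · subst hj; simp [Function.update_of_ne hi]
        · by_cases hj' : j = i
          · subst hj'; simp [Function.update_of_ne hj]
          · simp [Equiv.swap_apply_of_ne_of_ne hj' hj, Function.update_of_ne hj, Function.update_of_ne hj']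
      have e2 : σ (w' * B' * w'⁻¹) = σ B' := by
        rw [map_mul, map_mul, map_inv, hw', hB']
        refine hconj _ _ fun j => ?_
        by_cases hj : j = i0
        · subst hj; simp [hb'']
        · by_cases hj' : j = i
          · subst hj'; simp [hb'']
          · simp [Equiv.swap_apply_of_ne_of_ne hj' hj]
      have hc : σ ⁅A, B'⁆ = 1 := by
        rw [map_commutatorElement, hA, hB', ← map_commutatorElement,
          commutatorElement_eq_one_iff_mul_comm.2 (mul_comm _ _), map_one]
      have hcc : ∀ g, Commute g ⁅A, B'⁆ := commute_ker hk hc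
      have hfix : ⁅A, B'⁆ = ⁅A⁻¹, B'⁆ := by
        rw [← Schur.Fusion.commutator_congr hk e1 e2,
          show ⁅w' * A * w'⁻¹, w' * B' * w'⁻¹⁆ = w' * ⁅A, B'⁆ * w'⁻¹ by
            simp only [commutatorElement_def]; group,
          (hcc w').eq, mul_inv_cancel_right]
      have hinv : ⁅A⁻¹, B'⁆ = ⁅A, B'⁆⁻¹ := by
        rw [show ⁅A⁻¹, B'⁆ = A⁻¹ * ⁅A, B'⁆⁻¹ * A by simp only [commutatorElement_def]; group,
          ((hcc A⁻¹).inv_right).eq, inv_mul_cancel_right]
      rw [pow_two]
      nth_rewrite 2 [hfix]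
      rw [hinv, mul_inv_cancel]
    -- conclude
    have hzc : ∀ g, Commute g ⁅A, B⁆ := commute_ker hk (by
      rw [map_commutatorElement, hA, hB, ← map_commutatorElement,
        commutatorElement_eq_one_iff_mul_comm.2 (mul_comm _ _), map_one])
    have hsq : ⁅A, B * B⁆ = ⁅A, B⁆ ^ 2 := by
      rw [show ⁅A, B * B⁆ = ⁅A, B⁆ * (B * ⁅A, B⁆ * B⁻¹) by simp only [commutatorElement_def]; group,
        (hzc B).eq, mul_inv_cancel_right, pow_two]
    have hsq' : ⁅A, B * B⁆ = ⁅A, B'⁆ := by
      have he : σ (B * B) = σ (B' * A') := by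
        rw [map_mul, map_mul, hB, hB', hA', ← map_mul, ← map_mul]
        congr 1
        simp [b'']
      rw [Schur.Fusion.commutator_congr hk (a' := A) rfl he,
        show ⁅A, B' * A'⁆ = ⁅A, B'⁆ * (B' * ⁅A, A'⁆ * B'⁻¹) by simp only [commutatorElement_def]; group,
        commutatorElement_eq_one_iff_commute.2 h1]
      simp
    rw [← hsq', hsq, ← pow_mul] at h2
    obtain ⟨l, hl⟩ := hker ⟨⁅A, B⁆, by
      rw [MonoidHom.mem_ker, map_commutatorElement, hA, hB, ← map_commutatorElement,
        commutatorElement_eq_one_iff_mul_comm.2 (mul_comm _ _), map_one]⟩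
    exact commutatorElement_eq_one_iff_commute.1
      (eq_one_of_two_primes (k := 2) Nat.prime_two hr hr2.symm h2 (congrArg Subtype.val hl))
  -- the pairs generate
  intro a ha b hb
  obtain ⟨a', ha'⟩ := ha
  obtain ⟨b', hb'⟩ := hb
  let G' : Subgroup ↥(prodU1 F q (Fin d)).ker := ((centralizer {b}).map σ).comap T
  suffices hmem : a' ∈ G' by
    obtain ⟨c, hc, hca⟩ := hmem
    exact commutatorElement_eq_one_iff_commute.1 ((Schur.Fusion.commutator_congr hk
      (a' := c) (hca.trans ha').symm rfl).trans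
        (commutatorElement_eq_one_iff_mul_comm.2 (mem_centralizer_singleton_iff.1 hc)))
  have hgen : ∀ (i : Fin d) (hi : i ≠ i0) x, (⟨_, hpairmem i x hi⟩ : ↥(prodU1 F q (Fin d)).ker) ∈ G' := by
    intro i hi x
    obtain ⟨A, hA⟩ := hσ (T ⟨_, hpairmem i x hi⟩)
    exact ⟨A, mem_centralizer_singleton_iff.2 (hpair i hi x b' A b hA hb'.symm).eq, hA⟩
  let f : Fin d → ↥(prodU1 F q (Fin d)).ker := fun i =>
    if hi : i = i0 then 1 else ⟨_, hpairmem i (a'.1 i) hi⟩
  have hprod : a' = ∏ i, f i := by
    have h1 : ∀ j, j ≠ i0 → (∏ i, f i).1 j = a'.1 j := fun j hj => by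
      rw [Subgroup.val_finsetProd, Finset.prod_apply, Finset.prod_eq_single j]
      · simp [f, hj, Function.update_of_ne hj]
      · intro i _ hij
        by_cases hi : i = i0
        · simp [f, hi]
        · simp [f, hi, Function.update_of_ne hj, Function.update_of_ne (Ne.symm hij)]
      · simp
    refine Subtype.ext (funext fun j => ?_)
    by_cases hj : j = i0
    swap
    · exact (h1 j hj).symm
    · subst hj
      have p1 : (∏ i, ((a'.1 i : Fˣ) : F)) = 1 := a'.2
      have p2 : (∏ i, (((∏ k, f k).1 i : Fˣ) : F)) = 1 := (∏ k, f k).2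
      rw [← Finset.mul_prod_erase _ _ (Finset.mem_univ i0)] at p1 p2
      rw [Finset.prod_congr (s₁ := Finset.univ.erase i0) (f := fun i => (((∏ k, f k).1 i : Fˣ) : F))
        (g := fun i => ((a'.1 i : Fˣ) : F)) rfl (fun i hi => by rw [h1 i (Finset.ne_of_mem_erase hi)])] at p2
      refine Subtype.ext (Units.ext ?_)
      exact mul_right_cancel₀ (b := ∏ i ∈ Finset.univ.erase i0, ((a'.1 i : Fˣ) : F))
        (right_ne_zero_of_mul (p1.trans_ne one_ne_zero)) (p1.trans p2.symm)
  rw [hprod]
  refine G'.prod_mem fun i _ => ?_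
  by_cases hi : i = i0
  · simp only [f, hi, dite_true]; exact one_mem _
  · simp only [f, hi, dite_false]; exact hgen i hi _

theorem card_block_range {o : Type} [Fintype o] [DecidableEq o] {b : o → ℕ}
    (κ : (Σ i, Fin (b i)) ≃ Fin n) (hF : Fintype.card F = q ^ 2) (hr : r.Prime) (hrq : ¬ r ∣ q) :
    padicValNat r (Nat.card (blockGU κ hF).range) = ∑ i, vGU r q (b i) := by
  haveI := Fact.mk hr
  rw [← Nat.card_congr (MonoidHom.ofInjective (blockGU_injective κ hF)).toEquiv, Nat.card_pi]
  have key : ∀ S : Finset o, padicValNat r (∏ i ∈ S, Nat.card (GU (b i) F q)) = ∑ i ∈ S, vGU r q (b i) := by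
    intro S
    induction S using Finset.induction_on with
    | empty => simp
    | insert i S hi ih =>
      rw [Finset.prod_insert hi, Finset.sum_insert hi,
        padicValNat.mul Nat.card_pos.ne' (Finset.prod_ne_zero_iff.2 fun j _ => Nat.card_pos.ne'), ih,
        padicValNat_card_GU hF hr hrq]
  exact key Finset.univ

/-- A subgroup of `GU` with a full `r`-part has index prime to `r` in `SU`. -/
theorem not_dvd_index_comap (hF : Fintype.card F = q ^ 2) (hr : r.Prime) (hrq : ¬ r ∣ q)
    (B : Subgroup (GU n F q)) (hB : ∀ A : GU n F q, ∃ g ∈ B, g.1.1.det = A.1.1.det)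
    (h : vGU r q n ≤ padicValNat r (Nat.card B)) :
    ¬ r ∣ (B.comap (suToGU n F q)).index := by
  haveI := Fact.mk hr
  rw [index_comap_suToGU hF B hB]
  intro hd
  have h1 := congrArg (padicValNat r) B.card_mul_index
  rw [padicValNat.mul Nat.card_pos.ne' index_ne_zero_of_finite, padicValNat_card_GU hF hr hrq] at h1
  have := one_le_padicValNat_of_dvd index_ne_zero_of_finite hd
  omega

theorem det_surj_blocks {o : Type} [Fintype o] [DecidableEq o] {b : o → ℕ}
    (κ : (Σ i, Fin (b i)) ≃ Fin n) (hF : Fintype.card F = q ^ 2) (i : o) (hi : 0 < b i)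
    (A : GU n F q) : ∃ g ∈ (blockGU κ hF).range, g.1.1.det = A.1.1.det := by
  refine ⟨_, ⟨Pi.mulSingle i (firstGU hF hi (mkU1 (det_norm_one hF A))), rfl⟩, ?_⟩
  rw [det_blockGU, Finset.prod_eq_single i]
  · rw [Pi.mulSingle_eq_same, det_firstGU, mkU1_val]
  · intro j _ hj; rw [Pi.mulSingle_eq_of_ne hj]; simp
  · simp

/-- The case of two blocks. -/
theorem commutator_inf_ker_two [CharP F p] (hF : Fintype.card F = q ^ 2) (hp : p.Prime)
    (hr : r.Prime) (hpr : p ≠ r) (hrq : ¬ r ∣ q) (hσ : Function.Surjective σ)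
    (hk : σ.ker ≤ center E) (hker : IsPGroup r σ.ker)
    (IH : ∀ m, m < n → Tame r (SU m F q)) {k : ℕ} (hk1 : 1 ≤ k) (hk2 : k < n)
    (hv : vGU r q n = vGU r q k + vGU r q (n - k)) : commutator E ⊓ σ.ker = ⊥ := by
  let b : Fin 2 → ℕ := ![k, n - k]
  have hb : ∀ i, 0 < b i := Fin.forall_fin_two.2 ⟨by simp [b]; omega, by simp [b]; omega⟩
  have hblt : ∀ i, b i < n := Fin.forall_fin_two.2 ⟨by simp [b]; omega, by simp [b]; omega⟩
  let κ : (Σ i, Fin (b i)) ≃ Fin n := Fintype.equivFinOfCardEq (by simp [b, Fin.sum_univ_two]; omega)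
  have hK : Split σ (torus (q := q) κ hF hb).range := by
    haveI : IsCyclic ↥(prodU1 F q (Fin 2)).ker := isCyclic_of_injective
      ((Pi.evalMonoidHom (fun _ => U1 F q) 0).comp (Subgroup.subtype _)) (by
        intro a c h
        have h' : a.1 0 = c.1 0 := h
        have ha : ((a.1 0 : Fˣ) : F) * ((a.1 1 : Fˣ) : F) = 1 := by
          rw [← Fin.prod_univ_two (f := fun i => ((a.1 i : Fˣ) : F))]; exact a.2
        have hc : ((c.1 0 : Fˣ) : F) * ((c.1 1 : Fˣ) : F) = 1 := by
          rw [← Fin.prod_univ_two (f := fun i => ((c.1 i : Fˣ) : F))]; exact c.2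
        rw [h'] at ha
        refine Subtype.ext (funext (Fin.forall_fin_two.2 ⟨h', Subtype.ext (Units.ext ?_)⟩))
        exact mul_left_cancel₀ (Units.ne_zero _) (ha.trans hc.symm))
    exact split_of_isCyclic hk hσ (isCyclic_of_surjective _ (torus (q := q) κ hF hb).rangeRestrict_surjective)
  refine commutator_inf_ker_of_index hk hσ hr hker
    ((split_blocks hF hp hr hpr hσ hk hker κ (fun i => IH _ (hblt i))
      (fun g hg x hx => conj_torus κ hF hb hg hx) (blockSU_inf_torus κ hF hb) hK).mono
      (comap_blockGU_le κ hF hb)) ?_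
  refine not_dvd_index_comap hF hr hrq _ (det_surj_blocks κ hF 0 (hb 0)) ?_
  rw [card_block_range κ hF hr hrq, Fin.sum_univ_two, hv]
  simp [b]

/-- The wreath case. -/
theorem commutator_inf_ker_wreath [CharP F p] (hF : Fintype.card F = q ^ 2) (hp : p.Prime)
    (hr : r.Prime) (hpr : p ≠ r) (hrq : ¬ r ∣ q) (hσ : Function.Surjective σ)
    (hk : σ.ker ≤ center E) (hker : IsPGroup r σ.ker)
    (IH : ∀ m, m < n → Tame r (SU m F q)) {c : ℕ} (hc : 1 ≤ c) (hn : n = r * c)
    (hv : vGU r q n = r * vGU r q c + 1) (heven : r = 2 → Even c) :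
    commutator E ⊓ σ.ker = ⊥ := by
  haveI := Fact.mk hr
  haveI : NeZero r := ⟨hr.pos.ne'⟩
  have hcn : c < n := by
    rw [hn]
    calc c = 1 * c := (one_mul c).symm
      _ < r * c := Nat.mul_lt_mul_of_pos_right hr.one_lt hc
  let e : Fin r × Fin c ≃ Fin n := finProdFinEquiv.trans (finCongr hn.symm)
  let τ : Equiv.Perm (Fin r) := finRotate r
  have hrot : ∀ i : Fin r, τ i = i + 1 := by
    obtain ⟨r', rfl⟩ : ∃ r', r = r' + 1 := ⟨r - 1, by have := hr.pos; omega⟩
    exact fun i => finRotate_succ_apply i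
  have hτpow : ∀ (k : ℕ) (i : Fin r), ((τ ^ k : Equiv.Perm (Fin r)) i).1 = (i.1 + k) % r := by
    intro k
    induction k with
    | zero => intro i; simp [Nat.mod_eq_of_lt i.2]
    | succ k ih =>
      intro i
      rw [pow_succ', Equiv.Perm.mul_apply, hrot, Fin.val_add, ih, Fin.val_one',
        Nat.mod_eq_of_lt hr.one_lt, Nat.mod_add_mod, add_assoc]
  have hτr : τ ^ r = 1 := Equiv.ext fun i => Fin.ext (by
    rw [hτpow, Nat.add_mod_right, Nat.mod_eq_of_lt i.2, Equiv.Perm.coe_one, id_eq])
  have hτi : ∀ i : Fin r, τ i ≠ i := fun i h => by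
    rw [hrot, add_eq_left] at h
    have := congrArg Fin.val h
    simp only [Fin.val_one', Fin.val_zero, Nat.mod_eq_of_lt hr.one_lt] at this
    exact one_ne_zero this
  have hπr : blockPerm e τ ^ r = 1 := by
    have hpk : ∀ k : ℕ, blockPerm e τ ^ k = blockPerm e (τ ^ k) := fun k => by
      induction k with
      | zero => rw [pow_zero, pow_zero, blockPerm_one]
      | succ k ih => rw [pow_succ, pow_succ, blockPerm_mul, ih]
    rw [hpk, hτr, blockPerm_one]
  set P := permGU (q := q) (F := F) hF (blockPerm e τ) with hP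
  obtain ⟨S0, hS0⟩ : P ∈ (suToGU n F q).range := by
    rw [suToGU_range, MonoidHom.mem_ker]
    refine Units.ext ?_
    rw [detGU_val, hP, det_permGU, sign_blockPerm, sign_finRotate]
    rcases hr.eq_two_or_odd' with h2 | hodd
    · obtain ⟨j, hj⟩ := heven h2
      rw [hj, ← two_mul, pow_mul, Int.units_sq, one_pow]; simp
    · rw [Even.neg_one_pow (Nat.Odd.sub_odd hodd odd_one), one_pow]; simp
  have hPr : P ^ r = 1 := permGU_pow hF _ hπr
  have hS0r : S0 ^ r = 1 := suToGU_injective (by rw [map_pow, hS0, hPr, map_one])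
  have hb : ∀ _ : Fin r, 0 < c := fun _ => hc
  set N := (blockSU (q := q) (F := F) (sameBlocks e) hF).range
  set A := (torus (q := q) (F := F) (sameBlocks e) hF hb).range with hA
  set R := (blockGU (q := q) (F := F) (sameBlocks e) hF).range
  haveI : Finite (GU n F q) := Finite.of_injective _
    (fun (A B : GU n F q) (h : A.1.1 = B.1.1) => Subtype.ext (Units.ext h))
  have hPconj : ∀ M, P * blockGU (sameBlocks e) hF M * P⁻¹ =
      blockGU (sameBlocks e) hF fun i => M (τ i) := fun M => by
    rw [mul_inv_eq_iff_eq_mul, hP, perm_mul_blockGU]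
  have hPR : P ∈ normalizer (R : Set (GU n F q)) := mem_normalizer_of_conj fun x ⟨M, hM⟩ => by
    rw [← hM, hPconj]; exact ⟨_, rfl⟩
  have hSN : S0 ∈ normalizer (N : Set (SU n F q)) := mem_normalizer_of_conj fun x hx =>
    conj_blockSU _ hF (fun M hM => ⟨fun i => M (τ i), fun i => hM _, by rw [hS0, hPconj]⟩) hx
  have hSA : S0 ∈ normalizer (A : Set (SU n F q)) := mem_normalizer_of_conj fun x ⟨a, ha⟩ => by
    refine ⟨⟨fun i => a.1 (τ i), ?_⟩, suToGU_injective ?_⟩
    · show (∏ i, ((a.1 (τ i) : Fˣ) : F)) = 1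
      rw [Equiv.prod_comp τ (fun i => ((a.1 i : Fˣ) : F))]
      exact a.2
    · rw [← ha, map_mul, map_mul, map_inv, hS0, suToGU_torus, suToGU_torus, hPconj]
  have hAN : A ≤ normalizer (N : Set (SU n F q)) := fun g hg => mem_normalizer_of_conj fun x hx =>
    conj_torus _ hF hb hg hx
  have hPnot : ∀ j : ℕ, P ^ j ∈ R → P ^ j = 1 := by
    intro j hj
    have hπj : blockPerm e τ ^ j = 1 := by
      refine Equiv.ext fun x => ?_
      obtain ⟨⟨i, k⟩, rfl⟩ := e.surjective x
      obtain ⟨M, hM⟩ := hj
      have hpk : ∀ j : ℕ, blockPerm e τ ^ j = blockPerm e (τ ^ j) := fun j => by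
        induction j with
        | zero => rw [pow_zero, pow_zero, blockPerm_one]
        | succ j ih => rw [pow_succ, pow_succ, blockPerm_mul, ih]
      rw [hpk, blockPerm_apply, Equiv.Perm.coe_one, id_eq]
      by_contra hne
      have hne' : (τ ^ j : Equiv.Perm (Fin r)) i ≠ i := fun h => hne (by rw [h])
      have h1 : (P ^ j).1.1 *ᵥ (Pi.single (e ((τ ^ j : Equiv.Perm (Fin r)) i, k)) (1 : F) : Fin n → F) =
          (blockGU (sameBlocks e) hF M).1.1 *ᵥ Pi.single (e ((τ ^ j : Equiv.Perm (Fin r)) i, k)) 1 := by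
        rw [hM]
      have h2 := congrFun h1 (e (i, k))
      rw [hP, permGU_pow_mulVec, Function.comp_apply, hpk, blockPerm_apply, Pi.single_eq_same,
        ← sameBlocks_apply e i k, blockGU_mulVec] at h2
      rw [show (fun l => (Pi.single (e ((τ ^ j : Equiv.Perm (Fin r)) i, k)) (1 : F) : Fin n → F)
          (sameBlocks e ⟨i, l⟩)) = 0 from funext fun l => Pi.single_eq_of_ne (fun h => hne' (by
            rw [sameBlocks_apply] at h
            exact (Prod.ext_iff.1 (e.injective h)).1.symm)) 1, Matrix.mulVec_zero] at h2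
      exact one_ne_zero h2
    exact permGU_pow hF _ hπj
  have hNK : N ⊓ (A ⊔ zpowers S0) = ⊥ := by
    rw [eq_bot_iff]
    rintro x ⟨⟨Y, hY⟩, hx⟩
    have hmul : x ∈ ((A ⊔ zpowers S0 : Subgroup (SU n F q)) : Set (SU n F q)) := hx
    rw [coe_mul_of_right_le_normalizer_left A (zpowers S0) (zpowers_le.2 hSA)] at hmul
    obtain ⟨a, ha, s, hs, rfl⟩ := hmul
    haveI : Finite (SU n F q) := inferInstance
    obtain ⟨j, hj⟩ := Submonoid.mem_powers_iff _ _ |>.1
      ((isOfFinOrder_of_finite S0).mem_powers_iff_mem_zpowers.2 hs)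
    subst hj
    have hPj : P ^ j ∈ R := by
      obtain ⟨a', ha'⟩ := ha
      have h1 : suToGU n F q (S0 ^ j) = (suToGU n F q a)⁻¹ * suToGU n F q (blockSU (sameBlocks e) hF Y) := by
        rw [hY]; show _ = _ * suToGU n F q (a * S0 ^ j)
        rw [map_mul, inv_mul_cancel_left]
      rw [map_pow, hS0] at h1
      rw [h1, ← ha', suToGU_torus, suToGU_blockSU]
      exact mul_mem (inv_mem ⟨_, rfl⟩) ⟨_, rfl⟩
    have hj1 : S0 ^ j = 1 := suToGU_injective (by rw [map_pow, hS0, hPnot j hPj, map_one])
    have haN : a ∈ N ⊓ A := mem_inf.2 ⟨⟨Y, by rw [hY]; show a * S0 ^ j = a; rw [hj1, mul_one]⟩, ha⟩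
    rw [hA, blockSU_inf_torus, mem_bot] at haN
    show a * S0 ^ j ∈ (⊥ : Subgroup (SU n F q))
    rw [mem_bot, haN, hj1, one_mul]
  have hK : Split σ (A ⊔ zpowers S0) := by
    rcases eq_or_lt_of_le hc with hc1 | hc2
    · -- monomial
      subst hc1
      have hr2 : r ≠ 2 := fun h => Nat.not_even_one (heven h)
      obtain ⟨S, rfl⟩ := hσ S0
      have hApow := fun x hx => (mem_normalizer_iff.1 hSA x).1 hx
      refine split_cyclic_ext hk hσ (torus_lifts_commute hF hr hr2 hσ hk hker e) hApow
        (fun x hx => ?_) fun b hb' hcom => ?_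
      · exact (mem_normalizer_iff.1 hSA _).2 (by simpa [mul_assoc] using hx)
      · obtain ⟨a, ha⟩ := hb'
        have hcom' := congrArg (suToGU n F q) hcom.eq
        rw [map_mul, map_mul, hS0, ← ha, suToGU_torus, perm_mul_blockGU] at hcom'
        have heq := blockGU_injective _ hF (mul_right_cancel hcom')
        have hconst : ∀ i, ((a.1 i : Fˣ) : F) = ((a.1 0 : Fˣ) : F) := by
          have hstep : ∀ i, ((a.1 (τ i) : Fˣ) : F) = ((a.1 i : Fˣ) : F) := fun i => by
            rw [← det_firstGU hF hc (a.1 (τ i)), ← det_firstGU hF hc (a.1 i)]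
            exact congrArg (fun A : GU 1 F q => A.1.1.det) (congrFun heq i)
          have hall : ∀ (k : ℕ) i, ((a.1 ((τ ^ k : Equiv.Perm (Fin r)) i) : Fˣ) : F) = ((a.1 i : Fˣ) : F) := by
            intro k
            induction k with
            | zero => intro i; simp
            | succ k ih => intro i; rw [pow_succ', Equiv.Perm.mul_apply, hstep, ih]
          intro i
          have := hall i.val 0
          rwa [show (τ ^ i.val : Equiv.Perm (Fin r)) 0 = i from Fin.ext (by
            rw [hτpow, Fin.val_zero, zero_add, Nat.mod_eq_of_lt i.2])] at this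
        have hscal : ∀ v, (σ b).1.1 *ᵥ v = ((a.1 0 : Fˣ) : F) • v := fun v => funext fun x => by
          obtain ⟨⟨i, k⟩, rfl⟩ := e.surjective x
          obtain rfl : k = 0 := Subsingleton.elim _ _
          rw [← ha, torus_mulVec e hF hc]
          simp [hconst i]
        exact commute_of_pGen (H := ⊤) hk hσ hp hr hpr hker (pGen_SU hF hp) (mem_top _) fun h _ => by
          refine suToGU_injective ?_
          rw [map_mul, map_mul]
          refine GU_ext fun v => ?_
          simp only [GU_mul_mulVec, suToGU_val, hscal, Matrix.mulVec_smul]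
    · -- a common fixed vector
      let z : Fin n → F := fun x => if (e.symm x).2.1 = 1 then 1 else 0
      have hz : hermForm n F q z z ≠ 0 := by
        have h1 : hermForm n F q z z = (r : F) := by
          rw [hermForm, ← e.sum_comp, Fintype.sum_prod_type]
          have h2 : ∀ i : Fin r, ∑ k : Fin c, z (e (i, k)) * z (e (i, k)) ^ q = 1 := fun i => by
            rw [Finset.sum_eq_single (⟨1, hc2⟩ : Fin c)]
            · simp [z]
            · intro k _ hk
              have : k.1 ≠ 1 := fun h => hk (Fin.ext h)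
              simp [z, this]
            · simp
          simp [h2]
        rw [h1]
        intro h
        rw [CharP.cast_eq_zero_iff F p] at h
        exact hpr ((Nat.prime_dvd_prime_iff_eq hp hr).1 h)
      obtain ⟨m, rfl⟩ : ∃ m, n = m + 1 := ⟨n - 1, by omega⟩
      refine (split_PS hF hσ hk hker (IH m (by omega)) hz).mono (sup_le ?_ (zpowers_le.2 ?_))
      · rintro _ ⟨a, rfl⟩
        refine funext fun x => ?_
        obtain ⟨⟨i, k⟩, rfl⟩ := e.surjective x
        rw [torus_mulVec e hF hc]
        by_cases hk0 : k.1 = 0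
        · simp [z, hk0]
        · simp [hk0]
      · show S0.1.1 *ᵥ z = z
        rw [← suToGU_val, hS0, hP, permGU_mulVec]
        refine funext fun x => ?_
        obtain ⟨⟨i, k⟩, rfl⟩ := e.surjective x
        simp [z, blockPerm_apply]
  have hn' : ∀ g ∈ A ⊔ zpowers S0, ∀ x ∈ N, g * x * g⁻¹ ∈ N := fun g hg x hx =>
    (mem_normalizer_iff.1 ((sup_le hAN (zpowers_le.2 hSN)) hg) x).1 hx
  refine commutator_inf_ker_of_index hk hσ hr hker
    (H := (R ⊔ zpowers P).comap (suToGU n F q))
    ((split_blocks hF hp hr hpr hσ hk hker (sameBlocks e) (fun _ => IH _ hcn) hn' hNK hK).mono ?_) ?_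
  · intro X hX
    have hmul : suToGU n F q X ∈ ((R ⊔ zpowers P : Subgroup (GU n F q)) : Set (GU n F q)) := hX
    rw [coe_mul_of_right_le_normalizer_left R (zpowers P) (zpowers_le.2 hPR)] at hmul
    obtain ⟨g, hg, s, hs, hgs⟩ := hmul
    obtain ⟨j, rfl⟩ := mem_zpowers_iff.1 hs
    have h1 : X * (S0 ^ j)⁻¹ ∈ R.comap (suToGU n F q) := by
      rw [mem_comap, map_mul, map_inv, map_zpow, hS0, ← hgs]
      show g * P ^ j * (P ^ j)⁻¹ ∈ R
      rw [mul_inv_cancel_right]; exact hg
    have h2 : X * (S0 ^ j)⁻¹ ∈ N ⊔ (A ⊔ zpowers S0) :=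
      (sup_le_sup_left le_sup_left N) (comap_blockGU_le (sameBlocks e) hF hb h1)
    have := mul_mem h2 (mem_sup_right (mem_sup_right (zpow_mem (mem_zpowers S0) j)))
    rwa [inv_mul_cancel_right] at this
  · refine not_dvd_index_comap hF hr hrq _ (fun A' => ?_) ?_
    · obtain ⟨g, hg, hd⟩ := det_surj_blocks (sameBlocks e) hF 0 (hb 0) A'
      exact ⟨g, mem_sup_left hg, hd⟩
    · set B := R ⊔ zpowers P
      haveI : (R.subgroupOf B).Normal := (normal_subgroupOf_iff_le_normalizer le_sup_left).2
        (sup_le le_normalizer (zpowers_le.2 hPR))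
      let P' : B := ⟨P, mem_sup_right (mem_zpowers P)⟩
      have hne : (QuotientGroup.mk' (R.subgroupOf B) P') ≠ 1 := fun h => by
        have h1 : P ^ 1 ∈ R := by
          rw [pow_one]; exact mem_subgroupOf.1 ((QuotientGroup.eq_one_iff P').1 h)
        have h2 := hPnot 1 h1
        rw [pow_one, hP] at h2
        have h3 := congrFun (congrArg (fun A : GU n F q => A.1.1 *ᵥ
          (Pi.single (e (0, ⟨0, hc⟩)) (1 : F) : Fin n → F)) h2) (e (0, ⟨0, hc⟩))
        simp only [permGU_mulVec, Function.comp_apply, blockPerm_apply, GU_one_mulVec,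
          Pi.single_eq_same] at h3
        rw [Pi.single_eq_of_ne] at h3
        · exact zero_ne_one h3
        · exact fun h => hτi 0 (Prod.ext_iff.1 (e.injective h)).1
      have hord : orderOf (QuotientGroup.mk' (R.subgroupOf B) P') = r := orderOf_eq_prime (by
        rw [← map_pow, show P' ^ r = 1 from Subtype.ext hPr, map_one]) hne
      have hcard : Nat.card (B ⧸ R.subgroupOf B) * Nat.card R = Nat.card B := by
        rw [← Nat.card_congr (subgroupOfEquivOfLe (le_sup_left : R ≤ B)).toEquiv,
          ← card_eq_card_quotient_mul_card_subgroup]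
      rw [← hcard, padicValNat.mul Nat.card_pos.ne' Nat.card_pos.ne',
        card_block_range _ hF hr hrq, hv, Finset.sum_const, Finset.card_univ, Fintype.card_fin,
        smul_eq_mul]
      have : 1 ≤ padicValNat r (Nat.card (B ⧸ R.subgroupOf B)) :=
        one_le_padicValNat_of_dvd Nat.card_pos.ne' (hord ▸ orderOf_dvd_natCard _)
      omega

/-- `SU n` has no multiplier at a prime other than the characteristic. -/
theorem tame_SU_cross [CharP F p] (hF : Fintype.card F = q ^ 2) (hp : p.Prime) (hr : r.Prime)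
    (hpr : p ≠ r) : ∀ n, Tame r (SU n F q) := by
  haveI := Fact.mk hr
  have hrq : ¬ r ∣ q := fun h => by
    obtain ⟨p', k, hp', hchar, -, rfl⟩ := q_eq_primePow hF
    exact hpr ((CharP.eq F ‹CharP F p› hchar).trans
      ((Nat.prime_dvd_prime_iff_eq hr hp').1 (hr.dvd_of_dvd_pow h)).symm)
  intro n
  induction n using Nat.strong_induction_on with
  | _ n IH =>
    intro E _ _ σ hσ hk hker
    by_cases hn : n ≤ 1
    · haveI : Subsingleton (SU n F q) := ⟨fun A B => by
        refine Subtype.ext (Subtype.ext ?_)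
        interval_cases n
        · exact Subsingleton.elim _ _
        · ext i j
          have hA := A.1.2
          have hB := B.1.2
          rw [Matrix.det_fin_one] at hA hB
          rw [Subsingleton.elim i 0, Subsingleton.elim j 0, hA, hB]⟩
      have hc : commutator E = ⊥ := by
        rw [commutator_def, eq_bot_iff, commutator_le]
        intro a _ b _
        exact mem_bot.2 (commutatorElement_eq_one_iff_commute.2
          (commute_ker hk (Subsingleton.elim _ _) a))
      rw [hc, bot_inf_eq]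
    rcases shapes hr (one_lt_q hF) hrq (n := n) (by omega) with
      ⟨k, hk1, hk2, hv⟩ | ⟨c, hc, hnc, hv, hev⟩ | hv
    · exact commutator_inf_ker_two hF hp hr hpr hrq hσ hk hker IH hk1 hk2 hv
    · exact commutator_inf_ker_wreath hF hp hr hpr hrq hσ hk hker IH hc hnc hv hev
    · obtain ⟨m, rfl⟩ : ∃ m, n = m + 1 := ⟨n - 1, by omega⟩
      have hd : ¬ r ∣ Nat.card (SU m F q) := fun hd => by
        have h1 := congrArg (padicValNat r) (card_SU (n := m) hF (by omega))
        rw [padicValNat.mul (by omega) Nat.card_pos.ne', padicValNat_card_GU hF hr hrq] at h1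
        have h2 := one_le_padicValNat_of_dvd (Nat.card_pos.ne') hd
        have h3 : vGU r q 1 = padicValNat r (q + 1) := by
          rw [← padicValNat_card_GU hF hr hrq, card_GU hF]; simp
        rw [show m + 1 - 1 = m by omega] at hv
        omega
      obtain ⟨P⟩ := (inferInstance : Nonempty (Sylow r (SU (m + 1) F q)))
      exact commutator_inf_ker_of_index hk hσ hr hker
        (split_semiregular hF hp hr hpr hd hσ hk P) P.not_dvd_index

end Cfsg.Agent.Lib.MultPSU
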