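import Mathlib
import Cfsg.Agent.Lib.MultPSU.Ext
import Cfsg.Agent.Lib.MultPSU.Blocks
import Cfsg.Agent.Lib.MinIndexPSU.Overgroup

/-!
Lib/MultPSU/Levi: elements of the Levi part of the stabiliser of an isotropic line, and the vectors
of the rest of a hyperbolic pair.
-/

set_option autoImplicit false
set_option linter.unusedSectionVars false

namespace Cfsg.Agent.Lib.MultPSU

open Matrix Module Subgroup Cfsg.Agent.Lib.Unitary Cfsg.Agent.Lib.AutPSU
open Cfsg.Agent.Lib.MinIndexPSU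
open scoped commutatorElement

universe u

variable {F : Type u} [Field F] [Fintype F] {q n : ℕ} {e f v v' : Fin n → F}

/-- `g` scales the hyperbolic pair, the first vector by `a`. -/
structure Lev (q : ℕ) (e f : Fin n → F) (a : F) (g : SU n F q) : Prop where
  left : g.1.1 *ᵥ e = a • e
  right : g.1.1 *ᵥ f = (a ^ q)⁻¹ • f
  ne : a ≠ 0

theorem Lev.mem_rest (hF : Fintype.card F = q ^ 2) {a : F} {g : SU n F q} (hg : Lev q e f a g)
    {z : Fin n → F} (hz : z ∈ rest q e f) : g.1.1 *ᵥ z ∈ rest q e f := by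
  obtain ⟨hze, hzf⟩ := (MinIndexPSU.mem_rest hF).1 hz
  rw [MinIndexPSU.mem_rest hF]
  constructor
  · have := SU_herm g z e
    rw [hg.left, herm_smul_right, hze] at this
    exact (mul_eq_zero.1 this).resolve_left (pow_ne_zero q hg.ne)
  · have := SU_herm g z f
    rw [hg.right, herm_smul_right, hzf] at this
    exact (mul_eq_zero.1 this).resolve_left (pow_ne_zero q (inv_ne_zero (pow_ne_zero q hg.ne)))

theorem Lev.mem_NS {a : F} {g : SU n F q} (hg : Lev q e f a g) : g ∈ NS e := ⟨a, hg.ne, hg.left⟩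

theorem Lev.zp_conj (hF : Fintype.card F = q ^ 2) (h : Hyp q e f) {a : F} {g : SU n F q}
    (hg : Lev q e f a g) {X : SU n F q} (hX : X ∈ QS e) :
    zp e f (g * X * g⁻¹) = a ^ q • (g.1.1 *ᵥ zp e f X) := by
  rw [MinIndexPSU.zp_conj hF h hg.left hX, proj_of_mem hF (hg.mem_rest hF (zp_mem hF h X))]

theorem Lev.commute_RS (hF : Fintype.card F = q ^ 2) (h : Hyp q e f) {a : F} {g : SU n F q}
    (hg : Lev q e f a g) (ha : a ^ (q + 1) = 1) {X : SU n F q} (hX : X ∈ RS e) :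
    Commute g X := by
  have hXN : g * X * g⁻¹ ∈ RS e := NS_conj_RS hg.mem_NS hX
  have h1 := (exists_tc hF h hXN).2
  rw [tc_conj hF h hg.left hX, ha, one_mul] at h1
  have : g * X * g⁻¹ = X := suToGU_injective (h1.unique (exists_tc hF h hX).2)
  exact mul_inv_eq_iff_eq_mul.1 this

/-- Replacing `g` by a power of order prime to `p` with the same eigenvectors. -/
theorem exists_coprime_version (hF : Fintype.card F = q ^ 2) {p : ℕ} (hp : p.Prime)
    (hpq : p ∣ q) (g : SU n F q) :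
    ∃ g' : SU n F q, (∀ (v : Fin n → F) (c : F), g.1.1 *ᵥ v = c • v → g'.1.1 *ᵥ v = c • v) ∧
      ∃ o, ¬ p ∣ o ∧ g' ^ o = 1 := by
  obtain ⟨k, o, ho, he⟩ := Nat.exists_eq_pow_mul_and_not_dvd (orderOf_pos g).ne' p hp.ne_one
  refine ⟨g ^ (q ^ 2) ^ k, fun v c hv => ?_, o, ho, ?_⟩
  · have hpow : ∀ j : ℕ, (g ^ j).1.1 *ᵥ v = c ^ j • v := fun j => by
      induction j with
      | zero => simp
      | succ j ih => rw [pow_succ', SU_mul_mulVec, ih, Matrix.mulVec_smul, hv, smul_smul, pow_succ]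
    rw [hpow ((q ^ 2) ^ k), ← hF, FiniteField.pow_card_pow]
  · rw [← pow_mul, ← orderOf_dvd_iff_pow_eq_one, he]
    exact Nat.mul_dvd_mul (pow_dvd_pow_of_dvd (dvd_pow hpq two_ne_zero) k) dvd_rfl

/-- A scaling of a family of orthonormal vectors. -/
theorem exists_GU_scale_family (hF : Fintype.card F = q ^ 2) {l : F} (hl : l * l ^ q = 1) :
    ∀ {k : ℕ} (g : Fin k → Fin n → F), Orthonormal' q g →
      ∃ A : GU n F q, A.1.1.det = l ^ k ∧ (∀ i, A.1.1 *ᵥ g i = l • g i) ∧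
        ∀ v, (∀ i, hermForm n F q v (g i) = 0) → A.1.1 *ᵥ v = v := by
  intro k
  induction k with
  | zero => exact fun g _ => ⟨1, by simp, fun i => i.elim0, fun v _ => by simp⟩
  | succ k ih =>
    intro g hg
    obtain ⟨A, hdet, hA, hAfix⟩ := ih (fun i => g i.succ) fun i j => by
      simpa [Fin.succ_inj] using hg i.succ j.succ
    obtain ⟨S, hSdet, hS, hSfix⟩ := exists_GU_scale hF (x := g 0) (by simpa using hg 0 0) hl
    refine ⟨S * A, ?_, fun i => ?_, fun v hv => ?_⟩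
    · simp only [Subgroup.coe_mul, Units.val_mul, Matrix.det_mul, hdet, hSdet, pow_succ']
    · rw [GU_mul_mulVec]
      refine Fin.cases ?_ (fun j => ?_) i
      · rw [hAfix _ fun j => by simpa [(Fin.succ_ne_zero j).symm] using hg 0 j.succ, hS]
      · rw [hA, Matrix.mulVec_smul, hSfix _ (by simpa [Fin.succ_ne_zero j] using hg j.succ 0)]
    · rw [GU_mul_mulVec, hAfix v fun i => hv i.succ, hSfix v (hv 0)]

/-- A Levi element scaling the rest. -/
theorem exists_lev_scalar (hF : Fintype.card F = q ^ 2) (h : Hyp q e f) {a l : F} (ha : a ≠ 0)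
    (hl : l * l ^ q = 1) (hdet : a * (a ^ q)⁻¹ * l ^ (n - 2) = 1) :
    ∃ g : SU n F q, Lev q e f a g ∧ ∀ z ∈ rest q e f, g.1.1 *ᵥ z = l • z := by
  obtain ⟨A, hAdet, hAe, hAf, hAfix⟩ := exists_GU_hyp_scale hF h ha
  obtain ⟨c, hc, ho, hli⟩ := h.exists_complement hF
  obtain ⟨B, hBdet, hBc, hBfix⟩ := exists_GU_scale_family hF hl c hc
  obtain ⟨g, hg⟩ := exists_SU_of_GU (A := B * A) (by
    simp only [Subgroup.coe_mul, Units.val_mul, Matrix.det_mul, hAdet, hBdet]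
    linear_combination hdet)
  have hBe : B.1.1 *ᵥ e = e := hBfix e fun i => herm_eq_zero_symm hF (ho i).1
  have hBf : B.1.1 *ᵥ f = f := hBfix f fun i => herm_eq_zero_symm hF (ho i).2
  refine ⟨g, ⟨?_, ?_, ha⟩, fun z hz => ?_⟩
  · rw [hg, GU_mul_mulVec, hAe, Matrix.mulVec_smul, hBe]
  · rw [hg, GU_mul_mulVec, hAf, Matrix.mulVec_smul, hBf]
  · obtain ⟨hze, hzf⟩ := (MinIndexPSU.mem_rest hF).1 hz
    rw [hg, GU_mul_mulVec, hAfix z hze hzf, h.complement_expand hF hc ho hli hze hzf]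
    simp [Matrix.mulVec_sum, Matrix.mulVec_smul, hBc, Finset.smul_sum, smul_smul, mul_comm]

/-- A Levi element acting diagonally on a hyperbolic pair of the rest, with an anisotropic vector
absorbing the determinant. -/
theorem exists_lev_pair_u (hF : Fintype.card F = q ^ 2) (h : Hyp q e f) (hv : Hyp q v v')
    (hvW : v ∈ rest q e f) (hv'W : v' ∈ rest q e f) {u : Fin n → F} (huW : u ∈ rest q e f)
    (huv : hermForm n F q u v = 0) (huv' : hermForm n F q u v' = 0) (hu : hermForm n F q u u = 1)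
    {a μ : F} (ha : a ≠ 0) (hμ : μ ≠ 0) :
    ∃ g : SU n F q, Lev q e f a g ∧ g.1.1 *ᵥ v = μ • v ∧ g.1.1 *ᵥ v' = (μ ^ q)⁻¹ • v' ∧
      g.1.1 *ᵥ u = ((a * μ) ^ q * (a * μ)⁻¹) • u := by
  obtain ⟨hve, hvf⟩ := (MinIndexPSU.mem_rest hF).1 hvW
  obtain ⟨hv'e, hv'f⟩ := (MinIndexPSU.mem_rest hF).1 hv'W
  obtain ⟨hue, huf⟩ := (MinIndexPSU.mem_rest hF).1 huW
  obtain ⟨A, hAdet, hAe, hAf, hAfix⟩ := exists_GU_hyp_scale hF h ha
  obtain ⟨B, hBdet, hBv, hBv', hBfix⟩ := exists_GU_hyp_scale hF hv hμ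
  have hx : a * μ ≠ 0 := mul_ne_zero ha hμ
  have hν : (a * μ) ^ q * (a * μ)⁻¹ * ((a * μ) ^ q * (a * μ)⁻¹) ^ q = 1 := by
    simp only [mul_pow, inv_pow, pow_q_q hF]
    field_simp
  obtain ⟨C, hCdet, hCu, hCfix⟩ := exists_GU_scale hF hu hν
  obtain ⟨g, hg⟩ := exists_SU_of_GU (A := C * B * A) (by
    simp only [Subgroup.coe_mul, Units.val_mul, Matrix.det_mul, hAdet, hBdet, hCdet, mul_pow, mul_inv]
    field_simp)
  refine ⟨g, ⟨?_, ?_, ha⟩, ?_, ?_, ?_⟩ <;> rw [hg, GU_mul_mulVec, GU_mul_mulVec]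
  · rw [hAe, Matrix.mulVec_smul, hBfix e (herm_eq_zero_symm hF hve) (herm_eq_zero_symm hF hv'e),
      Matrix.mulVec_smul, hCfix e (herm_eq_zero_symm hF hue)]
  · rw [hAf, Matrix.mulVec_smul, hBfix f (herm_eq_zero_symm hF hvf) (herm_eq_zero_symm hF hv'f),
      Matrix.mulVec_smul, hCfix f (herm_eq_zero_symm hF huf)]
  · rw [hAfix v hve hvf, hBv, Matrix.mulVec_smul, hCfix v (herm_eq_zero_symm hF huv)]
  · rw [hAfix v' hv'e hv'f, hBv', Matrix.mulVec_smul, hCfix v' (herm_eq_zero_symm hF huv')]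
  · rw [hAfix u hue huf, hBfix u huv huv', hCu]

/-- A Levi element acting diagonally on a hyperbolic pair of the rest. -/
theorem exists_lev_pair (hF : Fintype.card F = q ^ 2) (h : Hyp q e f) (hv : Hyp q v v')
    (hvW : v ∈ rest q e f) (hv'W : v' ∈ rest q e f)
    {a μ : F} (ha : a ≠ 0) (hμ : μ ≠ 0) (hfix : (a * μ) ^ q = a * μ) :
    ∃ g : SU n F q, Lev q e f a g ∧ g.1.1 *ᵥ v = μ • v ∧ g.1.1 *ᵥ v' = (μ ^ q)⁻¹ • v' := by
  obtain ⟨hve, hvf⟩ := (MinIndexPSU.mem_rest hF).1 hvW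
  obtain ⟨hv'e, hv'f⟩ := (MinIndexPSU.mem_rest hF).1 hv'W
  obtain ⟨A, hAdet, hAe, hAf, hAfix⟩ := exists_GU_hyp_scale hF h ha
  obtain ⟨B, hBdet, hBv, hBv', hBfix⟩ := exists_GU_hyp_scale hF hv hμ
  obtain ⟨g, hg⟩ := exists_SU_of_GU (A := B * A) (by
    simp only [Subgroup.coe_mul, Units.val_mul, Matrix.det_mul, hAdet, hBdet]
    rw [show μ * (μ ^ q)⁻¹ * (a * (a ^ q)⁻¹) = (a * μ) * ((a * μ) ^ q)⁻¹ by rw [mul_pow, mul_inv]; ring,
      hfix, mul_inv_cancel₀ (mul_ne_zero ha hμ)])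
  refine ⟨g, ⟨?_, ?_, ha⟩, ?_, ?_⟩ <;> rw [hg, GU_mul_mulVec]
  · rw [hAe, Matrix.mulVec_smul, hBfix e (herm_eq_zero_symm hF hve) (herm_eq_zero_symm hF hv'e)]
  · rw [hAf, Matrix.mulVec_smul, hBfix f (herm_eq_zero_symm hF hvf) (herm_eq_zero_symm hF hv'f)]
  · rw [hAfix v hve hvf, hBv]
  · rw [hAfix v' hv'e hv'f, hBv']

/-! ### Vectors -/

theorem exists_partner_in (hF : Fintype.card F = q ^ 2) {W : Submodule F (Fin n → F)}
    (hW : Nondeg q W) (hvW : v ∈ W) (hv0 : v ≠ 0) (hiso : hermForm n F q v v = 0) :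
    ∃ w ∈ W, Hyp q v w := by
  obtain ⟨y, hy, hvy⟩ : ∃ y ∈ W, hermForm n F q v y ≠ 0 := by
    by_contra hc
    push Not at hc
    exact hv0 (hW v hvW hc)
  obtain ⟨a, ha⟩ := exists_isotropic_shift hF hiso hvy
  set y' := y + a • v
  have hvy' : hermForm n F q v y' = hermForm n F q v y := by
    simp only [y', herm_add_right _ _ _ hF, herm_smul_right, hiso, mul_zero, add_zero]
  exact ⟨_, W.smul_mem _ (W.add_mem hy (W.smul_mem _ hvW)),
    hyp_of_nonorth hF hiso ha (hvy' ▸ hvy)⟩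

theorem exists_isotropic_pair (hF : Fintype.card F = q ^ 2) {W : Submodule F (Fin n → F)}
    (hW : Nondeg q W) (h2 : 2 ≤ finrank F W) : ∃ v ∈ W, ∃ w ∈ W, Hyp q v w := by
  obtain ⟨g, hg, hgW, -⟩ := exists_orthonormal_of_nondeg hF _ W rfl hW
  obtain ⟨c, hc⟩ := norm_surj hF (y := (-1 : F)) (by rw [neg_pow_q hF, one_pow])
  have e0 := hg ⟨0, by omega⟩ ⟨0, by omega⟩
  have e1 := hg ⟨1, by omega⟩ ⟨1, by omega⟩
  have e01 := hg ⟨0, by omega⟩ ⟨1, by omega⟩
  rw [if_pos rfl] at e0 e1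
  rw [if_neg (by simp)] at e01
  have hiso : hermForm n F q (g ⟨0, by omega⟩ + c • g ⟨1, by omega⟩)
      (g ⟨0, by omega⟩ + c • g ⟨1, by omega⟩) = 0 := by
    simp only [herm_add_left, herm_add_right _ _ _ hF, herm_smul_left, herm_smul_right, e0, e1, e01,
      herm_eq_zero_symm hF e01, mul_zero, add_zero, zero_add, mul_one]
    linear_combination hc
  have hne : g ⟨0, by omega⟩ + c • g ⟨1, by omega⟩ ≠ 0 := fun h0 => by
    have := congrArg (fun x => hermForm n F q x (g ⟨0, by omega⟩)) h0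
    simp [herm_add_left, herm_smul_left, herm_zero_left, e0, herm_eq_zero_symm hF e01] at this
  have hmem : g ⟨0, by omega⟩ + c • g ⟨1, by omega⟩ ∈ W := W.add_mem (hgW _) (W.smul_mem _ (hgW _))
  obtain ⟨w, hw, hp⟩ := exists_partner_in hF hW hmem hne hiso
  exact ⟨_, hmem, w, hw, hp⟩

theorem exists_unit_perp_pair (hF : Fintype.card F = q ^ 2) {W : Submodule F (Fin n → F)}
    (hW : Nondeg q W) (hv : Hyp q v v') (hvW : v ∈ W) (hv'W : v' ∈ W) (h3 : 3 ≤ finrank F W) :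
    ∃ u ∈ W, hermForm n F q u v = 0 ∧ hermForm n F q u v' = 0 ∧ hermForm n F q u u = 1 := by
  have hle : Submodule.span F ({v, v'} : Set (Fin n → F)) ≤ W :=
    Submodule.span_le.2 (by rintro x (rfl | rfl) <;> assumption)
  obtain ⟨h1, h2⟩ := nondeg_inf_perp hF hW (hv.nondeg hF) hle
  rw [(hv.finrank_span hF).2] at h2
  obtain ⟨u, hu, hu1⟩ := exists_norm_one_of_nondeg hF h1 fun hb => by
    rw [hb, finrank_bot] at h2; omega
  exact ⟨u, hu.1, hu.2 v (Submodule.subset_span (by simp)),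
    hu.2 v' (Submodule.subset_span (by simp)), hu1⟩

/-- A nondegenerate space of dimension at least two is generated by its isotropic vectors. -/
theorem mem_of_isotropic (hF : Fintype.card F = q ^ 2) {W : Submodule F (Fin n → F)}
    (hW : Nondeg q W) (h2 : 2 ≤ finrank F W) (S : AddSubgroup (Fin n → F))
    (hS : ∀ x ∈ W, hermForm n F q x x = 0 → x ∈ S) {y : Fin n → F} (hy : y ∈ W) : y ∈ S := by
  obtain ⟨v, hvW, w, hwW, hp⟩ := exists_isotropic_pair hF hW h2
  set a := hermForm n F q y w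
  set b := hermForm n F q y v
  set r := y - a • v - b • w with hr
  have hrW : r ∈ W := W.sub_mem (W.sub_mem hy (W.smul_mem _ hvW)) (W.smul_mem _ hwW)
  obtain ⟨hrv, hrw⟩ : hermForm n F q r v = 0 ∧ hermForm n F q r w = 0 := by
    constructor <;> simp [r, a, b, herm_sub_left, herm_smul_left, hp.1, hp.2.1, hp.2.2, hp.symm' hF]
  obtain ⟨β, hβ⟩ := exists_eich_param hF r
  have hx : hermForm n F q (v + β • w + r) (v + β • w + r) = 0 := by
    simp only [herm_add_left, herm_add_right _ _ _ hF, herm_smul_left, herm_smul_right, hp.1, hp.2.1,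
      hp.2.2, hp.symm' hF, hrv, hrw, herm_eq_zero_symm hF hrv, herm_eq_zero_symm hF hrw, mul_zero,
      add_zero, zero_add, mul_one]
    linear_combination hβ
  have hline : ∀ (t : F) {x : Fin n → F}, x ∈ W → hermForm n F q x x = 0 → t • x ∈ S :=
    fun t x hxW hx0 => hS _ (W.smul_mem t hxW) (by rw [herm_smul_left, herm_smul_right, hx0]; simp)
  have hy' : y = a • v + b • w + ((v + β • w + r) - v - β • w) := by simp only [hr]; abel
  rw [hy']
  refine S.add_mem (S.add_mem (hline a hvW hp.1) (hline b hwW hp.2.1)) (S.sub_mem (S.sub_mem ?_ ?_) ?_)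
  · exact hS _ (W.add_mem (W.add_mem hvW (W.smul_mem _ hwW)) hrW) hx
  · exact hS _ hvW hp.1
  · exact hline β hwW hp.2.1

/-- The transvection parameter of a commutator. -/
theorem tc_commutator (hF : Fintype.card F = q ^ 2) (h : Hyp q e f) {X Y : SU n F q}
    (hX : X ∈ QS e) (hY : Y ∈ QS e) :
    ⁅X, Y⁆ ∈ RS e ∧ tc f ⁅X, Y⁆ =
      hermForm n F q (zp e f X) (zp e f Y) - hermForm n F q (zp e f Y) (zp e f X) := by
  obtain ⟨d, -, hA⟩ := exists_param hF h hX
  obtain ⟨d', -, hB⟩ := exists_param hF h hY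
  have hx := ((MinIndexPSU.mem_rest hF).1 (zp_mem hF h X)).1
  have hy := ((MinIndexPSU.mem_rest hF).1 (zp_mem hF h Y)).1
  have hXY : zp e f (X * Y) = zp e f (Y * X) := by
    rw [zp_mul hF h hX hY, zp_mul hF h hY hX, add_comm]
  have e1 : ⁅X, Y⁆ = X * Y * (Y * X)⁻¹ := by rw [commutatorElement_def]; group
  have hT : ⁅X, Y⁆ ∈ RS e := by
    rw [e1]
    refine mem_RS_of_zp hF h (mul_mem (mul_mem hX hY) (inv_mem (mul_mem hY hX))) ?_
    rw [zp_mul hF h (mul_mem hX hY) (inv_mem (mul_mem hY hX)),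
      zp_inv hF h (mul_mem hY hX), hXY, add_neg_cancel]
  refine ⟨hT, ?_⟩
  have h1 := hA.mul hF hB h.1 hx hy
  have h2 := ((exists_tc hF h hT).2.eich hF).mul hF (hB.mul hF hA h.1 hy hx) h.1 (herm_zero_left e)
    (by rw [herm_add_left, hy, hx, add_zero])
  rw [← map_mul, ← map_mul, e1, inv_mul_cancel_right, herm_zero_right _ hF, sub_zero] at h2
  rw [← map_mul] at h1
  have h3 := (h1 f).symm.trans (h2 f)
  rw [h.symm' hF, zero_add, add_comm (zp e f Y) (zp e f X)] at h3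
  simp only [mul_one, add_right_inj] at h3
  have h4 := smul_left_injective F (ne_zero_of_hyp h) h3
  rw [e1]
  linear_combination -h4

/-- Differences `x ^ q - x` fill the trace-zero scalars. -/
theorem exists_diff (hF : Fintype.card F = q ^ 2) {c : F} (hc : c + c ^ q = 0) :
    ∃ x : F, x - x ^ q = c := by
  obtain ⟨t, ht⟩ := trace_surj hF (y := (1 : F)) (one_pow q)
  refine ⟨t * c, ?_⟩
  rw [mul_pow, show c ^ q = -c by linear_combination hc]
  linear_combination c * ht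

/-! ### Extensions -/

/-- Lifts of commuting elements commute when one has order prime to the kernel. -/
theorem commute_of_coprime {G E : Type*} [Group G] [Group E] {σ : E →* G} (hk : σ.ker ≤ center E)
    {p : ℕ} (hp : p.Prime) (hker : IsPGroup p σ.ker) {g c : E} {o : ℕ} (ho : ¬ p ∣ o)
    (hg : σ g ^ o = 1) (hc : Commute (σ g) (σ c)) : Commute g c := by
  have hz : σ ⁅g, c⁆ = 1 := by
    rw [map_commutatorElement]; exact commutatorElement_eq_one_iff_commute.2 hc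
  have hzc : ∀ w, Commute w ⁅g, c⁆ := fun w => mem_center_iff.1 (hk hz) w
  have hpow : ∀ N : ℕ, g ^ N * c = ⁅g, c⁆ ^ N * (c * g ^ N) := by
    intro N
    induction N with
    | zero => simp
    | succ N ih =>
      have h1 : g * c = ⁅g, c⁆ * (c * g) := by rw [commutatorElement_def]; group
      calc g ^ (N + 1) * c = g ^ N * (g * c) := by rw [pow_succ, mul_assoc]
        _ = ⁅g, c⁆ * (g ^ N * c) * g := by rw [h1, ← mul_assoc, (hzc _).eq]; group
        _ = ⁅g, c⁆ ^ (N + 1) * (c * g ^ (N + 1)) := by rw [ih, pow_succ', pow_succ]; group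
  have h2 := hpow o
  have hgo : Commute (g ^ o) c :=
    (mem_center_iff.1 (hk (show σ (g ^ o) = 1 by rw [map_pow, hg])) c).symm
  rw [hgo.eq] at h2
  have h4 : ⁅g, c⁆ ^ o = 1 := mul_eq_right.1 h2.symm
  obtain ⟨l, hl⟩ := hker ⟨_, hz⟩
  exact commutatorElement_eq_one_iff_commute.1 (orderOf_eq_one_iff.1 (Nat.eq_one_of_dvd_coprimes
    (((hp.coprime_iff_not_dvd).2 ho).pow_left l) (orderOf_dvd_of_pow_eq_one (congrArg Subtype.val hl))
    (orderOf_dvd_of_pow_eq_one h4)))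

end Cfsg.Agent.Lib.MultPSU
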