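import Mathlib
import Cfsg.Agent.Lib.MultPSU.Levi

/-!
Lib/MultPSU/Center: in a central extension with `p`-group kernel the preimages of the root group
`RS e` are central in the preimage of `QS e`.
-/

set_option autoImplicit false
set_option linter.unusedSectionVars false

namespace Cfsg.Agent.Lib.MultPSU

open Matrix Module Subgroup Cfsg.Agent.Lib.Unitary Cfsg.Agent.Lib.AutPSU
open Cfsg.Agent.Lib.MinIndexPSU
open scoped commutatorElement

universe u v

variable {F : Type u} [Field F] [Fintype F] {q n : ℕ} {e f : Fin n → F}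
variable {p : ℕ} {E : Type v} [Group E] {σ : E →* SU n F q}

/-- A central extension of `SU n` with a `p`-group kernel, `p` dividing `q`. -/
structure PExt (p : ℕ) (σ : E →* SU n F q) : Prop where
  card : Fintype.card F = q ^ 2
  prime : p.Prime
  dvd : p ∣ q
  surj : Function.Surjective σ
  central : σ.ker ≤ center E
  pgrp : IsPGroup p σ.ker

/-- The sizes covered by the argument. -/
structure Size (q n : ℕ) : Prop where
  three_le : 3 ≤ n
  three : n = 3 → 3 ≤ q
  four : n = 4 → 4 ≤ q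
  six : ¬ (n = 6 ∧ q = 2)

/-- The action of a Levi element on the rest parameters. -/
def act (q : ℕ) (a : F) (g : SU n F q) (z : Fin n → F) : Fin n → F := a ^ q • (g.1.1 *ᵥ z)

/-! ### Scalars -/

theorem card_pow_eq_one_le {k : ℕ} (hk : 0 < k) : Nat.card {x : F // x ^ k = 1} ≤ k := by
  classical
  rw [Nat.card_eq_fintype_card, Fintype.card_subtype]
  refine (Finset.card_le_card (t := (Polynomial.nthRoots k (1 : F)).toFinset) fun x hx => ?_).trans
    ((Multiset.toFinset_card_le _).trans (Polynomial.card_nthRoots k 1))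
  simpa [Polynomial.mem_nthRoots hk] using hx

theorem exists_norm_one_pow_ne (hF : Fintype.card F = q ^ 2) {k : ℕ} (hk : 0 < k) (hlt : k < q + 1) :
    ∃ l : F, l ^ (q + 1) = 1 ∧ l ^ k ≠ 1 := by
  by_contra hcon
  push Not at hcon
  have := Nat.card_le_card_of_injective
    (fun x : {x : F // x ^ (q + 1) = 1} => (⟨x.1, hcon x.1 x.2⟩ : {x : F // x ^ k = 1}))
    fun x y hxy => Subtype.ext (congrArg (fun z : {x : F // x ^ k = 1} => z.1) hxy)
  rw [card_norm_one hF] at this
  have := this.trans (card_pow_eq_one_le hk)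
  omega

theorem exists_fixed_ne (hF : Fintype.card F = q ^ 2) (hq : 3 ≤ q) :
    ∃ μ : F, μ ^ q = μ ∧ μ ≠ 0 ∧ μ ≠ 1 := by
  classical
  have h := card_fixed hF
  rw [Nat.card_eq_fintype_card, Fintype.card_subtype] at h
  by_contra hcon
  push Not at hcon
  have hle : (Finset.univ.filter fun x : F => x ^ q = x).card ≤ ({0, 1} : Finset F).card :=
    Finset.card_le_card fun x hx => by
      simp only [Finset.mem_filter, Finset.mem_univ, true_and] at hx
      by_cases h0 : x = 0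
      · simp [h0]
      · simp [hcon x hx h0]
  have := hle.trans Finset.card_le_two
  omega

theorem exists_ne_zero_one (hF : Fintype.card F = q ^ 2) : ∃ μ : F, μ ≠ 0 ∧ μ ≠ 1 := by
  classical
  by_contra hcon
  push Not at hcon
  have hle : (Finset.univ : Finset F).card ≤ ({0, 1} : Finset F).card :=
    Finset.card_le_card fun x _ => by
      by_cases h0 : x = 0
      · simp [h0]
      · simp [hcon x h0]
  have h2 := hle.trans Finset.card_le_two
  rw [Finset.card_univ, hF] at h2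
  have := one_lt_q hF
  nlinarith

/-! ### Root elements -/

theorem eq_of_tc (hF : Fintype.card F = q ^ 2) (h : Hyp q e f) {X Y : SU n F q} (hX : X ∈ RS e)
    (hY : Y ∈ RS e) (hXY : tc f X = tc f Y) : X = Y :=
  suToGU_injective ((exists_tc hF h hX).2.unique (hXY ▸ (exists_tc hF h hY).2))

theorem commute_QS_RS (hF : Fintype.card F = q ^ 2) (h : Hyp q e f) {X T : SU n F q}
    (hX : X ∈ QS e) (hT : T ∈ RS e) : Commute X T := by
  obtain ⟨hXT, htc⟩ := tc_commutator hF h hX (RS_le_QS h.1 hT)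
  rw [zp_of_RS hF h hT, herm_zero_left, herm_zero_right _ hF, sub_zero] at htc
  exact commutatorElement_eq_one_iff_commute.1
    (eq_of_tc hF h hXT (one_mem _) (htc.trans (tc_one hF h).symm))

theorem exists_QS_zp (hF : Fintype.card F = q ^ 2) (h : Hyp q e f) {z : Fin n → F}
    (hz : z ∈ rest q e f) : ∃ X ∈ QS (q := q) e, zp e f X = z := by
  obtain ⟨d, hd⟩ := exists_eich_param hF z
  have hze := ((MinIndexPSU.mem_rest hF).1 hz).1
  obtain ⟨X, hX⟩ := exists_SU_eich hF h.1 hze hd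
  exact ⟨X, mem_QS_of_eich hF h.1 hze hX, zp_of_eich hF h hz hX⟩

theorem PExt.exists_lift (X : PExt p σ) (h : Hyp q e f) {z : Fin n → F} (hz : z ∈ rest q e f) :
    ∃ k, σ k ∈ QS e ∧ zp e f (σ k) = z := by
  obtain ⟨Y, hY, hYz⟩ := exists_QS_zp X.card h hz
  obtain ⟨k, rfl⟩ := X.surj Y
  exact ⟨k, hY, hYz⟩

/-! ### Centrality -/

/-- The rest parameters of the elements above `QS e` commuting with `s`. -/
def cenPart (hF : Fintype.card F = q ^ 2) (h : Hyp q e f) (σ : E →* SU n F q) (s : E) :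
    AddSubgroup (Fin n → F) where
  carrier := {z | ∃ k, σ k ∈ QS e ∧ zp e f (σ k) = z ∧ Commute k s}
  zero_mem' := ⟨1, by rw [map_one]; exact one_mem _, by rw [map_one, zp_one hF h],
    Commute.one_left s⟩
  add_mem' := by
    rintro _ _ ⟨k, hk, rfl, hks⟩ ⟨l, hl, rfl, hls⟩
    exact ⟨k * l, by rw [map_mul]; exact mul_mem hk hl, by rw [map_mul, zp_mul hF h hk hl],
      hks.mul_left hls⟩
  neg_mem' := by
    rintro _ ⟨k, hk, rfl, hks⟩
    exact ⟨k⁻¹, by rw [map_inv]; exact inv_mem hk, by rw [map_inv, zp_inv hF h hk], hks.inv_left⟩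

theorem commute_mul_inv {G : Type*} [Group G] {a k s : G} (hc : ∀ w, Commute w ⁅k, s⁆)
    (h : ⁅a, s⁆ = ⁅k, s⁆) : Commute (a * k⁻¹) s := by
  have h1 : k⁻¹ * s * k = ⁅k, s⁆⁻¹ * s := by
    have := (hc k⁻¹).eq
    calc k⁻¹ * s * k = k⁻¹ * (⁅k, s⁆⁻¹ * (k * s * k⁻¹)) * k := by rw [commutatorElement_def]; group
      _ = (k⁻¹ * ⁅k, s⁆⁻¹ * k) * s := by group
      _ = ⁅k, s⁆⁻¹ * s := by rw [((hc k⁻¹).inv_right).eq]; group
  have h2 : a * k⁻¹ * s * (k * a⁻¹) = s := by
    calc a * k⁻¹ * s * (k * a⁻¹) = a * (k⁻¹ * s * k) * a⁻¹ := by group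
      _ = ⁅k, s⁆⁻¹ * (a * s * a⁻¹) := by rw [h1, ← mul_assoc, ((hc a).inv_right).eq]; group
      _ = s := by rw [← h, commutatorElement_def]; group
  calc a * k⁻¹ * s = a * k⁻¹ * s * (k * a⁻¹) * (a * k⁻¹) := by group
    _ = s * (a * k⁻¹) := by rw [h2]

theorem PExt.lev_commute_RS (X : PExt p σ) (h : Hyp q e f) {a : F} {g : SU n F q}
    (hg : Lev q e f a g) (ha : a ^ (q + 1) = 1) {o : ℕ} (ho : ¬ p ∣ o) (hgo : g ^ o = 1) {t s : E}
    (ht : σ t = g) (hs : σ s ∈ RS e) : Commute t s :=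
  commute_of_coprime X.central X.prime X.pgrp ho (by rw [ht, hgo])
    (by rw [ht]; exact hg.commute_RS X.card h ha hs)

theorem PExt.act_sub_mem_cenPart (X : PExt p σ) (h : Hyp q e f) {a : F} {g : SU n F q}
    (hg : Lev q e f a g) (ha : a ^ (q + 1) = 1) {o : ℕ} (ho : ¬ p ∣ o) (hgo : g ^ o = 1) {s : E}
    (hs : σ s ∈ RS e) {z : Fin n → F} (hz : z ∈ rest q e f) :
    act q a g z - z ∈ cenPart X.card h σ s := by
  obtain ⟨k, hk, rfl⟩ := X.exists_lift h hz
  obtain ⟨t, ht⟩ := X.surj g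
  have hts := X.lev_commute_RS h hg ha ho hgo ht hs
  have hker : σ ⁅k, s⁆ = 1 := by
    rw [map_commutatorElement]
    exact commutatorElement_eq_one_iff_commute.2 (commute_QS_RS X.card h hk hs)
  have hc : ∀ w, Commute w ⁅k, s⁆ := fun w => mem_center_iff.1 (X.central hker) w
  have hconj : σ (t * k * t⁻¹) ∈ QS e := by
    rw [map_mul, map_mul, map_inv, ht]; exact NS_conj_QS hg.mem_NS hk
  refine ⟨t * k * t⁻¹ * k⁻¹, by rw [map_mul, map_inv]; exact mul_mem hconj (inv_mem hk), ?_, ?_⟩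
  · rw [map_mul, map_inv, zp_mul X.card h hconj (inv_mem hk), zp_inv X.card h hk, map_mul,
      map_mul, map_inv, ht, hg.zp_conj X.card h hk, ← sub_eq_add_neg, act]
  · refine commute_mul_inv hc ?_
    have h1 : t * s * t⁻¹ = s := by rw [hts.eq, mul_inv_cancel_right]
    calc ⁅t * k * t⁻¹, s⁆ = ⁅t * k * t⁻¹, t * s * t⁻¹⁆ := by rw [h1]
      _ = t * ⁅k, s⁆ * t⁻¹ := (conjugate_commutatorElement k s t).symm
      _ = ⁅k, s⁆ := by rw [(hc t).eq, mul_inv_cancel_right]

theorem PExt.rest_le_cenPart (X : PExt p σ) (hn : Size q n) (h : Hyp q e f) {s : E}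
    (hs : σ s ∈ RS e) {z : Fin n → F} (hz : z ∈ rest q e f) : z ∈ cenPart X.card h σ s := by
  have hF := X.card
  have hrk := finrank_rest hF h
  rcases Nat.lt_or_ge n 4 with hn4 | hn4
  · have hn3 : n = 3 := by have := hn.three_le; omega
    have hq := hn.three hn3
    obtain ⟨l, hl, hl3⟩ := exists_norm_one_pow_ne hF (k := 3) (by omega) (by omega)
    have hl0 : l ≠ 0 := fun h0 => by simp [h0] at hl
    have hlq : l ^ q = l⁻¹ := eq_inv_of_mul_eq_one_left (by rw [← pow_succ, hl])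
    obtain ⟨g, hg, hgz⟩ := exists_lev_scalar hF h (a := l) (l := l⁻¹ * l⁻¹) hl0
      (by rw [mul_pow, inv_pow, hlq, inv_inv]; field_simp)
      (by rw [show n - 2 = 1 by omega, pow_one, hlq, inv_inv]; field_simp)
    obtain ⟨g', hg', o, ho, hgo⟩ := exists_coprime_version hF X.prime X.dvd g
    set w : F := l ^ q * (l⁻¹ * l⁻¹) - 1
    have hw : w ≠ 0 := by
      simp only [w, hlq]
      intro h0
      apply hl3
      field_simp at h0
      linear_combination -h0
    have h1 := X.act_sub_mem_cenPart h ⟨hg' _ _ hg.left, hg' _ _ hg.right, hl0⟩ hl ho hgo hs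
      (Submodule.smul_mem _ w⁻¹ hz)
    rw [act, hg' _ _ (hgz _ (Submodule.smul_mem _ w⁻¹ hz)), smul_smul, smul_smul,
      ← sub_smul] at h1
    rwa [show l ^ q * (l⁻¹ * l⁻¹) * w⁻¹ - w⁻¹ = 1 by
      rw [← sub_one_mul, mul_inv_cancel₀ hw], one_smul] at h1
  · refine mem_of_isotropic hF (nondeg_rest hF h) (by omega) _ (fun v hv hv0 => ?_) hz
    by_cases hv1 : v = 0
    · rw [hv1]; exact AddSubgroup.zero_mem _
    obtain ⟨v', hv', hp⟩ := exists_partner_in hF (nondeg_rest hF h) hv hv1 hv0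
    obtain ⟨g, μ, hμ, hg, hgv⟩ : ∃ g : SU n F q, ∃ μ : F, μ ≠ 1 ∧ Lev q e f 1 g ∧
        g.1.1 *ᵥ v = μ • v := by
      rcases Nat.lt_or_ge n 5 with hn5 | hn5
      · have hq := hn.four (by omega)
        obtain ⟨μ, hμq, hμ0, hμ1⟩ := exists_fixed_ne hF (by omega)
        obtain ⟨g, hg, hgv, -⟩ := exists_lev_pair hF h hp hv hv' one_ne_zero hμ0
          (by rw [one_mul, hμq])
        exact ⟨g, μ, hμ1, hg, hgv⟩
      · obtain ⟨u, huW, huv, huv', hu⟩ :=
          exists_unit_perp_pair hF (nondeg_rest hF h) hp hv hv' (by omega)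
        obtain ⟨μ, hμ0, hμ1⟩ := exists_ne_zero_one hF
        obtain ⟨g, hg, hgv, -, -⟩ :=
          exists_lev_pair_u hF h hp hv hv' huW huv huv' hu one_ne_zero hμ0
        exact ⟨g, μ, hμ1, hg, hgv⟩
    obtain ⟨g', hg', o, ho, hgo⟩ := exists_coprime_version hF X.prime X.dvd g
    have hμ' : μ - 1 ≠ 0 := sub_ne_zero.2 hμ
    have h1 := X.act_sub_mem_cenPart h ⟨hg' _ _ hg.left, hg' _ _ hg.right, one_ne_zero⟩
      (one_pow _) ho hgo hs (Submodule.smul_mem _ (μ - 1)⁻¹ hv)
    rw [act, Matrix.mulVec_smul, hg' _ _ hgv, smul_smul, smul_smul, ← sub_smul, one_pow,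
      one_mul] at h1
    rwa [show (μ - 1)⁻¹ * μ - (μ - 1)⁻¹ = 1 by
      rw [← mul_sub_one, inv_mul_cancel₀ hμ'], one_smul] at h1

/-- Elements above the root group are central above `QS e`. -/
theorem PExt.commute_St (X : PExt p σ) (hn : Size q n) (h : Hyp q e f) {k s : E}
    (hk : σ k ∈ QS e) (hs : σ s ∈ RS e) : Commute k s := by
  have hF := X.card
  have hRR : ∀ r, σ r ∈ RS e → Commute r s := by
    intro r hr
    obtain ⟨x, hx⟩ := exists_diff hF (exists_tc hF h hr).1
    obtain ⟨w, hw, hw1⟩ := exists_norm_one_of_nondeg hF (nondeg_rest hF h) (fun hb => by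
      have := finrank_rest hF h
      have := hn.three_le
      rw [hb, finrank_bot] at *
      omega)
    obtain ⟨a, ha, haz, has⟩ := X.rest_le_cenPart hn h hs hw
    obtain ⟨b, hb, hbz, hbs⟩ := X.rest_le_cenPart hn h hs (Submodule.smul_mem _ (x ^ q) hw)
    obtain ⟨hab, htc⟩ := tc_commutator hF h ha hb
    rw [haz, hbz, herm_smul_right, herm_smul_left, hw1, pow_q_q hF, mul_one, mul_one, hx] at htc
    have he : σ r = σ ⁅a, b⁆ := by
      rw [map_commutatorElement]; exact (eq_of_tc hF h hab hr htc).symm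
    have hker : r * ⁅a, b⁆⁻¹ ∈ σ.ker := by
      rw [MonoidHom.mem_ker, map_mul, map_inv, he, mul_inv_cancel]
    have hcs : Commute ⁅a, b⁆ s := by
      rw [commutatorElement_def]
      exact ((has.mul_left hbs).mul_left has.inv_left).mul_left hbs.inv_left
    rw [← inv_mul_cancel_right r ⁅a, b⁆]
    exact (commute_ker X.central hker s).symm.mul_left hcs
  obtain ⟨k', hk', hz, hks⟩ := X.rest_le_cenPart hn h hs (zp_mem hF h (σ k))
  have hr : σ (k'⁻¹ * k) ∈ RS e := by
    rw [map_mul, map_inv]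
    exact mem_RS_of_zp hF h (mul_mem (inv_mem hk') hk)
      (by rw [zp_mul hF h (inv_mem hk') hk, zp_inv hF h hk', hz, neg_add_cancel])
  rw [← mul_inv_cancel_left k' k]
  exact hks.mul_left (hRR _ hr)

end Cfsg.Agent.Lib.MultPSU
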