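import Mathlib
import Cfsg.Agent.Lib.MultPSU.Center

/-!
Lib/MultPSU/Pairing: the commutator pairing of the lifts of `QS e`; biadditivity and the behaviour
under Levi elements.
-/

set_option autoImplicit false
set_option linter.unusedSectionVars false

namespace Cfsg.Agent.Lib.MultPSU

open Matrix Module Subgroup Cfsg.Agent.Lib.Unitary Cfsg.Agent.Lib.AutPSU
open Cfsg.Agent.Lib.MinIndexPSU
open scoped commutatorElement

universe u v

variable {F : Type u} [Field F] [Fintype F] {q n : ℕ} {e f : Fin n → F}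
variable {p : ℕ} {E : Type v} [Group E] {σ : E →* SU n F q}

/-- A lift above `QS e` with the rest parameter of `z`. -/
noncomputable def PExt.lz (X : PExt p σ) (h : Hyp q e f) (z : Fin n → F) : E :=
  Classical.choose (X.exists_lift h (proj_mem X.card h z))

/-- The commutator of two lifts. -/
noncomputable def PExt.cc (X : PExt p σ) (h : Hyp q e f) (z w : Fin n → F) : E :=
  ⁅X.lz h z, X.lz h w⁆

variable (X : PExt p σ) (hn : Size q n) (h : Hyp q e f)

theorem PExt.lz_mem (z : Fin n → F) : σ (X.lz h z) ∈ QS e :=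
  (Classical.choose_spec (X.exists_lift h (proj_mem X.card h z))).1

theorem PExt.lz_zp (z : Fin n → F) : zp e f (σ (X.lz h z)) = proj q e f z :=
  (Classical.choose_spec (X.exists_lift h (proj_mem X.card h z))).2

theorem PExt.cc_RS (z w : Fin n → F) : σ (X.cc h z w) ∈ RS e := by
  rw [PExt.cc, map_commutatorElement]
  exact (tc_commutator X.card h (X.lz_mem h z) (X.lz_mem h w)).1

theorem PExt.cc_tc (z w : Fin n → F) :
    tc f (σ (X.cc h z w)) = hermForm n F q (proj q e f z) (proj q e f w) -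
      hermForm n F q (proj q e f w) (proj q e f z) := by
  rw [PExt.cc, map_commutatorElement, (tc_commutator X.card h (X.lz_mem h z) (X.lz_mem h w)).2,
    X.lz_zp, X.lz_zp]

theorem PExt.cc_swap (z w : Fin n → F) : X.cc h w z = (X.cc h z w)⁻¹ :=
  (commutatorElement_inv _ _).symm

theorem PExt.cc_self (z : Fin n → F) : X.cc h z z = 1 := commutatorElement_self _

theorem PExt.cc_ker {z w : Fin n → F} (hz : z ∈ rest q e f) (hw : w ∈ rest q e f)
    (hfix : hermForm n F q z w ^ q = hermForm n F q z w) : σ (X.cc h z w) = 1 := by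
  refine eq_of_tc X.card h (X.cc_RS h z w) (one_mem _) ?_
  rw [X.cc_tc h, proj_of_mem X.card hz, proj_of_mem X.card hw, ← herm_conj z w X.card, hfix,
    sub_self, tc_one X.card h]

include hn in
theorem PExt.cc_central (z w : Fin n → F) {k : E} (hk : σ k ∈ QS e) : Commute k (X.cc h z w) :=
  X.commute_St hn h hk (X.cc_RS h z w)

include hn in
theorem PExt.comm_eq_cc {x y : E} (hx : σ x ∈ QS e) (hy : σ y ∈ QS e) {z w : Fin n → F}
    (hz : zp e f (σ x) = proj q e f z) (hw : zp e f (σ y) = proj q e f w) :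
    ⁅x, y⁆ = X.cc h z w := by
  have hF := X.card
  have key : ∀ {x x' y : E}, σ x ∈ QS e → σ x' ∈ QS e → σ y ∈ QS e →
      zp e f (σ x) = zp e f (σ x') → ⁅x, y⁆ = ⁅x', y⁆ := by
    intro x x' y hx hx' hy hxx
    have hr : σ (x'⁻¹ * x) ∈ RS e := by
      rw [map_mul, map_inv]
      exact mem_RS_of_zp hF h (mul_mem (inv_mem hx') hx)
        (by rw [zp_mul hF h (inv_mem hx') hx, zp_inv hF h hx', hxx, neg_add_cancel])
    have hc := X.commute_St hn h hy hr
    calc ⁅x, y⁆ = x' * ((x'⁻¹ * x) * y * (x'⁻¹ * x)⁻¹) * x'⁻¹ * y⁻¹ := by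
          rw [commutatorElement_def]; group
      _ = ⁅x', y⁆ := by rw [hc.symm.eq, mul_inv_cancel_right, commutatorElement_def]
  rw [key hx (X.lz_mem h z) hy (hz.trans (X.lz_zp h z).symm), PExt.cc, ← commutatorElement_inv y,
    key hy (X.lz_mem h w) (X.lz_mem h z) (hw.trans (X.lz_zp h w).symm), commutatorElement_inv]

include hn in
theorem PExt.cc_add_left (z z' w : Fin n → F) :
    X.cc h (z + z') w = X.cc h z w * X.cc h z' w := by
  have hm : σ (X.lz h z * X.lz h z') ∈ QS e := by
    rw [map_mul]; exact mul_mem (X.lz_mem h z) (X.lz_mem h z')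
  rw [← X.comm_eq_cc hn h hm (X.lz_mem h w) (z := z + z') (by
    rw [map_mul, zp_mul X.card h (X.lz_mem h z) (X.lz_mem h z'), X.lz_zp, X.lz_zp, proj_add])
    (X.lz_zp h w)]
  have hc := X.cc_central hn h z' w (X.lz_mem h z)
  calc ⁅X.lz h z * X.lz h z', X.lz h w⁆
      = X.lz h z * X.cc h z' w * (X.lz h z)⁻¹ * X.cc h z w := by
        simp only [PExt.cc, commutatorElement_def]; group
    _ = X.cc h z' w * X.cc h z w := by rw [hc.eq, mul_inv_cancel_right]
    _ = _ := (X.cc_central hn h z w (RS_le_QS h.1 (X.cc_RS h z' w))).eq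

include hn in
theorem PExt.cc_commute (a b c d : Fin n → F) : Commute (X.cc h a b) (X.cc h c d) :=
  X.cc_central hn h c d (RS_le_QS h.1 (X.cc_RS h a b))

include hn in
theorem PExt.cc_add_right (z w w' : Fin n → F) :
    X.cc h z (w + w') = X.cc h z w * X.cc h z w' := by
  rw [X.cc_swap h (w + w') z, X.cc_add_left hn h, _root_.mul_inv_rev, ← X.cc_swap h w' z,
    ← X.cc_swap h w z, (X.cc_commute hn h z w' z w).eq]

include hn in
theorem PExt.cc_zero_left (w : Fin n → F) : X.cc h 0 w = 1 := by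
  have := X.cc_add_left hn h 0 0 w
  rw [add_zero] at this
  exact left_eq_mul.1 this

include hn in
theorem PExt.cc_zero_right (w : Fin n → F) : X.cc h w 0 = 1 := by
  rw [X.cc_swap h 0 w, X.cc_zero_left hn h, inv_one]

include hn in
theorem PExt.cc_neg_right (z w : Fin n → F) : X.cc h z (-w) = (X.cc h z w)⁻¹ := by
  have := X.cc_add_right hn h z w (-w)
  rw [add_neg_cancel, X.cc_zero_right hn h] at this
  exact (inv_eq_of_mul_eq_one_right this.symm).symm

include hn in
theorem PExt.cc_neg_left (z w : Fin n → F) : X.cc h (-z) w = (X.cc h z w)⁻¹ := by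
  rw [X.cc_swap h w (-z), X.cc_neg_right hn h, X.cc_swap h w z]

include hn in
theorem PExt.cc_conj {t : E} {a : F} {z w : Fin n → F} (hte : (σ t).1.1 *ᵥ e = a • e) (ha : a ≠ 0)
    (hz : z ∈ rest q e f) (hw : w ∈ rest q e f) :
    t * X.cc h z w * t⁻¹ = X.cc h (a ^ q • (σ t).1.1 *ᵥ z) (a ^ q • (σ t).1.1 *ᵥ w) := by
  have hN : σ t ∈ NS e := ⟨a, ha, hte⟩
  have hzp : ∀ {z : Fin n → F}, z ∈ rest q e f → σ (t * X.lz h z * t⁻¹) ∈ QS e ∧
      zp e f (σ (t * X.lz h z * t⁻¹)) = proj q e f (a ^ q • (σ t).1.1 *ᵥ z) := by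
    intro z hz
    refine ⟨by rw [map_mul, map_mul, map_inv]; exact NS_conj_QS hN (X.lz_mem h z), ?_⟩
    rw [map_mul, map_mul, map_inv, MinIndexPSU.zp_conj X.card h hte (X.lz_mem h z), X.lz_zp,
      proj_of_mem X.card hz, proj_smul]
  rw [PExt.cc, conjugate_commutatorElement]
  exact X.comm_eq_cc hn h (hzp hz).1 (hzp hw).1 (hzp hz).2 (hzp hw).2

include hn in
/-- Eigenvectors of a Levi element rescale the pairing. -/
theorem PExt.cc_eigen {g : SU n F q} {a α β : F} {z w : Fin n → F} (hg : Lev q e f a g)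
    (hgz : g.1.1 *ᵥ z = α • z) (hgw : g.1.1 *ᵥ w = β • w) (hz : z ∈ rest q e f)
    (hw : w ∈ rest q e f)
    (hcond : a ^ (q + 1) = 1 ∨ hermForm n F q z w ^ q = hermForm n F q z w) :
    X.cc h ((a ^ q * α) • z) ((a ^ q * β) • w) = X.cc h z w := by
  obtain ⟨g', hg', o, ho, hgo⟩ := exists_coprime_version X.card X.prime X.dvd g
  obtain ⟨t, ht⟩ := X.surj g'
  have := X.cc_conj hn h (t := t) (by rw [ht]; exact hg' _ _ hg.left) hg.ne hz hw
  rw [ht, hg' _ _ hgz, hg' _ _ hgw, smul_smul, smul_smul] at this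
  rw [← this]
  have hc : Commute t (X.cc h z w) := by
    rcases hcond with ha | hfix
    · exact X.lev_commute_RS h ⟨hg' _ _ hg.left, hg' _ _ hg.right, hg.ne⟩ ha ho hgo ht
        (X.cc_RS h z w)
    · exact commute_ker X.central (X.cc_ker h hz hw hfix) t
  rw [hc.eq, mul_inv_cancel_right]

/-- Vectors pairing trivially with `z`. -/
noncomputable def PExt.annCC (z : Fin n → F) : AddSubgroup (Fin n → F) where
  carrier := {w | X.cc h z w = 1}
  zero_mem' := X.cc_zero_right hn h z
  add_mem' := fun {a b} ha hb => by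
    show X.cc h z (a + b) = 1
    rw [X.cc_add_right hn h, show X.cc h z a = 1 from ha, show X.cc h z b = 1 from hb, one_mul]
  neg_mem' := fun {a} ha => by
    show X.cc h z (-a) = 1
    rw [X.cc_neg_right hn h, show X.cc h z a = 1 from ha, inv_one]

theorem PExt.mem_annCC {z w : Fin n → F} : w ∈ X.annCC hn h z ↔ X.cc h z w = 1 := Iff.rfl

end Cfsg.Agent.Lib.MultPSU
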