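import Mathlib
import Cfsg.Agent.Lib.MultPSU.Pairing

/-!
Lib/MultPSU/Perp: in dimension at least four an isotropic vector of the rest pairs trivially with
the vectors orthogonal to it.
-/

set_option autoImplicit false
set_option linter.unusedSectionVars false

namespace Cfsg.Agent.Lib.MultPSU

open Matrix Module Subgroup Cfsg.Agent.Lib.Unitary Cfsg.Agent.Lib.AutPSU
open Cfsg.Agent.Lib.MinIndexPSU
open scoped commutatorElement

universe u v

variable {F : Type u} [Field F] [Fintype F] {q n : ℕ} {e f : Fin n → F}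
variable {p : ℕ} {E : Type v} [Group E] {σ : E →* SU n F q}
variable (X : PExt p σ) (hn : Size q n) (h : Hyp q e f)

include hn in
theorem PExt.cc_perp_unit (_h5 : 5 ≤ n) {v u : Fin n → F} (hv : v ∈ rest q e f)
    (hv0 : hermForm n F q v v = 0) (hu : u ∈ rest q e f) (hu1 : hermForm n F q u u = 1)
    (huv : hermForm n F q u v = 0) (c : F) : X.cc h v (c • u) = 1 := by
  have hF := X.card
  have hu0 : u ≠ 0 := fun h0 => by simp [h0, herm_zero_left] at hu1
  have hnd := (nondeg_inf_perp hF (nondeg_rest hF h)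
    (not_isotropic_of_nondeg hF (x := u) (by rw [hu1]; exact one_ne_zero))
    ((Submodule.span_singleton_le_iff_mem _ _).2 hu)).1
  -- the line of any isotropic vector orthogonal to `u`
  suffices main : ∀ x : Fin n → F, x ∈ rest q e f → hermForm n F q x x = 0 →
      hermForm n F q u x = 0 → X.cc h x (c • u) = 1 from main v hv hv0 huv
  intro x hx hx0 hux
  have hxperp : x ∈ rest q e f ⊓ perp q (Submodule.span F {u}) := ⟨hx, fun w hw => by
    obtain ⟨t, rfl⟩ := Submodule.mem_span_singleton.1 hw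
    rw [herm_smul_right, herm_eq_zero_symm hF hux, mul_zero]⟩
  by_cases hxz : x = 0
  · rw [hxz, X.cc_zero_left hn h]
  obtain ⟨x', hx', hp⟩ := exists_partner_in hF hnd hxperp hxz hx0
  have hux' : hermForm n F q u x' = 0 :=
    herm_eq_zero_symm hF (hx'.2 u (Submodule.mem_span_singleton_self u))
  have hker : ∀ s d : F, hermForm n F q (s • x) (d • u) ^ q = hermForm n F q (s • x) (d • u) := by
    intro s d
    rw [herm_smul_left, herm_smul_right, herm_eq_zero_symm hF hux, mul_zero, mul_zero,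
      zero_pow_q hF]
  rcases Nat.lt_or_ge q 3 with hq | hq
  · obtain rfl : q = 2 := by have := one_lt_q hF; omega
    obtain ⟨a, ha0, ha1⟩ := exists_ne_zero_one hF
    obtain ⟨g, hg, hgx, -, hgu⟩ := exists_lev_pair_u hF h hp hx hx'.1 hu hux hux' hu1 ha0
      (inv_ne_zero (pow_ne_zero 2 ha0))
    have ha3 : a ^ 3 = 1 := by
      have h4 : a ^ 4 = a := by
        conv_rhs => rw [← FiniteField.pow_card a, hF]
        norm_num
      exact mul_left_cancel₀ ha0 (by rw [mul_one]; linear_combination h4)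
    have hev := fun d : F => X.cc_eigen hn h (z := (1 : F) • x) (w := d • u) hg
      (α := (a ^ 2)⁻¹) (β := (a * (a ^ 2)⁻¹) ^ 2 * (a * (a ^ 2)⁻¹)⁻¹)
      (by rw [one_smul]; exact hgx) (by rw [Matrix.mulVec_smul, hgu, smul_comm])
      (by rw [one_smul]; exact hx) (Submodule.smul_mem _ d hu) (Or.inr (hker 1 d))
    have hwt : a ^ 2 * ((a * (a ^ 2)⁻¹) ^ 2 * (a * (a ^ 2)⁻¹)⁻¹) = a := by
      field_simp
    have key : ∀ d : F, X.cc h x ((a * d) • u) = X.cc h x (d • u) := fun d => by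
      have := hev d
      rwa [mul_inv_cancel₀ (pow_ne_zero 2 ha0), hwt, one_smul, one_smul, smul_smul] at this
    have h1 := key (c / (a - 1))
    rw [show a * (c / (a - 1)) = c / (a - 1) + c by
      have := sub_ne_zero.2 ha1
      field_simp; ring, add_smul, X.cc_add_right hn h] at h1
    exact mul_eq_left.1 h1
  · obtain ⟨μ, hμq, hμ0, hμ1⟩ := exists_fixed_ne hF hq
    obtain ⟨g, hg, hgx, -, hgu⟩ := exists_lev_pair_u hF h hp hx hx'.1 hu hux hux' hu1
      (one_ne_zero (α := F)) hμ0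
    have hν : ((1 : F) * μ) ^ q * (1 * μ)⁻¹ = 1 := by rw [one_mul, hμq, mul_inv_cancel₀ hμ0]
    rw [hν, one_smul] at hgu
    have key : ∀ s : F, X.cc h ((μ * s) • x) (c • u) = X.cc h (s • x) (c • u) := fun s => by
      have := X.cc_eigen hn h (z := s • x) (w := c • u) hg (α := μ) (β := 1)
        (by rw [Matrix.mulVec_smul, hgx, smul_comm]) (by rw [Matrix.mulVec_smul, hgu, one_smul])
        (Submodule.smul_mem _ s hx) (Submodule.smul_mem _ c hu) (Or.inr (hker s c))
      rwa [one_pow, one_mul, one_mul, smul_smul, one_smul] at this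
    have h1 := key (1 / (μ - 1))
    rw [show μ * (1 / (μ - 1)) = 1 / (μ - 1) + 1 by
      have := sub_ne_zero.2 hμ1
      field_simp; ring, add_smul, X.cc_add_left hn h, one_smul] at h1
    exact mul_eq_left.1 h1

theorem commute_commutator_of_central {G : Type*} [Group G] {x y r : G} (hx : Commute x r)
    (hc : ∀ w, Commute w ⁅y, r⁆) : Commute ⁅x, y⁆ r := by
  have h1 : y * r * y⁻¹ = ⁅y, r⁆ * r := by rw [commutatorElement_def]; group
  have h2 : y⁻¹ * r * y = ⁅y, r⁆⁻¹ * r := by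
    calc y⁻¹ * r * y = y⁻¹ * ⁅y, r⁆⁻¹ * (y * r * y⁻¹) * y := by rw [h1]; group
      _ = (y⁻¹ * ⁅y, r⁆⁻¹ * y) * r := by group
      _ = ⁅y, r⁆⁻¹ * r := by rw [((hc y⁻¹).inv_right).eq]; group
  have h3 : ⁅x, y⁆ * r * ⁅x, y⁆⁻¹ = r := by
    calc ⁅x, y⁆ * r * ⁅x, y⁆⁻¹
        = x * (y * (x⁻¹ * (y⁻¹ * r * y) * x) * y⁻¹) * x⁻¹ := by
          rw [commutatorElement_def]; group
      _ = x * (y * (⁅y, r⁆⁻¹ * r) * y⁻¹) * x⁻¹ := by
          rw [h2, ← mul_assoc x⁻¹, ((hc x⁻¹).inv_right).eq, mul_assoc ⁅y, r⁆⁻¹,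
            mul_assoc ⁅y, r⁆⁻¹, hx.inv_left.eq, inv_mul_cancel_right]
      _ = x * (⁅y, r⁆⁻¹ * (y * r * y⁻¹)) * x⁻¹ := by
          rw [← mul_assoc y, ((hc y).inv_right).eq]; group
      _ = r := by rw [h1, inv_mul_cancel_left, hx.eq, mul_inv_cancel_right]
  calc ⁅x, y⁆ * r = ⁅x, y⁆ * r * ⁅x, y⁆⁻¹ * ⁅x, y⁆ := by group
    _ = r * ⁅x, y⁆ := by rw [h3]

include hn in
theorem PExt.cc_perp_line (h4 : n = 4) {v v' : Fin n → F} (hp : Hyp q v v') (hv : v ∈ rest q e f)
    (hv' : v' ∈ rest q e f) (s : F) : X.cc h v (s • v) = 1 := by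
  have hF := X.card
  obtain ⟨μ, hμq, hμ0, hμ2⟩ : ∃ μ : F, μ ^ q = μ ∧ μ ≠ 0 ∧ μ * μ ≠ 1 := by
    classical
    have hc := card_fixed hF
    rw [Nat.card_eq_fintype_card, Fintype.card_subtype] at hc
    by_contra hcon
    push Not at hcon
    have hle : (Finset.univ.filter fun x : F => x ^ q = x).card ≤ ({0, 1, -1} : Finset F).card :=
      Finset.card_le_card fun x hx => by
        simp only [Finset.mem_filter, Finset.mem_univ, true_and] at hx
        by_cases h0 : x = 0
        · simp [h0]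
        · rcases mul_self_eq_one_iff.1 (hcon x hx h0) with h1 | h1 <;> simp [h1]
    have := hle.trans Finset.card_le_three
    have := hn.four h4
    omega
  obtain ⟨g, hg, hgv, hgv'⟩ := exists_lev_pair hF h hp hv hv' one_ne_zero hμ0
    (by rw [one_mul, hμq])
  obtain ⟨g', hg', o, ho, hgo⟩ := exists_coprime_version hF X.prime X.dvd g
  obtain ⟨c, hc0, hc⟩ := exists_trace_zero_ne_zero hF
  obtain ⟨T, hT⟩ := exists_SU_tv hF hp.1 hc
  obtain ⟨hve, hvf⟩ := rest_swap_herm hF hv
  have hTe : T.1.1 *ᵥ e = e := by rw [← suToGU_val T]; exact hT.fix hve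
  have hTf : T.1.1 *ᵥ f = f := by rw [← suToGU_val T]; exact hT.fix hvf
  have hTv : T.1.1 *ᵥ v = v := by rw [← suToGU_val T]; exact hT.fix hp.1
  have hTv' : T.1.1 *ᵥ v' = v' + c • v := by
    have := hT v'
    rw [suToGU_val, hp.symm' hF, mul_one] at this
    exact this
  have hge := hg' _ _ hg.left
  have hgf := hg' _ _ hg.right
  rw [one_smul] at hge
  rw [one_pow, inv_one, one_smul] at hgf
  have hgv2 := hg' _ _ hgv
  have hgv'2 := hg' _ _ hgv'
  rw [hμq] at hgv'2
  have hinv : ∀ {Y : SU n F q} {x y : Fin n → F}, Y.1.1 *ᵥ x = y → Y⁻¹.1.1 *ᵥ y = x := by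
    intro Y x y hxy
    rw [← hxy, SU_inv_mulVec]
  have hTiv' : T⁻¹.1.1 *ᵥ v' = v' - c • v := hinv (by
    rw [Matrix.mulVec_sub, Matrix.mulVec_smul, hTv', hTv, add_sub_cancel_right])
  have hgiv : g'⁻¹.1.1 *ᵥ v = μ⁻¹ • v := hinv (by
    rw [Matrix.mulVec_smul, hgv2, smul_smul, inv_mul_cancel₀ hμ0, one_smul])
  have hgiv' : g'⁻¹.1.1 *ᵥ v' = μ • v' := hinv (by
    rw [Matrix.mulVec_smul, hgv'2, smul_smul, mul_inv_cancel₀ hμ0, one_smul])
  have hmul : ∀ x, ⁅g', T⁆.1.1 *ᵥ x =
      g'.1.1 *ᵥ (T.1.1 *ᵥ (g'⁻¹.1.1 *ᵥ (T⁻¹.1.1 *ᵥ x))) := by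
    intro x
    rw [commutatorElement_def, SU_mul_mulVec, SU_mul_mulVec, SU_mul_mulVec]
  have hce : ⁅g', T⁆.1.1 *ᵥ e = (1 : F) • e := by
    rw [hmul, hinv hTe, hinv hge, hTe, hge, one_smul]
  have hcv : ⁅g', T⁆.1.1 *ᵥ v = v := by
    rw [hmul, hinv hTv, hgiv, Matrix.mulVec_smul, hTv, Matrix.mulVec_smul, hgv2, smul_smul,
      inv_mul_cancel₀ hμ0, one_smul]
  have hcv' : ⁅g', T⁆.1.1 *ᵥ v' = v' + ((μ * μ - 1) * c) • v := by
    rw [hmul, hTiv', Matrix.mulVec_sub, Matrix.mulVec_smul, hgiv, hgiv', Matrix.mulVec_sub,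
      Matrix.mulVec_smul, Matrix.mulVec_smul, Matrix.mulVec_smul, hTv, hTv', Matrix.mulVec_sub,
      Matrix.mulVec_smul, Matrix.mulVec_smul, Matrix.mulVec_smul, Matrix.mulVec_add,
      Matrix.mulVec_smul, hgv2, hgv'2]
    simp only [smul_add, smul_smul, mul_inv_cancel₀ hμ0, one_smul, sub_mul, one_mul, sub_smul]
    rw [inv_mul_cancel₀ hμ0, mul_one, show μ * (c * μ) = μ * μ * c by ring]
    abel
  obtain ⟨tg, htg⟩ := X.surj g'
  obtain ⟨tT, htT⟩ := X.surj T
  have key : ∀ s : F, X.cc h v (((μ * μ - 1) * c * s) • v) = 1 := by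
    intro s
    have hs : s • v' ∈ rest q e f := Submodule.smul_mem _ s hv'
    have hfix : Commute ⁅tg, tT⁆ (X.cc h v (s • v')) := by
      refine commute_commutator_of_central
        (X.lev_commute_RS h ⟨by rw [one_smul]; exact hge, by rw [one_pow, inv_one, one_smul]; exact hgf,
          one_ne_zero⟩ (one_pow _) ho hgo htg (X.cc_RS h v _)) fun w => ?_
      refine commute_ker X.central ?_ w
      rw [map_commutatorElement, htT]
      exact commutatorElement_eq_one_iff_commute.2 (Lev.commute_RS hF h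
        ⟨by rw [one_smul]; exact hTe, by rw [one_pow, inv_one, one_smul]; exact hTf, one_ne_zero⟩
        (one_pow _) (X.cc_RS h v _))
    have h1 := X.cc_conj hn h (t := ⁅tg, tT⁆) (a := 1) (z := v) (w := s • v')
      (by rw [map_commutatorElement, htg, htT]; exact hce) one_ne_zero hv hs
    rw [hfix.eq, mul_inv_cancel_right, map_commutatorElement, htg, htT, one_pow, one_smul, one_smul,
      hcv, Matrix.mulVec_smul, hcv', smul_add, smul_smul, X.cc_add_right hn h,
      mul_comm s] at h1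
    exact left_eq_mul.1 h1
  have h1 := key (s / ((μ * μ - 1) * c))
  rwa [mul_div_cancel₀ _ (mul_ne_zero (sub_ne_zero.2 hμ2) hc0)] at h1

include hn in
/-- An isotropic vector of the rest pairs trivially with its orthogonal. -/
theorem PExt.cc_perp (_h4 : 4 ≤ n) {v y : Fin n → F} (hv : v ∈ rest q e f)
    (hv0 : hermForm n F q v v = 0) (hy : y ∈ rest q e f) (hyv : hermForm n F q y v = 0) :
    X.cc h v y = 1 := by
  have hF := X.card
  by_cases hvz : v = 0
  · rw [hvz, X.cc_zero_left hn h]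
  obtain ⟨v', hv', hp⟩ := exists_partner_in hF (nondeg_rest hF h) hv hvz hv0
  have hle : Submodule.span F ({v, v'} : Set (Fin n → F)) ≤ rest q e f :=
    Submodule.span_le.2 (by rintro x (rfl | rfl) <;> assumption)
  obtain ⟨hW, hWd⟩ := nondeg_inf_perp hF (nondeg_rest hF h) (hp.nondeg hF) hle
  rw [(hp.finrank_span hF).2] at hWd
  have hrk := finrank_rest hF h
  have hy0 : proj q v v' y ∈ rest q e f ⊓ perp q (Submodule.span F {v, v'}) := by
    refine ⟨?_, proj_mem hF hp y⟩
    exact Submodule.sub_mem _ (Submodule.sub_mem _ hy (Submodule.smul_mem _ _ hv))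
      (Submodule.smul_mem _ _ hv')
  have hdec : y = hermForm n F q y v' • v + proj q v v' y := by
    conv_lhs => rw [eq_proj (q := q) (e := v) (f := v') y]
    rw [hyv, zero_smul, add_zero]
  rw [← X.mem_annCC hn h, hdec]
  rcases Nat.lt_or_ge n 5 with hn5 | hn5
  · rw [Submodule.finrank_eq_zero.1 (show finrank F
      (rest q e f ⊓ perp q (Submodule.span F {v, v'}) : Submodule F (Fin n → F)) = 0 by omega),
      Submodule.mem_bot] at hy0
    rw [hy0, add_zero]
    exact X.cc_perp_line hn h (by omega) hp hv hv' _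
  · obtain ⟨g, hg, hgW, hgspan⟩ := exists_orthonormal_of_nondeg hF _ _ rfl hW
    have hgv : ∀ i, hermForm n F q (g i) v = 0 :=
      fun i => (hgW i).2 v (Submodule.subset_span (by simp))
    have hg1 : ∀ i, hermForm n F q (g i) (g i) = 1 := fun i => by simpa using hg i i
    have hgen : ∀ i (c : F), c • g i ∈ X.annCC hn h v :=
      fun i c => X.cc_perp_unit hn h hn5 hv hv0 (hgW i).1 (hg1 i) (hgv i) c
    refine AddSubgroup.add_mem _ ?_ ?_
    · let i0 : Fin (finrank F (rest q e f ⊓ perp q (Submodule.span F {v, v'}) :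
          Submodule F (Fin n → F))) := ⟨0, by omega⟩
      set a := hermForm n F q y v'
      rw [show a • v = a • (v + g i0) - a • g i0 by rw [smul_add, add_sub_cancel_right]]
      refine AddSubgroup.sub_mem _ (X.cc_perp_unit hn h hn5 hv hv0
        (Submodule.add_mem _ hv (hgW i0).1) ?_ ?_ a) (hgen i0 a)
      · simp [herm_add_left, herm_add_right _ _ _ hF, hv0, hgv, herm_eq_zero_symm hF (hgv i0), hg1]
      · simp [herm_add_left, hv0, hgv]
    · rw [← hgspan] at hy0
      obtain ⟨c, hc⟩ := (Submodule.mem_span_range_iff_exists_fun F).1 hy0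
      rw [← hc]
      exact AddSubgroup.sum_mem _ fun i _ => hgen i (c i)

end Cfsg.Agent.Lib.MultPSU
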