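import Mathlib
import Cfsg.Agent.Lib.MultPSU.Perp

/-!
Lib/MultPSU/Psi: the commutator pairing of the lifts of `QS e` factors through the hermitian form,
so `QS e` is split.
-/

set_option autoImplicit false
set_option linter.unusedSectionVars false

namespace Cfsg.Agent.Lib.MultPSU

open Matrix Module Subgroup Cfsg.Agent.Lib.Unitary Cfsg.Agent.Lib.AutPSU
open Cfsg.Agent.Lib.MinIndexPSU
open scoped commutatorElement

universe u v

variable {F : Type u} [Field F] [Fintype F] {q n : ℕ} {e f : Fin n → F}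
variable {p : ℕ} {E : Type v} [Group E] {σ : E →* SU n F q}
variable (X : PExt p σ) (hn : Size q n) (h : Hyp q e f)

/-! ### Scalars -/

theorem fixed_coords (hF : Fintype.card F = q ^ 2) {θ : F} (hθ : θ ^ q ≠ θ) (x : F) :
    ∃ a b : F, a ^ q = a ∧ b ^ q = b ∧ x = a + b * θ := by
  have hne : θ ^ q - θ ≠ 0 := sub_ne_zero.2 hθ
  set b := (x ^ q - x) / (θ ^ q - θ) with hb
  have hbq : b ^ q = b := by
    rw [hb, div_pow, sub_pow_q hF, sub_pow_q hF, pow_q_q hF, pow_q_q hF, ← neg_sub (x ^ q),
      ← neg_sub (θ ^ q), neg_div_neg_eq]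
  refine ⟨x - b * θ, b, ?_, hbq, by ring⟩
  rw [sub_pow_q hF, mul_pow, hbq]
  have : b * (θ ^ q - θ) = x ^ q - x := by rw [hb, div_mul_cancel₀ _ hne]
  linear_combination -this

/-- Biadditive maps on a field invariant under all scalings are trivial. -/
theorem pair_lemma {G : Type*} [Group G] (L : Subfield F) (β : F → F → G)
    (hl : ∀ i i' j, i ∈ L → i' ∈ L → j ∈ L → β (i + i') j = β i j * β i' j)
    (hr : ∀ i j j', i ∈ L → j ∈ L → j' ∈ L → β i (j + j') = β i j * β i j')
    (hb : ∀ b i j, b ∈ L → b ≠ 0 → i ∈ L → j ∈ L → β (b * i) (b * j) = β i j)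
    {w : F} (hw : w ∈ L) (h0 : w ≠ 0) (h1 : w + 1 ≠ 0) (h2 : w * w + w + 1 ≠ 0) {j : F}
    (hj : j ∈ L) : β 1 j = 1 := by
  have h1' : (1 : F) + w ≠ 0 := by rwa [add_comm]
  set r := j * (w * (1 + w)) / (w * w + w + 1) with hr'
  have hrL : r ∈ L := L.div_mem (L.mul_mem hj (L.mul_mem hw (L.add_mem L.one_mem hw)))
    (L.add_mem (L.add_mem (L.mul_mem hw hw) hw) L.one_mem)
  have hA : r / (1 + w) ∈ L := L.div_mem hrL (L.add_mem L.one_mem hw)
  have hB : r / w ∈ L := L.div_mem hrL hw
  have e1 : β (1 + w) r = β 1 (r / (1 + w)) := by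
    rw [← hb (1 + w) 1 (r / (1 + w)) (L.add_mem L.one_mem hw) h1' L.one_mem hA, mul_one,
      mul_div_cancel₀ _ h1']
  have e2 : β w r = β 1 (r / w) := by
    rw [← hb w 1 (r / w) hw h0 L.one_mem hB, mul_one, mul_div_cancel₀ _ h0]
  have e3 := hl 1 w r L.one_mem hw hrL
  have hd : r + r / w = r / (1 + w) + j := by
    have hr2 : r * (w * w + w + 1) = j * (w * (1 + w)) := by rw [hr', div_mul_cancel₀ _ h2]
    field_simp
    linear_combination hr2
  rw [e1, e2, ← hr 1 r (r / w) L.one_mem hrL hB, hd, hr 1 _ j L.one_mem hA hj] at e3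
  exact left_eq_mul.1 e3

/-! ### The pairing -/

/-- `Ψ` computes the pairing. -/
structure IsPsi (Ψ : F → E) : Prop where
  add : ∀ s t, Ψ (s + t) = Ψ s * Ψ t
  fixed : ∀ s, s ^ q = s → Ψ s = 1
  eq : ∀ z ∈ rest q e f, ∀ w ∈ rest q e f, X.cc h z w = Ψ (hermForm n F q z w)

/-- Elements of the rest with prescribed hermitian product. -/
theorem exists_pair_value (hF : Fintype.card F = q ^ 2) (hn3 : 3 ≤ n) (h : Hyp q e f) (s : F) :
    ∃ z ∈ rest q e f, ∃ w ∈ rest q e f, hermForm n F q z w = s := by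
  obtain ⟨w, hw, hw1⟩ := exists_norm_one_of_nondeg hF (nondeg_rest hF h) (fun hb => by
    have := finrank_rest hF h
    rw [hb, finrank_bot] at this
    omega)
  exact ⟨s • w, Submodule.smul_mem _ s hw, w, hw, by rw [herm_smul_left, hw1, mul_one]⟩

include hn in
theorem PExt.exists_psi_of_four (h4 : 4 ≤ n) : ∃ Ψ : F → E, IsPsi X h Ψ := by
  have hF := X.card
  obtain ⟨v, hv, v', hv', hp⟩ := exists_isotropic_pair hF (nondeg_rest hF h)
    (by have := finrank_rest hF h; omega)
  have hvv := hp.symm' hF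
  have hsv : ∀ s : F, s • v ∈ rest q e f := fun s => Submodule.smul_mem _ s hv
  have hsv' : ∀ s : F, s • v' ∈ rest q e f := fun s => Submodule.smul_mem _ s hv'
  -- the pairing of the two lines depends on the product of the scalars
  have hbal : ∀ x y : F, X.cc h (x • v) (y • v') = X.cc h ((x * y ^ q) • v) v' := by
    have hR : ∀ μ x y : F, X.cc h ((μ * x) • v) (y • v') = X.cc h (x • v) ((μ ^ q * y) • v') := by
      rcases Nat.lt_or_ge n 5 with hn5 | hn5
      · let R : F → Prop := fun μ => ∀ x y : F,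
          X.cc h ((μ * x) • v) (y • v') = X.cc h (x • v) ((μ ^ q * y) • v')
        have hfixR : ∀ μ : F, μ ^ q = μ → R μ := by
          intro μ hμ x y
          by_cases hμ0 : μ = 0
          · rw [hμ0, zero_pow_q hF, zero_mul, zero_mul, zero_smul, zero_smul, X.cc_zero_left hn h,
              X.cc_zero_right hn h]
          obtain ⟨g, hg, hgv, hgv'⟩ := exists_lev_pair hF h hp hv hv' one_ne_zero hμ0
            (by rw [one_mul, hμ])
          rw [hμ] at hgv'
          have := X.cc_eigen hn h (z := x • v) (w := (μ * y) • v') hg (α := μ) (β := μ⁻¹)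
            (by rw [Matrix.mulVec_smul, hgv, smul_comm])
            (by rw [Matrix.mulVec_smul, hgv', smul_comm]) (hsv x) (hsv' _) (Or.inl (one_pow _))
          rw [hμ]
          rwa [one_pow, one_mul, one_mul, smul_smul, smul_smul, inv_mul_cancel_left₀ hμ0] at this
        have hq := hn.four (by omega)
        obtain ⟨l, hl, hl4⟩ := exists_norm_one_pow_ne hF (k := 4) (by omega) (by omega)
        have hl0 : l ≠ 0 := fun h0 => by simp [h0] at hl
        have hlq : l ^ q = l⁻¹ := eq_inv_of_mul_eq_one_left (by rw [← pow_succ, hl])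
        set θ := (l ^ q) ^ 2 with hθdef
        have hθq : θ ^ q = θ⁻¹ := by
          rw [hθdef, hlq, ← pow_mul, mul_comm, pow_mul, inv_pow, hlq, inv_inv, inv_pow, inv_inv]
        have hθne : θ ^ q ≠ θ := by
          rw [hθq, hθdef, hlq]
          intro h0
          apply hl4
          field_simp at h0
          linear_combination h0
        have hθR : R θ := by
          intro x y
          have hθ0 : θ ≠ 0 := pow_ne_zero _ (pow_ne_zero _ hl0)
          obtain ⟨g, hg, hgv, hgv'⟩ := exists_lev_pair hF h hp hv hv' hl0 (pow_ne_zero q hl0)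
            (by rw [hlq, mul_inv_cancel₀ hl0, one_pow])
          have := X.cc_eigen hn h (z := x • v) (w := (θ⁻¹ * y) • v') hg (α := l ^ q)
            (β := ((l ^ q) ^ q)⁻¹) (by rw [Matrix.mulVec_smul, hgv, smul_comm])
            (by rw [Matrix.mulVec_smul, hgv', smul_comm]) (hsv x) (hsv' _) (Or.inl hl)
          rwa [smul_smul, smul_smul, pow_q_q hF, show l ^ q * l⁻¹ = θ by rw [hθdef, hlq]; ring,
            show l ^ q * l ^ q = θ by rw [hθdef]; ring, mul_inv_cancel_left₀ hθ0, ← hθq] at this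
        intro μ x y
        obtain ⟨a, b, ha, hb, rfl⟩ := fixed_coords hF hθne μ
        rw [add_mul, add_smul, X.cc_add_left hn h, hfixR a ha x y, mul_assoc, hfixR b hb (θ * x) y,
          hθR x (b ^ q * y), ← X.cc_add_right hn h, ← add_smul]
        congr 2
        rw [add_pow_q hF, mul_pow]
        ring
      · intro μ x y
        by_cases hμ0 : μ = 0
        · rw [hμ0, zero_pow_q hF, zero_mul, zero_mul, zero_smul, zero_smul, X.cc_zero_left hn h,
            X.cc_zero_right hn h]
        obtain ⟨u, hu, huv, huv', hu1⟩ :=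
          exists_unit_perp_pair hF (nondeg_rest hF h) hp hv hv' (by
            have := finrank_rest hF h; omega)
        obtain ⟨g, hg, hgv, hgv', -⟩ :=
          exists_lev_pair_u hF h hp hv hv' hu huv huv' hu1 one_ne_zero hμ0
        have := X.cc_eigen hn h (z := x • v) (w := (μ ^ q * y) • v') hg (α := μ) (β := (μ ^ q)⁻¹)
          (by rw [Matrix.mulVec_smul, hgv, smul_comm])
          (by rw [Matrix.mulVec_smul, hgv', smul_comm]) (hsv x) (hsv' _) (Or.inl (one_pow _))
        rwa [one_pow, one_mul, one_mul, smul_smul, smul_smul,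
          inv_mul_cancel_left₀ (pow_ne_zero q hμ0)] at this
    intro x y
    have := (hR (y ^ q) x 1).symm
    rwa [pow_q_q hF, mul_one, one_smul, mul_comm] at this
  let Ψ : F → E := fun t => X.cc h (t • v) v'
  have hadd : ∀ s t, Ψ (s + t) = Ψ s * Ψ t := fun s t => by
    simp only [Ψ, add_smul, X.cc_add_left hn h]
  have hinv : ∀ s, (Ψ s)⁻¹ = Ψ (-s) := fun s => by
    simp only [Ψ, neg_smul, X.cc_neg_left hn h]
  have hperp : ∀ {x y : Fin n → F}, x ∈ rest q e f → hermForm n F q x x = 0 → y ∈ rest q e f →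
      hermForm n F q y x = 0 → X.cc h x y = 1 := fun hx hx0 hy hyx =>
    X.cc_perp hn h h4 hx hx0 hy hyx
  have hvv' : ∀ x y : F, X.cc h (x • v) (y • v') = Ψ (x * y ^ q) := hbal
  have hv'v : ∀ x y : F, X.cc h (y • v') (x • v) = Ψ (-(x * y ^ q)) := fun x y => by
    rw [X.cc_swap h (x • v), hvv', hinv]
  have hvvz : ∀ x y : F, X.cc h (x • v) (y • v) = 1 := fun x y => hperp (hsv x)
    (by rw [herm_smul_left, herm_smul_right, hp.1]; simp) (hsv y)
    (by rw [herm_smul_left, herm_smul_right, hp.1]; simp)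
  have hv'v'z : ∀ x y : F, X.cc h (x • v') (y • v') = 1 := fun x y => hperp (hsv' x)
    (by rw [herm_smul_left, herm_smul_right, hp.2.1]; simp) (hsv' y)
    (by rw [herm_smul_left, herm_smul_right, hp.2.1]; simp)
  have hfix : ∀ s : F, s ^ q = s → Ψ s = 1 := by
    intro s hs
    obtain ⟨β, hβ0, hβ⟩ := exists_trace_zero_ne_zero hF
    have hβq : β ^ q = -β := by linear_combination hβ
    obtain ⟨l, hl⟩ := exists_diff hF (c := -(s / β ^ q)) (by
      rw [neg_pow_q hF, div_pow, hs, pow_q_q hF, hβq]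
      field_simp; ring)
    have hx : hermForm n F q (v + β • v') (v + β • v') = 0 := by
      simp only [herm_add_left, herm_add_right _ _ _ hF, herm_smul_left, herm_smul_right, hp.1,
        hp.2.1, hp.2.2, hvv]
      linear_combination hβ
    have h1 := hperp (x := v + β • v') (y := l • (v + β • v'))
      (Submodule.add_mem _ hv (hsv' β)) hx
      (Submodule.smul_mem _ l (Submodule.add_mem _ hv (hsv' β))) (by rw [herm_smul_left, hx, mul_zero])
    have e1 : v + β • v' = (1 : F) • v + β • v' := by rw [one_smul]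
    rw [e1, smul_add, smul_smul, smul_smul, mul_one, X.cc_add_left hn h, X.cc_add_right hn h,
      X.cc_add_right hn h, hvvz, hvv', hv'v, hv'v'z, one_mul, mul_one, ← hadd, one_mul] at h1
    rw [← h1]
    congr 1
    rw [mul_pow]
    field_simp at hl
    linear_combination hl
  have hcong : ∀ a b : F, (a - b) ^ q = a - b → Ψ a = Ψ b := fun a b hab => by
    rw [← sub_add_cancel a b, hadd, hfix _ hab, one_mul]
  have hvW : ∀ (x : F) {w : Fin n → F}, w ∈ rest q e f → hermForm n F q w v = 0 →
      X.cc h (x • v) w = 1 := fun x w hw hwv => hperp (hsv x)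
    (by rw [herm_smul_left, herm_smul_right, hp.1]; simp) hw (by rw [herm_smul_right, hwv, mul_zero])
  have hv'W : ∀ (x : F) {w : Fin n → F}, w ∈ rest q e f → hermForm n F q w v' = 0 →
      X.cc h (x • v') w = 1 := fun x w hw hwv => hperp (hsv' x)
    (by rw [herm_smul_left, herm_smul_right, hp.2.1]; simp) hw
    (by rw [herm_smul_right, hwv, mul_zero])
  have hWW : ∀ {w w' : Fin n → F}, w ∈ rest q e f → w' ∈ rest q e f → hermForm n F q w v = 0 →
      hermForm n F q w v' = 0 → hermForm n F q w' v = 0 → hermForm n F q w' v' = 0 →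
      X.cc h w w' = Ψ (hermForm n F q w w') := by
    intro w w' hw hw' hwv hwv' hw'v hw'v'
    obtain ⟨β, hβ, hβ0⟩ : ∃ β : F, β + β ^ q + hermForm n F q w w = 0 ∧ β ≠ 0 := by
      obtain ⟨d, hd⟩ := exists_eich_param hF w
      obtain ⟨c, hc0, hc⟩ := exists_trace_zero_ne_zero hF
      by_cases hd0 : d = 0
      · exact ⟨d + c, by rw [add_pow_q hF]; linear_combination hd + hc, by rw [hd0, zero_add]; exact hc0⟩
      · exact ⟨d, hd, hd0⟩
    set γ := -(hermForm n F q w' w) / β ^ q with hγ
    have hvw := herm_eq_zero_symm hF hwv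
    have hv'w := herm_eq_zero_symm hF hwv'
    have hx : hermForm n F q ((1 : F) • v + β • v' + w) ((1 : F) • v + β • v' + w) = 0 := by
      simp only [herm_add_left, herm_add_right _ _ _ hF, herm_smul_left, herm_smul_right, hp.1,
        hp.2.1, hp.2.2, hvv, hwv, hwv', hvw, hv'w, one_pow]
      linear_combination hβ
    have hy : hermForm n F q (γ • v + w') ((1 : F) • v + β • v' + w) = 0 := by
      simp only [herm_add_left, herm_add_right _ _ _ hF, herm_smul_left, herm_smul_right, hp.1,
        hp.2.2, hw'v, hw'v', hvw, one_pow]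
      rw [hγ]
      field_simp
      ring
    have h1 := hperp (Submodule.add_mem _ (Submodule.add_mem _ (hsv 1) (hsv' β)) hw) hx
      (Submodule.add_mem _ (hsv γ) hw') hy
    simp only [X.cc_add_left hn h, X.cc_add_right hn h, hvvz, hv'v, hvW 1 hw' hw'v,
      hv'W β hw' hw'v', X.cc_swap h (γ • v) w, hvW γ hw hwv, inv_one, one_mul, mul_one] at h1
    rw [eq_inv_of_mul_eq_one_right h1, hinv, neg_neg]
    refine hcong _ _ ?_
    rw [show γ * β ^ q = -hermForm n F q w' w by rw [hγ, div_mul_cancel₀ _ (pow_ne_zero q hβ0)],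
      ← herm_conj w' w hF, sub_pow_q hF, neg_pow_q hF, pow_q_q hF]
    ring
  refine ⟨Ψ, hadd, hfix, fun z hz w hw => ?_⟩
  have hpart : ∀ {y : Fin n → F}, y ∈ rest q e f → proj q v v' y ∈ rest q e f ∧
      hermForm n F q (proj q v v' y) v = 0 ∧ hermForm n F q (proj q v v' y) v' = 0 := by
    intro y hy
    exact ⟨Submodule.sub_mem _ (Submodule.sub_mem _ hy (hsv _)) (hsv' _),
      (MinIndexPSU.mem_rest hF).1 (proj_mem hF hp y)⟩
  obtain ⟨hz0, hz1, hz2⟩ := hpart hz
  obtain ⟨hw0, hw1, hw2⟩ := hpart hw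
  have hze := eq_proj (q := q) (e := v) (f := v') z
  have hwe := eq_proj (q := q) (e := v) (f := v') w
  generalize hermForm n F q z v' = a at hze
  generalize hermForm n F q z v = b at hze
  generalize hermForm n F q w v' = a' at hwe
  generalize hermForm n F q w v = b' at hwe
  generalize proj q v v' z = z0 at hz0 hz1 hz2 hze
  generalize proj q v v' w = w0 at hw0 hw1 hw2 hwe
  subst hze hwe
  simp only [X.cc_add_left hn h, X.cc_add_right hn h, hvvz, hv'v'z, hvv', hv'v,
    hvW a hw0 hw1, hv'W b hw0 hw2, X.cc_swap h (a' • v) z0, X.cc_swap h (b' • v') z0,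
    hvW a' hz0 hz1, hv'W b' hz0 hz2, hWW hz0 hw0 hz1 hz2 hw1 hw2, inv_one, one_mul, mul_one]
  rw [← hadd, ← hadd]
  refine hcong _ _ ?_
  simp only [herm_add_left, herm_add_right _ _ _ hF, herm_smul_left, herm_smul_right, hp.1,
    hp.2.1, hp.2.2, hvv, hz1, hz2, herm_eq_zero_symm hF hw1, herm_eq_zero_symm hF hw2, mul_zero,
    mul_one, add_zero, zero_add, sub_pow_q hF, add_pow_q hF, neg_pow_q hF, mul_pow, pow_q_q hF]
  ring

/-! ### The rest of dimension one -/

/-- The fixed field of the involution. -/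
def fixedL (hF : Fintype.card F = q ^ 2) : Subfield F :=
  RingHom.eqLocusField (Unitary.conj hF) (RingHom.id F)

theorem mem_fixedL (hF : Fintype.card F = q ^ 2) {x : F} : x ∈ fixedL hF ↔ x ^ q = x := Iff.rfl

theorem exists_good (L : Subfield F) (hL : 5 ≤ Nat.card L) :
    ∃ w ∈ L, w ≠ 0 ∧ w + 1 ≠ 0 ∧ w * w + w + 1 ≠ 0 := by
  classical
  by_contra hcon
  push Not at hcon
  have hsub : ∀ t : Finset F, (∀ x ∈ L, x ∈ t) → Nat.card L ≤ t.card := fun t ht => by
    have := Nat.card_le_card_of_injective (fun x : L => (⟨x.1, ht x.1 x.2⟩ : t))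
      fun a b hab => Subtype.ext (congrArg Subtype.val hab :)
    rwa [Nat.card_eq_finsetCard] at this
  by_cases hroot : ∃ w ∈ L, w * w + w + 1 = 0
  · obtain ⟨w, -, hw⟩ := hroot
    have := (hsub {0, -1, w, -1 - w} fun x hx => by
      by_cases h0 : x = 0
      · simp [h0]
      by_cases h1 : x + 1 = 0
      · simp [eq_neg_of_add_eq_zero_left h1]
      have : (x - w) * (x + w + 1) = 0 := by linear_combination hcon x hx h0 h1 - hw
      rcases mul_eq_zero.1 this with h2 | h2
      · simp [sub_eq_zero.1 h2]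
      · simp [show x = -1 - w by linear_combination h2]).trans Finset.card_le_four
    omega
  · have := (hsub {0, -1} fun x hx => by
      by_cases h0 : x = 0
      · simp [h0]
      by_cases h1 : x + 1 = 0
      · simp [eq_neg_of_add_eq_zero_left h1]
      exact absurd ⟨x, hx, hcon x hx h0 h1⟩ hroot).trans Finset.card_le_two
    omega

include hn in
theorem PExt.exists_psi_of_three (h3 : n = 3) : ∃ Ψ : F → E, IsPsi X h Ψ := by
  have hF := X.card
  have hq := hn.three h3
  have hrk := finrank_rest hF h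
  obtain ⟨u, hu, hu1⟩ := exists_norm_one_of_nondeg hF (nondeg_rest hF h)
    (fun hb => by rw [hb, finrank_bot] at hrk; omega)
  have hu0 : u ≠ 0 := fun h0 => by simp [h0, herm_zero_left] at hu1
  have hsu : ∀ s : F, s • u ∈ rest q e f := fun s => Submodule.smul_mem _ s hu
  let B : F → F → E := fun x y => X.cc h (x • u) (y • u)
  have hBl : ∀ x x' y, B (x + x') y = B x y * B x' y := fun x x' y => by
    simp only [B, add_smul, X.cc_add_left hn h]
  have hBr : ∀ x y y', B x (y + y') = B x y * B x y' := fun x y y' => by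
    simp only [B, add_smul, X.cc_add_right hn h]
  have hBsw : ∀ x y, B y x = (B x y)⁻¹ := fun x y => X.cc_swap h _ _
  have hBself : ∀ x, B x x = 1 := fun x => X.cc_self h _
  have hBh : ∀ x y, hermForm n F q (x • u) (y • u) = x * y ^ q := fun x y => by
    rw [herm_smul_left, herm_smul_right, hu1, mul_one]
  -- moving a fixed scalar across
  have hE : ∀ s : F, s ^ q = s → ∀ x y, B (s * x) y = B x (s * y) := by
    intro s hs
    let c : F → F → E := fun x y => B (s * x) y * (B x (s * y))⁻¹
    have hck : ∀ x y, σ (c x y) = 1 := by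
      intro x y
      have e1 : σ (B (s * x) y) = σ (B x (s * y)) := by
        refine eq_of_tc hF h (X.cc_RS h _ _) (X.cc_RS h _ _) ?_
        rw [X.cc_tc h, X.cc_tc h]
        simp only [proj_of_mem hF (hsu _), hBh, mul_pow, hs]
        ring
      show σ (B (s * x) y * (B x (s * y))⁻¹) = 1
      rw [map_mul, map_inv, e1, mul_inv_cancel]
    have hcl : ∀ x x' y, c (x + x') y = c x y * c x' y := by
      intro x x' y
      show B (s * (x + x')) y * (B (x + x') (s * y))⁻¹ = c x y * c x' y
      rw [mul_add, hBl, hBl, (X.cc_commute hn h _ _ _ _).eq, _root_.mul_inv_rev]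
      calc B (s * x') y * B (s * x) y * ((B x' (s * y))⁻¹ * (B x (s * y))⁻¹)
          = B (s * x') y * (c x y * B x (s * y)) * (B x' (s * y))⁻¹ * (B x (s * y))⁻¹ := by
            simp only [c]; group
        _ = c x y * B (s * x') y * (B x (s * y) * (B x' (s * y))⁻¹) * (B x (s * y))⁻¹ := by
            rw [← mul_assoc, (commute_ker X.central (hck x y) _).eq]; group
        _ = c x y * c x' y := by
            rw [(X.cc_commute hn h _ _ _ _).inv_right.eq]
            simp only [c, B]; group
    have hcr : ∀ x y y', c x (y + y') = c x y * c x y' := by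
      intro x y y'
      show B (s * x) (y + y') * (B x (s * (y + y')))⁻¹ = c x y * c x y'
      rw [mul_add, hBr, hBr, (X.cc_commute hn h _ _ _ _).eq, _root_.mul_inv_rev]
      calc B (s * x) y' * B (s * x) y * ((B x (s * y'))⁻¹ * (B x (s * y))⁻¹)
          = B (s * x) y' * (c x y * B x (s * y)) * (B x (s * y'))⁻¹ * (B x (s * y))⁻¹ := by
            simp only [c]; group
        _ = c x y * B (s * x) y' * (B x (s * y) * (B x (s * y'))⁻¹) * (B x (s * y))⁻¹ := by
            rw [← mul_assoc, (commute_ker X.central (hck x y) _).eq]; group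
        _ = c x y * c x y' := by
            rw [(X.cc_commute hn h _ _ _ _).inv_right.eq]
            simp only [c, B]; group
    have hinv : ∀ a : F, a ≠ 0 → ∀ x y,
        c (a ^ q * (a ^ q * a⁻¹) * x) (a ^ q * (a ^ q * a⁻¹) * y) = c x y := by
      intro a ha x y
      have hnorm : a ^ q * a⁻¹ * (a ^ q * a⁻¹) ^ q = 1 := by
        rw [mul_pow, inv_pow, pow_q_q hF]
        field_simp
      obtain ⟨g, hg, hgz⟩ := exists_lev_scalar hF h ha hnorm (by
        rw [show n - 2 = 1 by omega, pow_one]; field_simp)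
      obtain ⟨t, ht⟩ := X.surj g
      have hB : ∀ x y, t * B x y * t⁻¹ =
          B (a ^ q * (a ^ q * a⁻¹) * x) (a ^ q * (a ^ q * a⁻¹) * y) := by
        intro x y
        have := X.cc_conj hn h (t := t) (by rw [ht]; exact hg.left) ha (hsu x) (hsu y)
        simp only [ht, hgz _ (hsu x), hgz _ (hsu y), smul_smul, ← mul_assoc] at this
        simp only [B, ← mul_assoc]
        exact this
      show B (s * _) _ * (B _ (s * _))⁻¹ = c x y
      rw [mul_left_comm s, mul_left_comm s, ← hB, ← hB,
        show t * B (s * x) y * t⁻¹ * (t * B x (s * y) * t⁻¹)⁻¹ = t * c x y * t⁻¹ by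
          simp only [c]; group,
        (commute_ker X.central (hck x y) t).eq, mul_inv_cancel_right]
    obtain ⟨L, hL, hscale⟩ : ∃ L : Subfield F, 5 ≤ Nat.card L ∧
        ∀ b ∈ L, b ≠ 0 → ∀ x y, c (b * x) (b * y) = c x y := by
      by_cases h5 : 5 ≤ q
      · refine ⟨fixedL hF, ?_, fun b hb hb0 x y => ?_⟩
        · exact le_of_le_of_eq h5 (card_fixed hF).symm
        · have := hinv b hb0 x y
          rwa [(mem_fixedL hF).1 hb, mul_inv_cancel₀ hb0, mul_one] at this
      · refine ⟨⊤, ?_, fun b _ hb0 x y => ?_⟩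
        · rw [show Nat.card (⊤ : Subfield F) = Nat.card F from
            Nat.card_congr Subfield.topEquiv.toEquiv, Nat.card_eq_fintype_card, hF]
          nlinarith
        · have hb1 : b ^ (q ^ 2 - 1) = 1 := hF ▸ FiniteField.pow_card_sub_one_eq_one b hb0
          obtain ⟨a, ha, hab⟩ : ∃ a : F, a ≠ 0 ∧ a ^ q * (a ^ q * a⁻¹) = b := by
            obtain rfl | rfl : q = 3 ∨ q = 4 := by omega
            · refine ⟨b ^ 5, pow_ne_zero _ hb0, ?_⟩
              have h8 : b ^ 8 = 1 := hb1
              rw [← mul_assoc, mul_inv_eq_iff_eq_mul₀ (pow_ne_zero _ hb0)]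
              calc (b ^ 5) ^ 3 * (b ^ 5) ^ 3 = b ^ 6 * (b ^ 8) ^ 3 := by ring
                _ = b * b ^ 5 := by rw [h8]; ring
            · refine ⟨b ^ 13, pow_ne_zero _ hb0, ?_⟩
              have h15 : b ^ 15 = 1 := hb1
              rw [← mul_assoc, mul_inv_eq_iff_eq_mul₀ (pow_ne_zero _ hb0)]
              calc (b ^ 13) ^ 4 * (b ^ 13) ^ 4 = b ^ 14 * (b ^ 15) ^ 6 := by ring
                _ = b * b ^ 13 := by rw [h15]; ring
          rw [← hab]
          exact hinv a ha x y
    obtain ⟨w, hwL, hw0, hw1, hw2⟩ := exists_good L hL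
    intro x y
    have h1 := pair_lemma L (fun i j => c (i * x) (j * y))
      (fun i i' j _ _ _ => by simp only [add_mul, hcl])
      (fun i j j' _ _ _ => by simp only [add_mul, hcr])
      (fun b i j hb hb0 _ _ => by simp only [mul_assoc]; exact hscale b hb hb0 _ _)
      hwL hw0 hw1 hw2 L.one_mem
    simp only [one_mul] at h1
    exact mul_inv_eq_one.1 h1
  -- real values vanish
  have hdiag : ∀ x s : F, s ^ q = s → B x (s * x) = 1 := by
    intro x s hs
    obtain ⟨p', k, hp', hchar, -, hqk⟩ := q_eq_primePow hF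
    have hpp : p = p' := (Nat.prime_dvd_prime_iff_eq X.prime hp').1
      (X.prime.dvd_of_dvd_pow (hqk ▸ X.dvd))
    have hsq : B x (s * x) * B x (s * x) = 1 := by
      nth_rw 1 [← hE s hs x x]
      rw [hBsw x (s * x), inv_mul_cancel]
    by_cases h2 : p' = 2
    · subst h2
      obtain ⟨r, hr⟩ : 2 ∣ q := hqk ▸ dvd_pow_self 2 (by rintro rfl; simp at hqk; omega)
      have ht : (s ^ r) ^ 2 = s := by rw [← pow_mul, mul_comm, ← hr, hs]
      have htq : (s ^ r) ^ q = s ^ r := by rw [← pow_mul, mul_comm, pow_mul, hs]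
      have := hE (s ^ r) htq x (s ^ r * x)
      rw [hBself, ← mul_assoc, ← sq, ht] at this
      exact this.symm
    · have hker : σ (B x (s * x)) = 1 := X.cc_ker h (hsu _) (hsu _) (by
        rw [hBh, mul_pow s x, hs, mul_pow, mul_pow, pow_q_q hF, hs]; ring)
      obtain ⟨l, hl⟩ := X.pgrp ⟨_, hker⟩
      exact eq_one_of_two_primes Nat.prime_two X.prime (fun h0 => h2 (by omega)) (k := 1) (l := l)
        (by rw [pow_one, sq, hsq]) (congrArg Subtype.val hl)
  obtain ⟨θ, hθ⟩ : ∃ θ : F, θ ^ q ≠ θ := by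
    obtain ⟨l, hl, hl2⟩ := exists_norm_one_pow_ne hF (k := 2) (by omega) (by omega)
    refine ⟨l, fun h0 => hl2 ?_⟩
    rw [sq]
    nth_rewrite 1 [← h0]
    rw [← pow_succ, hl]
  let φ : F → E := fun s => B 1 (s * θ)
  have hφadd : ∀ s t, φ (s + t) = φ s * φ t := fun s t => by simp only [φ, add_mul, hBr]
  have hφneg : ∀ s, (φ s)⁻¹ = φ (-s) := fun s => by
    simp only [φ, neg_mul, B, neg_smul, X.cc_neg_right hn h]
  have hne : θ ^ q - θ ≠ 0 := sub_ne_zero.2 hθ
  refine ⟨fun t => φ ((t - t ^ q) / (θ ^ q - θ)), fun s t => ?_, fun s hs => ?_,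
    fun z hz w hw => ?_⟩
  · rw [← hφadd, ← add_div, add_pow_q hF]
    congr 1
    ring
  · rw [hs, sub_self, zero_div]
    simp only [φ, B, zero_mul, zero_smul, X.cc_zero_right hn h]
  have hline : ∀ {y : Fin n → F}, y ∈ rest q e f → y = hermForm n F q y u • u := by
    intro y hy
    obtain ⟨-, hd⟩ := nondeg_inf_perp hF (nondeg_rest hF h)
      (not_isotropic_of_nondeg hF (x := u) (by rw [hu1]; exact one_ne_zero))
      ((Submodule.span_singleton_le_iff_mem _ _).2 hu)
    rw [finrank_span_singleton hu0] at hd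
    have hmem : y - hermForm n F q y u • u ∈ rest q e f ⊓ perp q (Submodule.span F {u}) := by
      refine ⟨Submodule.sub_mem _ hy (hsu _), fun x hx => ?_⟩
      obtain ⟨t, rfl⟩ := Submodule.mem_span_singleton.1 hx
      rw [herm_smul_right, herm_sub_left, herm_smul_left, hu1, mul_one, sub_self, mul_zero]
    rw [Submodule.finrank_eq_zero.1 (show finrank F
      (rest q e f ⊓ perp q (Submodule.span F {u}) : Submodule F (Fin n → F)) = 0 by omega),
      Submodule.mem_bot, sub_eq_zero] at hmem
    exact hmem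
  rw [hline hz, hline hw, hBh]
  obtain ⟨a, b, ha, hb, hab⟩ := fixed_coords hF hθ (hermForm n F q z u)
  obtain ⟨c, d, hc, hd, hcd⟩ := fixed_coords hF hθ (hermForm n F q w u)
  show B (hermForm n F q z u) (hermForm n F q w u) = _
  rw [hab, hcd]
  have e1 : B a c = 1 := by
    have h1 := hE a ha 1 c
    rw [mul_one] at h1
    have h2 := hdiag 1 (a * c) (by rw [mul_pow, ha, hc])
    rw [mul_one] at h2
    rw [h1, h2]
  have e2 : B a (d * θ) = φ (a * d) := by
    have h1 := hE a ha 1 (d * θ)
    rw [mul_one, ← mul_assoc] at h1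
    exact h1
  have e3 : B (b * θ) c = φ (-(b * c)) := by
    rw [hBsw c, ← hφneg]
    have h1 := hE c hc 1 (b * θ)
    rw [mul_one, ← mul_assoc, mul_comm c b] at h1
    rw [h1]
  have e4 : B (b * θ) (d * θ) = 1 := by
    have h1 := hE b hb θ (d * θ)
    rw [← mul_assoc] at h1
    rw [h1, hdiag θ (b * d) (by rw [mul_pow, hb, hd])]
  rw [hBl, hBr, hBr, e1, e2, e3, e4, one_mul, mul_one, ← hφadd]
  congr 1
  rw [eq_div_iff hne]
  simp only [mul_pow, add_pow_q hF, pow_q_q hF, ha, hb, hc, hd]
  ring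

include hn in
theorem PExt.exists_psi : ∃ Ψ : F → E, IsPsi X h Ψ := by
  rcases Nat.lt_or_ge n 4 with hn4 | hn4
  · exact X.exists_psi_of_three hn h (by have := hn.three_le; omega)
  · exact X.exists_psi_of_four hn h hn4

include X hn h in
/-- The derived group of the preimage of `QS e` meets the kernel trivially. -/
theorem PExt.split_QS : Split σ (QS e) := by
  obtain ⟨Ψ, hΨ⟩ := X.exists_psi hn h
  let C : Subgroup E :=
    { carrier := Set.range Ψ
      one_mem' := ⟨0, hΨ.fixed 0 (zero_pow_q X.card)⟩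
      mul_mem' := by rintro _ _ ⟨s, rfl⟩ ⟨t, rfl⟩; exact ⟨s + t, hΨ.add s t⟩
      inv_mem' := by
        rintro _ ⟨s, rfl⟩
        refine ⟨-s, eq_inv_of_mul_eq_one_left ?_⟩
        rw [← hΨ.add, neg_add_cancel, hΨ.fixed 0 (zero_pow_q X.card)] }
  have hle : ⁅(QS e).comap σ, (QS e).comap σ⁆ ≤ C := commutator_le.2 fun x hx y hy => by
    refine ⟨hermForm n F q (zp e f (σ x)) (zp e f (σ y)), ?_⟩
    rw [← hΨ.eq _ (zp_mem X.card h _) _ (zp_mem X.card h _)]
    exact (X.comm_eq_cc hn h hx hy (proj_of_mem X.card (zp_mem X.card h _)).symm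
      (proj_of_mem X.card (zp_mem X.card h _)).symm).symm
  refine split_iff.2 fun z hz hz1 => ?_
  obtain ⟨s, rfl⟩ := hle hz
  obtain ⟨z, hz, w, hw, hzw⟩ := exists_pair_value X.card hn.three_le h s
  rw [← hzw, ← hΨ.eq z hz w hw] at hz1
  refine hΨ.fixed s ?_
  have h1 := X.cc_tc h z w
  rw [hz1, tc_one X.card h, proj_of_mem X.card hz, proj_of_mem X.card hw,
    ← herm_conj z w X.card, hzw] at h1
  linear_combination h1

end Cfsg.Agent.Lib.MultPSU
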