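import Mathlib
import Cfsg.Agent.Lib.MultPSU.Psi

/-!
Lib/MultPSU/Compl: complements to the kernel over `QS e` normalised by an element of the line
stabiliser acting without fixed points on `QS e / RS e`.
-/

set_option autoImplicit false
set_option linter.unusedSectionVars false

namespace Cfsg.Agent.Lib.MultPSU

open Matrix Module Subgroup Cfsg.Agent.Lib.Unitary Cfsg.Agent.Lib.AutPSU
open Cfsg.Agent.Lib.MinIndexPSU
open scoped commutatorElement

universe u v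

variable {F : Type u} [Field F] [Fintype F] {q n : ℕ} {e f : Fin n → F}
variable {p : ℕ} {E : Type v} [Group E] {σ : E →* SU n F q}

/-- `g` fixes no nonzero point of `QS e / RS e`. -/
def FPF (q : ℕ) (e f : Fin n → F) (g : SU n F q) : Prop :=
  ∃ a : F, a ≠ 0 ∧ g.1.1 *ᵥ e = a • e ∧
    ∀ z ∈ rest q e f, a ^ q • proj q e f (g.1.1 *ᵥ z) = z → z = 0

/-- `t` conjugates `C` into itself. -/
def NormBy (t : E) (C : Subgroup E) : Prop := ∀ c ∈ C, t * c * t⁻¹ ∈ C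

theorem FPF.mem_NS {g : SU n F q} (hg : FPF q e f g) : g ∈ NS e := by
  obtain ⟨a, ha, hge, -⟩ := hg
  exact ⟨a, ha, hge⟩

theorem NormBy.mul {t t' : E} {C : Subgroup E} (ht : NormBy t C) (ht' : NormBy t' C) :
    NormBy (t * t') C := fun c hc => by
  have := ht _ (ht' c hc)
  rwa [show t * (t' * c * t'⁻¹) * t⁻¹ = t * t' * c * (t * t')⁻¹ by group] at this

/-- The conjugate of a subgroup. -/
def conjBy (g : E) (C : Subgroup E) : Subgroup E := C.map (MulAut.conj g).toMonoidHom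

theorem mem_conjBy {g x : E} {C : Subgroup E} : x ∈ conjBy g C ↔ ∃ c ∈ C, g * c * g⁻¹ = x :=
  Iff.rfl

/-- Two elements agree at `e` and modulo `e` on the orthogonal of `e`. -/
def AgreeAt (e : Fin n → F) (g g' : SU n F q) : Prop :=
  g.1.1 *ᵥ e = g'.1.1 *ᵥ e ∧
    ∀ x, hermForm n F q x e = 0 → ∃ c : F, g.1.1 *ᵥ x = g'.1.1 *ᵥ x + c • e

theorem AgreeAt.inv_mul_mem {g g' : SU n F q} (hh : AgreeAt e g g') (hg' : g' ∈ NS e) :
    g'⁻¹ * g ∈ QS e := by
  obtain ⟨a, -, ha⟩ := (NS e).inv_mem hg'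
  refine ⟨by rw [SU_mul_mulVec, hh.1, SU_inv_mulVec], fun x hx => ?_⟩
  obtain ⟨c, hc⟩ := hh.2 x hx
  exact ⟨c * a, by rw [SU_mul_mulVec, hc, Matrix.mulVec_add, SU_inv_mulVec, Matrix.mulVec_smul, ha,
    smul_smul]⟩

theorem AgreeAt.commutator_mem {g g' : SU n F q} (hh : AgreeAt e (g * g') (g' * g))
    (hg : g ∈ NS e) (hg' : g' ∈ NS e) : ⁅g, g'⁆ ∈ QS e := by
  have := NS_conj_QS (mul_mem hg' hg) (hh.inv_mul_mem (mul_mem hg' hg))
  rwa [show g' * g * ((g' * g)⁻¹ * (g * g')) * (g' * g)⁻¹ = ⁅g, g'⁆ by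
    rw [commutatorElement_def]; group] at this

variable (X : PExt p σ) (hn : Size q n) (h : Hyp q e f)

/-- The derived group of the preimage of `QS e`. -/
def Dq (σ : E →* SU n F q) (e : Fin n → F) : Subgroup E :=
  ⁅(QS e).comap σ, (QS e).comap σ⁆

include X h in
theorem Dq_le : Dq σ e ≤ (RS e).comap σ := commutator_le.2 fun x hx y hy => by
  rw [mem_comap, map_commutatorElement]
  exact (tc_commutator X.card h hx hy).1

include X hn h in
theorem Dq_exists {g : SU n F q} (hg : g ∈ RS e) : ∃ c ∈ Dq σ e, σ c = g := by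
  have hF := X.card
  obtain ⟨x, hx⟩ := exists_diff hF (exists_tc hF h hg).1
  obtain ⟨z, hz, w, hw, hzw⟩ := exists_pair_value hF hn.three_le h x
  obtain ⟨k, hk, hkz⟩ := X.exists_lift h hz
  obtain ⟨l, hl, hlw⟩ := X.exists_lift h hw
  obtain ⟨hkl, htc⟩ := tc_commutator hF h hk hl
  rw [hkz, hlw, ← herm_conj z w hF, hzw, hx] at htc
  exact ⟨⁅k, l⁆, commutator_mem_commutator hk hl, by
    rw [map_commutatorElement]; exact eq_of_tc hF h hkl hg htc⟩

theorem Dq_conj {g : E} (hg : σ g ∈ NS e) {c : E} (hc : c ∈ Dq σ e) :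
    g * c * g⁻¹ ∈ Dq σ e := by
  have hm : ((QS e).comap σ).map (MulAut.conj g).toMonoidHom ≤ (QS e).comap σ := by
    rintro _ ⟨y, hy, rfl⟩
    show σ (g * y * g⁻¹) ∈ QS e
    rw [map_mul, map_mul, map_inv]
    exact NS_conj_QS hg hy
  have := mem_map_of_mem (MulAut.conj g).toMonoidHom hc
  rw [Dq, map_commutator] at this
  exact commutator_mono hm hm this

variable {C C' : Subgroup E}

include X in
theorem comp_exists_ker (hC : Comp σ (QS e) C) {y : E} (hy : σ y ∈ QS e) :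
    ∃ c ∈ C, ∃ z, σ z = 1 ∧ y = c * z := by
  obtain ⟨c, hc, hcy⟩ := hC.exists_mem hy
  exact ⟨c, hc, c⁻¹ * y, by rw [map_mul, map_inv, hcy, inv_mul_cancel], by group⟩

include X in
theorem comp_normBy_QS (hC : Comp σ (QS e) C) {y : E} (hy : σ y ∈ QS e) : NormBy y C := by
  intro c hc
  obtain ⟨d, hd, z, hz, rfl⟩ := comp_exists_ker X hC hy
  rw [show d * z * c * (d * z)⁻¹ = d * (z * c * z⁻¹) * d⁻¹ by group,
    ((commute_ker X.central hz c).symm).eq, mul_inv_cancel_right]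
  exact mul_mem (mul_mem hd hc) (inv_mem hd)

include X in
theorem Dq_le_comp (hC : Comp σ (QS e) C) : Dq σ e ≤ C := commutator_le.2 fun x hx y hy => by
  obtain ⟨a, ha, eax⟩ := hC.exists_mem hx
  obtain ⟨b, hb, eby⟩ := hC.exists_mem hy
  rw [Schur.Fusion.commutator_congr X.central eax.symm eby.symm, commutatorElement_def]
  exact mul_mem (mul_mem (mul_mem ha hb) (inv_mem ha)) (inv_mem hb)

theorem comp_conjBy {g : E} (hg : σ g ∈ NS e) (hC : Comp σ (QS e) C) :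
    Comp σ (QS e) (conjBy g C) := by
  refine ⟨?_, eq_bot_iff.2 ?_⟩
  · ext x
    constructor
    · rintro ⟨_, ⟨c, hc, rfl⟩, rfl⟩
      show σ (g * c * g⁻¹) ∈ QS e
      rw [map_mul, map_mul, map_inv]
      exact NS_conj_QS hg (hC.mem hc)
    · intro hx
      obtain ⟨c, hc, hcx⟩ := hC.exists_mem (NS_conj_QS ((NS e).inv_mem hg) hx)
      refine ⟨g * c * g⁻¹, ⟨c, hc, rfl⟩, ?_⟩
      rw [map_mul, map_mul, map_inv, hcx, inv_inv]
      group
  · rintro x ⟨⟨c, hc, rfl⟩, hk⟩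
    have h1 : σ c = 1 := by
      have h2 : σ g * σ c * (σ g)⁻¹ = 1 := by
        rw [← map_mul, ← map_inv, ← map_mul]
        exact hk
      exact conj_eq_one_iff.1 h2
    rw [hC.eq_one hc h1, map_one]
    exact one_mem _

theorem NormBy.conjBy {g t : E} (hC : NormBy t C) :
    NormBy (g * t * g⁻¹) (Cfsg.Agent.Lib.MultPSU.conjBy g C) := by
  rintro _ ⟨c, hc, rfl⟩
  refine ⟨t * c * t⁻¹, hC c hc, ?_⟩
  simp only [MulEquiv.coe_toMonoidHom, MulAut.conj_apply]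
  group

include X h in
theorem zp_commutator {t y : E} {a : F} (hte : (σ t).1.1 *ᵥ e = a • e) (ha : a ≠ 0)
    (hy : σ y ∈ QS e) :
    σ ⁅t, y⁆ ∈ QS e ∧ zp e f (σ ⁅t, y⁆) =
      a ^ q • proj q e f ((σ t).1.1 *ᵥ zp e f (σ y)) - zp e f (σ y) := by
  have hc := NS_conj_QS (show σ t ∈ NS e from ⟨a, ha, hte⟩) hy
  rw [map_commutatorElement, commutatorElement_def]
  refine ⟨mul_mem hc (inv_mem hy), ?_⟩
  rw [zp_mul X.card h hc (inv_mem hy), zp_inv X.card h hy, MinIndexPSU.zp_conj X.card h hte hy,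
    sub_eq_add_neg]

include X hn h in
theorem FPF.exists_preimage {t : E} (ht : FPF q e f (σ t)) {x : SU n F q} (hx : x ∈ QS e) :
    ∃ y, σ y ∈ QS e ∧ ∃ c ∈ Dq σ e, σ (⁅t, y⁆ * c) = x := by
  obtain ⟨a, ha, hte, hfp⟩ := ht
  have hF := X.card
  let φ : rest q e f → rest q e f := fun z =>
    ⟨a ^ q • proj q e f ((σ t).1.1 *ᵥ z.1) - z.1,
      Submodule.sub_mem _ (Submodule.smul_mem _ _ (proj_mem hF h _)) z.2⟩
  have hinj : Function.Injective φ := fun z w hzw => by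
    have h1 : a ^ q • proj q e f ((σ t).1.1 *ᵥ z.1) - z.1 =
        a ^ q • proj q e f ((σ t).1.1 *ᵥ w.1) - w.1 := congrArg Subtype.val hzw
    refine Subtype.ext (sub_eq_zero.1 (hfp _ (Submodule.sub_mem _ z.2 w.2) ?_))
    have h2 : proj q e f ((σ t).1.1 *ᵥ (z.1 - w.1)) =
        proj q e f ((σ t).1.1 *ᵥ z.1) - proj q e f ((σ t).1.1 *ᵥ w.1) := by
      rw [Matrix.mulVec_sub, eq_sub_iff_add_eq, ← proj_add, sub_add_cancel]
    rw [h2, smul_sub]
    exact sub_eq_sub_iff_sub_eq_sub.1 h1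
  obtain ⟨z, hz⟩ := (Finite.injective_iff_surjective.1 hinj) ⟨zp e f x, zp_mem hF h x⟩
  obtain ⟨y, hy, hyz⟩ := X.exists_lift h z.2
  obtain ⟨hm, hzp⟩ := zp_commutator X h hte ha hy
  have hr : (σ ⁅t, y⁆)⁻¹ * x ∈ RS e := by
    refine mem_RS_of_zp hF h (mul_mem (inv_mem hm) hx) ?_
    rw [zp_mul hF h (inv_mem hm) hx, zp_inv hF h hm, hzp, hyz, neg_add_eq_zero]
    exact congrArg Subtype.val hz
  obtain ⟨c, hc, hcx⟩ := Dq_exists X hn h hr
  exact ⟨y, hy, c, hc, by rw [map_mul, hcx, mul_inv_cancel_left]⟩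

include X hn h in
theorem comp_unique {t : E} (ht : FPF q e f (σ t)) (hC : Comp σ (QS e) C) (htC : NormBy t C)
    (hC' : Comp σ (QS e) C') (htC' : NormBy t C') : C = C' := by
  have key : ∀ {C : Subgroup E}, Comp σ (QS e) C → NormBy t C → ∀ y, σ y ∈ QS e →
      ∀ c ∈ Dq σ e, ⁅t, y⁆ * c ∈ C := by
    intro C hC htC y hy c hc
    obtain ⟨d, hd, z, hz, rfl⟩ := comp_exists_ker X hC hy
    have e1 : ⁅t, d * z⁆ = t * d * t⁻¹ * d⁻¹ := by
      rw [Schur.Fusion.commutator_congr X.central (a' := t) (b' := d) rfl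
        (by rw [map_mul, hz, mul_one]), commutatorElement_def]
    rw [e1]
    exact mul_mem (mul_mem (htC d hd) (inv_mem hd)) (Dq_le_comp X hC hc)
  have le : ∀ {C C' : Subgroup E}, Comp σ (QS e) C → NormBy t C → Comp σ (QS e) C' →
      NormBy t C' → C' ≤ C := by
    intro C C' hC htC hC' htC' x hx
    obtain ⟨y, hy, c, hc, hyc⟩ := FPF.exists_preimage X hn h ht (hC'.mem hx)
    have h1 : (⁅t, y⁆ * c)⁻¹ * x = 1 := hC'.eq_one
      (mul_mem (inv_mem (key hC' htC' y hy c hc)) hx)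
      (by rw [map_mul σ _ x, map_inv, hyc, inv_mul_cancel])
    rw [← inv_mul_eq_one.1 h1]
    exact key hC htC y hy c hc
  exact le_antisymm (le hC' htC' hC htC) (le hC htC hC' htC')

include X hn h in
theorem exists_comp_normBy {t : E} (ht : FPF q e f (σ t)) :
    ∃ C : Subgroup E, Comp σ (QS e) C ∧ NormBy t C := by
  have hF := X.card
  have hcent : ∀ {y c : E}, σ y ∈ QS e → c ∈ Dq σ e → Commute y c :=
    fun hy hc => X.commute_St hn h hy (Dq_le X h hc)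
  obtain ⟨a, ha, hte, hfp⟩ := ht
  have hcomm : ∀ {y : E}, σ y ∈ QS e → σ ⁅t, y⁆ ∈ QS e := fun hy => (zp_commutator X h hte ha hy).1
  have hprod : ∀ {y y' : E}, σ y ∈ QS e → σ y' ∈ QS e →
      ∃ k ∈ Dq σ e, ⁅t, y * y'⁆ = ⁅t, y⁆ * ⁅t, y'⁆ * k := fun {y y'} hy hy' =>
    ⟨⁅⁅t, y'⁆⁻¹, y⁆, commutator_mem_commutator (inv_mem (hcomm hy')) hy, by
      simp only [commutatorElement_def]; group⟩
  let C : Subgroup E :=
    { carrier := {x | ∃ y, σ y ∈ QS e ∧ ∃ c ∈ Dq σ e, x = ⁅t, y⁆ * c}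
      one_mem' := ⟨1, by rw [map_one]; exact one_mem _, 1, one_mem _, by simp⟩
      mul_mem' := by
        rintro _ _ ⟨y, hy, c, hc, rfl⟩ ⟨y', hy', c', hc', rfl⟩
        obtain ⟨k, hk, hkk⟩ := hprod hy hy'
        refine ⟨y * y', by rw [map_mul]; exact mul_mem hy hy', k⁻¹ * (c * c'),
          mul_mem (inv_mem hk) (mul_mem hc hc'), ?_⟩
        rw [hkk, mul_assoc (⁅t, y⁆ * ⁅t, y'⁆) k, mul_inv_cancel_left, mul_assoc ⁅t, y⁆ c,
          ← mul_assoc c, ← (hcent (hcomm hy') hc).eq]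
        group
      inv_mem' := by
        rintro _ ⟨y, hy, c, hc, rfl⟩
        have hyi : σ y⁻¹ ∈ QS e := by rw [map_inv]; exact inv_mem hy
        obtain ⟨k, hk, hkk⟩ := hprod hy hyi
        refine ⟨y⁻¹, hyi, k * c⁻¹, mul_mem hk (inv_mem hc), ?_⟩
        rw [mul_inv_cancel, commutatorElement_one_right] at hkk
        have h1 : ⁅t, y⁻¹⁆ * k = ⁅t, y⁆⁻¹ :=
          eq_inv_of_mul_eq_one_right (by rw [← mul_assoc, ← hkk])
        rw [← mul_assoc, h1, _root_.mul_inv_rev, ((hcent (hcomm hy) hc).inv_inv).eq] }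
  refine ⟨C, ⟨?_, eq_bot_iff.2 ?_⟩, ?_⟩
  · ext x
    constructor
    · rintro ⟨_, ⟨y, hy, c, hc, rfl⟩, rfl⟩
      rw [map_mul]
      exact mul_mem (hcomm hy) (RS_le_QS h.1 (Dq_le X h hc))
    · intro hx
      obtain ⟨y, hy, c, hc, hyc⟩ := FPF.exists_preimage X hn h ⟨a, ha, hte, hfp⟩ hx
      exact ⟨_, ⟨y, hy, c, hc, rfl⟩, hyc⟩
  · rintro x ⟨⟨y, hy, c, hc, rfl⟩, hx⟩
    have h1 : σ ⁅t, y⁆ ∈ RS e := by
      rw [show σ ⁅t, y⁆ = (σ c)⁻¹ from eq_inv_of_mul_eq_one_left (by rw [← map_mul]; exact hx)]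
      exact inv_mem (Dq_le X h hc)
    have h2 := zp_of_RS hF h h1
    rw [(zp_commutator X h hte ha hy).2, sub_eq_zero] at h2
    obtain ⟨d, hd, hdy⟩ := Dq_exists X hn h
      (mem_RS_of_zp hF h hy (hfp _ (zp_mem hF h _) h2))
    have h3 : ⁅t, y⁆ ∈ Dq σ e := by
      rw [Schur.Fusion.commutator_congr X.central (a' := t) (b' := d) rfl hdy.symm,
        commutatorElement_def]
      exact mul_mem (Dq_conj ⟨a, ha, hte⟩ hd) (inv_mem hd)
    rw [Subgroup.mem_bot]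
    exact (X.split_QS hn h).eq_one (mul_mem h3 hc) hx
  · rintro _ ⟨y, hy, c, hc, rfl⟩
    refine ⟨t * y * t⁻¹, ?_, t * c * t⁻¹, Dq_conj ⟨a, ha, hte⟩ hc, ?_⟩
    · rw [map_mul, map_mul, map_inv]; exact NS_conj_QS ⟨a, ha, hte⟩ hy
    · simp only [commutatorElement_def]; group

include X hn h in
/-- Elements commuting modulo `QS e` normalise the same complement. -/
theorem comp_eq_of_commutator {t t' : E} (ht : FPF q e f (σ t)) (ht' : FPF q e f (σ t'))
    (htt : ⁅σ t, σ t'⁆ ∈ QS e) (hC : Comp σ (QS e) C) (htC : NormBy t C)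
    (hC' : Comp σ (QS e) C') (htC' : NormBy t' C') : C = C' := by
  have hD := comp_conjBy (g := t') ht'.mem_NS hC
  have htD : NormBy t (conjBy t' C) := by
    have h1 : σ ⁅t, t'⁆ ∈ QS e := by rwa [map_commutatorElement]
    have := (comp_normBy_QS X hD h1).mul (htC.conjBy (g := t'))
    rwa [show ⁅t, t'⁆ * (t' * t * t'⁻¹) = t by rw [commutatorElement_def]; group] at this
  have heq := comp_unique X hn h ht hD htD hC htC
  exact comp_unique X hn h ht' hC (fun c hc => heq ▸ ⟨c, hc, rfl⟩) hC' htC'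

include X hn h in
/-- Elements agreeing modulo `QS e` normalise the same complement. -/
theorem comp_eq_of_agree {t t' : E} (ht : FPF q e f (σ t)) (hag : AgreeAt e (σ t) (σ t'))
    (ht' : σ t' ∈ NS e) (hC : Comp σ (QS e) C) (htC : NormBy t C) (hC' : Comp σ (QS e) C')
    (htC' : NormBy t' C') : C = C' := by
  refine comp_unique X hn h ht hC htC hC' ?_
  have h1 : σ (t'⁻¹ * t) ∈ QS e := by rw [map_mul, map_inv]; exact hag.inv_mul_mem ht'
  have := htC'.mul (comp_normBy_QS X hC' h1)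
  rwa [mul_inv_cancel_left] at this

end Cfsg.Agent.Lib.MultPSU
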