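import Mathlib
import Cfsg.Agent.Lib.MultPSU.Compl

/-!
Lib/MultPSU/Normal: a complement over `QS e` normalised by the whole preimage of the line
stabiliser.
-/

set_option autoImplicit false
set_option linter.unusedSectionVars false

namespace Cfsg.Agent.Lib.MultPSU

open Matrix Module Subgroup Cfsg.Agent.Lib.Unitary Cfsg.Agent.Lib.AutPSU
open Cfsg.Agent.Lib.MinIndexPSU
open scoped commutatorElement

universe u v

variable {F : Type u} [Field F] [Fintype F] {q n : ℕ} {e f : Fin n → F}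
variable {p : ℕ} {E : Type v} [Group E] {σ : E →* SU n F q}

theorem proj_e (hF : Fintype.card F = q ^ 2) (h : Hyp q e f) : proj q e f e = 0 := by
  simpa using proj_plane hF h (1 : F) 0

theorem perp_e_expand (h : hermForm n F q e e = 0) {x : Fin n → F}
    (hx : hermForm n F q x e = 0) : x = hermForm n F q x f • e + proj q e f x := by
  have := h
  conv_lhs => rw [eq_proj (q := q) (e := e) (f := f) x]
  rw [hx, zero_smul, add_zero]

theorem preimage_perp {g : SU n F q} {ζ : F} (hge : g.1.1 *ᵥ e = ζ • e) (_hζ : ζ ≠ 0)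
    {x : Fin n → F} (hx : hermForm n F q x e = 0) :
    hermForm n F q (g⁻¹.1.1 *ᵥ x) e = 0 := by
  have := SU_herm g (g⁻¹.1.1 *ᵥ x) e
  rw [SU_mulVec_inv, hge, herm_smul_right, hx, mul_zero] at this
  exact this.symm

/-! ### Scalar type -/

/-- `g` multiplies `e` by `a` and the orthogonal of `e`, modulo `e`, by `l`. -/
def Scal (q : ℕ) (e : Fin n → F) (a l : F) (g : SU n F q) : Prop :=
  g.1.1 *ᵥ e = a • e ∧ ∀ x, hermForm n F q x e = 0 → ∃ c : F, g.1.1 *ᵥ x = l • x + c • e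

theorem Scal.agree {a l : F} {g g' : SU n F q} (hg : Scal q e a l g) (hg' : Scal q e a l g') :
    AgreeAt e g g' := by
  refine ⟨hg.1.trans hg'.1.symm, fun x hx => ?_⟩
  obtain ⟨c, hc⟩ := hg.2 x hx
  obtain ⟨c', hc'⟩ := hg'.2 x hx
  exact ⟨c - c', by rw [hc, hc', sub_smul]; abel⟩

theorem Scal.conj {a l : F} {g t : SU n F q} (ht : Scal q e a l t) (hg : g ∈ NS e) :
    Scal q e a l (g * t * g⁻¹) := by
  obtain ⟨ζ, hζ, hge⟩ := hg
  have hgi : g⁻¹.1.1 *ᵥ e = ζ⁻¹ • e := by
    have := congrArg (fun v => g⁻¹.1.1 *ᵥ v) hge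
    simp only [SU_inv_mulVec, Matrix.mulVec_smul] at this
    rw [eq_inv_smul_iff₀ hζ]
    exact this.symm
  refine ⟨by rw [SU_mul_mulVec, SU_mul_mulVec, hgi, Matrix.mulVec_smul, ht.1, Matrix.mulVec_smul,
    Matrix.mulVec_smul, hge, smul_smul, smul_smul]; congr 1; field_simp, fun x hx => ?_⟩
  obtain ⟨c, hc⟩ := ht.2 _ (preimage_perp hge hζ hx)
  exact ⟨c * ζ, by rw [SU_mul_mulVec, SU_mul_mulVec, hc, Matrix.mulVec_add, Matrix.mulVec_smul,
    Matrix.mulVec_smul, SU_mulVec_inv, hge, smul_smul]⟩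

theorem Scal.fpf (hF : Fintype.card F = q ^ 2) (h : Hyp q e f) {a l : F} {g : SU n F q}
    (hg : Scal q e a l g) (ha : a ≠ 0) (hne : a ^ q * l ≠ 1) : FPF q e f g := by
  refine ⟨a, ha, hg.1, fun z hz hfix => ?_⟩
  obtain ⟨c, hc⟩ := hg.2 z ((MinIndexPSU.mem_rest hF).1 hz).1
  rw [hc, proj_add, proj_smul, proj_smul, proj_e hF h, proj_of_mem hF hz, smul_zero, add_zero,
    smul_smul] at hfix
  by_contra hz0
  exact hne (smul_left_injective F hz0 (hfix.trans (one_smul F z).symm))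

theorem exists_scal (hF : Fintype.card F = q ^ 2) (h : Hyp q e f) {a l : F} (ha : a ≠ 0)
    (hl : l * l ^ q = 1) (hdet : a * (a ^ q)⁻¹ * l ^ (n - 2) = 1) :
    ∃ g : SU n F q, Scal q e a l g := by
  obtain ⟨g, hg, hgz⟩ := exists_lev_scalar hF h ha hl hdet
  refine ⟨g, hg.left, fun x hx => ⟨hermForm n F q x f * a - l * hermForm n F q x f, ?_⟩⟩
  conv_lhs => rw [perp_e_expand (f := f) h.1 hx]
  conv_rhs => arg 1; rw [perp_e_expand (f := f) h.1 hx]
  rw [Matrix.mulVec_add, Matrix.mulVec_smul, hg.left, hgz _ (proj_mem hF h x)]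
  module

/-! ### Planar type -/

/-- `g` fixes `e` and acts on its orthogonal, modulo `e`, by `ω`, except by `ω ^ 2` on `a` and `b`. -/
def Pl (q : ℕ) (e : Fin n → F) (ω : F) (a b : Fin n → F) (g : SU n F q) : Prop :=
  g.1.1 *ᵥ e = e ∧ ∀ x, hermForm n F q x e = 0 → ∃ c : F, g.1.1 *ᵥ x =
    ω • x + (ω ^ 2 - ω) • (hermForm n F q x a • a + hermForm n F q x b • b) + c • e

/-- An orthonormal pair of the rest. -/
structure OPair (q : ℕ) (e f a b : Fin n → F) : Prop where
  left : a ∈ rest q e f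
  right : b ∈ rest q e f
  norm_left : hermForm n F q a a = 1
  norm_right : hermForm n F q b b = 1
  orth : hermForm n F q a b = 0

theorem OPair.swap (hF : Fintype.card F = q ^ 2) {a b : Fin n → F} (hp : OPair q e f a b) :
    OPair q e f b a :=
  ⟨hp.right, hp.left, hp.norm_right, hp.norm_left, herm_eq_zero_symm hF hp.orth⟩

theorem Pl.swap {ω : F} {a b : Fin n → F} {g : SU n F q} (hg : Pl q e ω a b g) :
    Pl q e ω b a g :=
  ⟨hg.1, fun x hx => by
    obtain ⟨c, hc⟩ := hg.2 x hx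
    exact ⟨c, by rw [hc, add_comm (hermForm n F q x a • a)]⟩⟩

theorem Pl.agree {ω : F} {a b : Fin n → F} {g g' : SU n F q} (hg : Pl q e ω a b g)
    (hg' : Pl q e ω a b g') : AgreeAt e g g' := by
  refine ⟨hg.1.trans hg'.1.symm, fun x hx => ?_⟩
  obtain ⟨c, hc⟩ := hg.2 x hx
  obtain ⟨c', hc'⟩ := hg'.2 x hx
  exact ⟨c - c', by rw [hc, hc']; module⟩

theorem Pl.mem_NS {ω : F} {a b : Fin n → F} {g : SU n F q} (hg : Pl q e ω a b g) : g ∈ NS e :=
  ⟨1, one_ne_zero, by rw [one_smul]; exact hg.1⟩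

theorem Pl.conj (hF : Fintype.card F = q ^ 2) (h : Hyp q e f) {ω : F} {a b : Fin n → F}
    {g t : SU n F q} (hab : OPair q e f a b) (ht : Pl q e ω a b t) (hg : g ∈ NS e) :
    OPair q e f (proj q e f (g.1.1 *ᵥ a)) (proj q e f (g.1.1 *ᵥ b)) ∧
      Pl q e ω (proj q e f (g.1.1 *ᵥ a)) (proj q e f (g.1.1 *ᵥ b)) (g * t * g⁻¹) := by
  obtain ⟨ζ, hζ, hge⟩ := hg
  have hperp : ∀ {z : Fin n → F}, z ∈ rest q e f → hermForm n F q (g.1.1 *ᵥ z) e = 0 := by
    intro z hz
    have := SU_herm g z e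
    rw [hge, herm_smul_right, ((MinIndexPSU.mem_rest hF).1 hz).1] at this
    exact (mul_eq_zero.1 this).resolve_left (pow_ne_zero q hζ)
  have hpe : ∀ z : Fin n → F, hermForm n F q (proj q e f (g.1.1 *ᵥ z)) e = 0 := fun z =>
    ((MinIndexPSU.mem_rest hF).1 (proj_mem hF h _)).1
  have hherm : ∀ {z w : Fin n → F}, z ∈ rest q e f → w ∈ rest q e f →
      hermForm n F q (proj q e f (g.1.1 *ᵥ z)) (proj q e f (g.1.1 *ᵥ w)) = hermForm n F q z w := by
    intro z w hz hw
    have := SU_herm g z w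
    rw [perp_e_expand (f := f) h.1 (hperp hz), perp_e_expand (f := f) h.1 (hperp hw)] at this
    simp only [herm_add_left, herm_add_right _ _ _ hF, herm_smul_left, herm_smul_right, h.1, hpe,
      herm_eq_zero_symm hF (hpe w), mul_zero, zero_add] at this
    exact this
  refine ⟨⟨proj_mem hF h _, proj_mem hF h _, by rw [hherm hab.left hab.left, hab.norm_left],
    by rw [hherm hab.right hab.right, hab.norm_right],
    by rw [hherm hab.left hab.right, hab.orth]⟩, ?_, fun x hx => ?_⟩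
  · have hgi : g⁻¹.1.1 *ᵥ e = ζ⁻¹ • e := by
      have := congrArg (fun v => g⁻¹.1.1 *ᵥ v) hge
      simp only [SU_inv_mulVec, Matrix.mulVec_smul] at this
      rw [eq_inv_smul_iff₀ hζ]
      exact this.symm
    rw [SU_mul_mulVec, SU_mul_mulVec, hgi, Matrix.mulVec_smul, ht.1, Matrix.mulVec_smul, hge,
      smul_smul, inv_mul_cancel₀ hζ, one_smul]
  · obtain ⟨c, hc⟩ := ht.2 _ (preimage_perp hge hζ hx)
    have key : ∀ {z : Fin n → F}, z ∈ rest q e f → hermForm n F q (g⁻¹.1.1 *ᵥ x) z =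
        hermForm n F q x (proj q e f (g.1.1 *ᵥ z)) := by
      intro z hz
      have := SU_herm g (g⁻¹.1.1 *ᵥ x) z
      rw [SU_mulVec_inv, perp_e_expand (f := f) h.1 (hperp hz), herm_add_right _ _ _ hF,
        herm_smul_right, hx, mul_zero, zero_add] at this
      exact this.symm
    rw [key hab.left, key hab.right] at hc
    refine ⟨(ω ^ 2 - ω) * (hermForm n F q x (proj q e f (g.1.1 *ᵥ a)) *
        hermForm n F q (g.1.1 *ᵥ a) f + hermForm n F q x (proj q e f (g.1.1 *ᵥ b)) *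
        hermForm n F q (g.1.1 *ᵥ b) f) + c * ζ, ?_⟩
    rw [SU_mul_mulVec, SU_mul_mulVec, hc]
    simp only [Matrix.mulVec_add, Matrix.mulVec_smul, SU_mulVec_inv, hge]
    have eA := perp_e_expand (f := f) h.1 (hperp hab.left)
    have eB := perp_e_expand (f := f) h.1 (hperp hab.right)
    generalize proj q e f (g.1.1 *ᵥ a) = A at eA ⊢
    generalize proj q e f (g.1.1 *ᵥ b) = B at eB ⊢
    generalize hermForm n F q (g.1.1 *ᵥ a) f = sa at eA ⊢
    generalize hermForm n F q (g.1.1 *ᵥ b) f = sb at eB ⊢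
    rw [eA, eB]
    module

theorem Pl.fpf (hF : Fintype.card F = q ^ 2) (h : Hyp q e f) {ω : F} {a b : Fin n → F}
    {g : SU n F q} (hab : OPair q e f a b) (hg : Pl q e ω a b g) (h1 : ω ≠ 1) (h2 : ω ^ 2 ≠ 1) :
    FPF q e f g := by
  refine ⟨1, one_ne_zero, by rw [one_smul]; exact hg.1, fun z hz hfix => ?_⟩
  obtain ⟨c, hc⟩ := hg.2 z ((MinIndexPSU.mem_rest hF).1 hz).1
  rw [hc, one_pow, one_smul] at hfix
  simp only [proj_add, proj_smul, proj_e hF h, proj_of_mem hF hz, proj_of_mem hF hab.left,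
    proj_of_mem hF hab.right, smul_zero, add_zero] at hfix
  have ha : hermForm n F q z a = 0 := by
    have := congrArg (fun v => hermForm n F q v a) hfix
    simp only [herm_add_left, herm_smul_left, hab.norm_left, herm_eq_zero_symm hF hab.orth,
      mul_zero, add_zero, mul_one] at this
    have h3 : (ω ^ 2 - 1) * hermForm n F q z a = 0 := by linear_combination this
    exact (mul_eq_zero.1 h3).resolve_left (sub_ne_zero.2 h2)
  have hb : hermForm n F q z b = 0 := by
    have := congrArg (fun v => hermForm n F q v b) hfix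
    simp only [herm_add_left, herm_smul_left, hab.norm_right, hab.orth,
      mul_zero, zero_add, mul_one] at this
    have h3 : (ω ^ 2 - 1) * hermForm n F q z b = 0 := by linear_combination this
    exact (mul_eq_zero.1 h3).resolve_left (sub_ne_zero.2 h2)
  rw [ha, hb, zero_smul, zero_smul, add_zero, smul_zero, add_zero] at hfix
  by_contra hz0
  exact h1 (smul_left_injective F hz0 (hfix.trans (one_smul F z).symm))

theorem exists_pl (hF : Fintype.card F = q ^ 2) (h : Hyp q e f) {ω : F} {a b : Fin n → F}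
    (hab : OPair q e f a b) (hω : ω * ω ^ q = 1) (hdet : ω ^ (n - 2) * ω * ω = 1) :
    ∃ g : SU n F q, Pl q e ω a b g := by
  obtain ⟨c, hc, ho, hli⟩ := h.exists_complement hF
  obtain ⟨A, hAdet, hAc, hAfix⟩ := exists_GU_scale_family hF hω c hc
  obtain ⟨Sa, hSadet, hSa, hSafix⟩ := exists_GU_scale hF hab.norm_left hω
  obtain ⟨Sb, hSbdet, hSb, hSbfix⟩ := exists_GU_scale hF hab.norm_right hω
  obtain ⟨g, hg⟩ := exists_SU_of_GU (A := Sa * Sb * A) (by
    simp only [Subgroup.coe_mul, Units.val_mul, Matrix.det_mul, hAdet, hSadet, hSbdet]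
    linear_combination hdet)
  have hge : g.1.1 *ᵥ e = e := by
    rw [hg, GU_mul_mulVec, GU_mul_mulVec, hAfix e fun i => herm_eq_zero_symm hF (ho i).1,
      hSbfix e (rest_swap_herm hF hab.right).1, hSafix e (rest_swap_herm hF hab.left).1]
  have hS : ∀ {u : Fin n → F} {S : GU n F q}, hermForm n F q u u = 1 → S.1.1 *ᵥ u = ω • u →
      (∀ v, hermForm n F q v u = 0 → S.1.1 *ᵥ v = v) →
      ∀ z, S.1.1 *ᵥ z = z + ((ω - 1) * hermForm n F q z u) • u := by
    intro u S hu hSu hfix z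
    have h1 := hfix (z - hermForm n F q z u • u)
      (by rw [herm_sub_left, herm_smul_left, hu, mul_one, sub_self])
    rw [Matrix.mulVec_sub, Matrix.mulVec_smul, hSu, sub_eq_iff_eq_add] at h1
    rw [h1]
    module
  have hgz : ∀ z ∈ rest q e f, g.1.1 *ᵥ z =
      ω • z + (ω ^ 2 - ω) • (hermForm n F q z a • a + hermForm n F q z b • b) := by
    intro z hz
    obtain ⟨hze, hzf⟩ := (MinIndexPSU.mem_rest hF).1 hz
    have hAz : A.1.1 *ᵥ z = ω • z := by
      rw [h.complement_expand hF hc ho hli hze hzf]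
      simp [Matrix.mulVec_sum, Matrix.mulVec_smul, hAc, Finset.smul_sum, smul_smul, mul_comm]
    rw [hg, GU_mul_mulVec, GU_mul_mulVec, hAz, hS hab.norm_right hSb hSbfix,
      hS hab.norm_left hSa hSafix]
    simp only [herm_add_left, herm_smul_left, herm_eq_zero_symm hF hab.orth, mul_zero, add_zero]
    module
  refine ⟨g, hge, fun x hx => ⟨hermForm n F q x f * (1 - ω), ?_⟩⟩
  have hh : ∀ {z : Fin n → F}, z ∈ rest q e f →
      hermForm n F q x z = hermForm n F q (proj q e f x) z := by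
    intro z hz
    conv_lhs => rw [perp_e_expand (f := f) h.1 hx]
    rw [herm_add_left, herm_smul_left, (rest_swap_herm hF hz).1, mul_zero, zero_add]
  rw [hh hab.left, hh hab.right]
  conv_lhs => rw [perp_e_expand (f := f) h.1 hx]
  conv_rhs => arg 1; arg 1; arg 2; rw [perp_e_expand (f := f) h.1 hx]
  rw [Matrix.mulVec_add, Matrix.mulVec_smul, hge, hgz _ (proj_mem hF h x)]
  module

theorem Pl.commutator_mem (hF : Fintype.card F = q ^ 2) {ω : F} {a b c d : Fin n → F}
    (hab : OPair q e f a b) (hcd : OPair q e f c d) (hac : hermForm n F q a c = 0)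
    (had : hermForm n F q a d = 0) (hbc : hermForm n F q b c = 0) (hbd : hermForm n F q b d = 0)
    {g g' : SU n F q} (hg : Pl q e ω a b g) (hg' : Pl q e ω c d g') : ⁅g, g'⁆ ∈ QS e := by
  refine AgreeAt.commutator_mem ⟨by rw [SU_mul_mulVec, SU_mul_mulVec, hg.1, hg'.1, hg.1],
    fun x hx => ?_⟩ hg.mem_NS hg'.mem_NS
  obtain ⟨k, hk⟩ := hg.2 x hx
  obtain ⟨k', hk'⟩ := hg'.2 x hx
  obtain ⟨ka, hka⟩ := hg'.2 a ((MinIndexPSU.mem_rest hF).1 hab.left).1
  obtain ⟨kb, hkb⟩ := hg'.2 b ((MinIndexPSU.mem_rest hF).1 hab.right).1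
  obtain ⟨kc, hkc⟩ := hg.2 c ((MinIndexPSU.mem_rest hF).1 hcd.left).1
  obtain ⟨kd, hkd⟩ := hg.2 d ((MinIndexPSU.mem_rest hF).1 hcd.right).1
  simp only [hac, had, hbc, hbd, herm_eq_zero_symm hF hac, herm_eq_zero_symm hF had,
    herm_eq_zero_symm hF hbc, herm_eq_zero_symm hF hbd, zero_smul, add_zero, smul_zero]
    at hka hkb hkc hkd
  refine ⟨(ω * k + (ω ^ 2 - ω) * (hermForm n F q x c * kc + hermForm n F q x d * kd) + k') -
    (ω * k' + (ω ^ 2 - ω) * (hermForm n F q x a * ka + hermForm n F q x b * kb) + k), ?_⟩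
  rw [SU_mul_mulVec, SU_mul_mulVec, hk, hk']
  simp only [Matrix.mulVec_add, Matrix.mulVec_smul, hg.1, hg'.1, hk, hk', hka, hkb, hkc, hkd]
  module

/-! ### Orthonormal pairs -/

theorem exists_norm_one_perp (hF : Fintype.card F = q ^ 2) {W : Submodule F (Fin n → F)}
    (hW : Nondeg q W) (h3 : 3 ≤ finrank F W) (x : Fin n → F) :
    ∃ u ∈ W, hermForm n F q u u = 1 ∧ hermForm n F q u x = 0 := by
  set R := W ⊓ perp q (Submodule.span F {x})
  by_cases hall : ∀ r ∈ R, hermForm n F q r r = 0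
  · exfalso
    have h1 := Submodule.finrank_sup_add_finrank_inf_eq W (perp q (Submodule.span F {x}))
    have h2 := finrank_perp hF (Submodule.span F {x})
    have h2' : finrank F (Submodule.span F ({x} : Set (Fin n → F))) ≤ 1 := by
      by_cases hx : x = 0
      · rw [hx, Submodule.span_zero_singleton, finrank_bot]; omega
      · rw [finrank_span_singleton hx]
    have h3' := Submodule.finrank_le (W ⊔ perp q (Submodule.span F {x}))
    rw [finrank_fin_fun] at h3'
    have hzero : ∀ r ∈ R, ∀ w ∈ R, hermForm n F q r w = 0 := by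
      intro r hr w hw
      refine eq_zero_of_trace_mul_eq_zero hF fun c => ?_
      have h4 := hall (c • r + w) (R.add_mem (R.smul_mem c hr) hw)
      simp only [herm_add_left, herm_add_right _ _ _ hF, herm_smul_left, herm_smul_right,
        hall r hr, hall w hw, mul_zero, add_zero, zero_add] at h4
      rw [mul_pow, herm_conj r w hF]
      linear_combination h4
    have hle : perp q W ⊔ R ≤ perp q R := by
      refine sup_le (fun w hw r hr => hw r hr.1) fun r hr w hw => hzero r hr w hw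
    have hinf : perp q W ⊓ R = ⊥ := eq_bot_iff.2 fun w hw =>
      (nondeg_iff_disjoint.1 hW).le ⟨hw.2.1, hw.1⟩
    have h5 := Submodule.finrank_sup_add_finrank_inf_eq (perp q W) R
    rw [hinf, finrank_bot] at h5
    have h6 := Submodule.finrank_mono hle
    have h7 := finrank_perp hF W
    have h8 := finrank_perp hF R
    have h9 : finrank F R = finrank F (W ⊓ perp q (Submodule.span F {x}) :
        Submodule F (Fin n → F)) := rfl
    omega
  · push Not at hall
    obtain ⟨r, hr, hr0⟩ := hall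
    obtain ⟨c, hc⟩ := norm_surj hF (y := (hermForm n F q r r)⁻¹) (by
      rw [inv_pow, herm_self_fixed r hF])
    refine ⟨c • r, W.smul_mem c hr.1, ?_, ?_⟩
    · rw [herm_smul_left, herm_smul_right, ← mul_assoc, hc, inv_mul_cancel₀ hr0]
    · rw [herm_smul_left, hr.2 x (Submodule.mem_span_singleton_self x), mul_zero]

theorem cut (hF : Fintype.card F = q ^ 2) {W : Submodule F (Fin n → F)} (hW : Nondeg q W)
    {a : Fin n → F} (ha : a ∈ W) (ha1 : hermForm n F q a a = 1) :
    ∃ W' : Submodule F (Fin n → F), Nondeg q W' ∧ finrank F W' + 1 = finrank F W ∧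
      ∀ u ∈ W', u ∈ W ∧ hermForm n F q u a = 0 := by
  obtain ⟨h1, h2⟩ := nondeg_inf_perp hF hW
    (not_isotropic_of_nondeg hF (x := a) (by rw [ha1]; exact one_ne_zero))
    ((Submodule.span_singleton_le_iff_mem _ _).2 ha)
  rw [finrank_span_singleton (fun h0 : a = 0 => by simp [h0, herm_zero_left] at ha1)] at h2
  exact ⟨_, h1, by omega, fun u hu => ⟨hu.1, hu.2 a (Submodule.mem_span_singleton_self a)⟩⟩

/-! ### The normal complement -/

theorem omega_facts (hF : Fintype.card F = 2 ^ 2) :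
    ∃ ω : F, ω ≠ 1 ∧ ω ^ 2 ≠ 1 ∧ ω ^ 3 = 1 ∧ ω * ω ^ 2 = 1 := by
  obtain ⟨ω, h0, h1⟩ := exists_ne_zero_one hF
  have h3 : ω ^ 3 = 1 := by
    have := FiniteField.pow_card_sub_one_eq_one ω h0
    rwa [hF] at this
  exact ⟨ω, h1, fun h2 => h1 (by linear_combination h3 - ω * h2), h3, by linear_combination h3⟩

variable (X : PExt p σ) (hn : Size q n) (h : Hyp q e f)

include X hn h in
theorem exists_comp_of_scal {a l : F} (ha : a ≠ 0) (hl : l * l ^ q = 1)
    (hdet : a * (a ^ q)⁻¹ * l ^ (n - 2) = 1) (hne : a ^ q * l ≠ 1) :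
    ∃ C : Subgroup E, Comp σ (QS e) C ∧ ∀ g : E, σ g ∈ NS e → NormBy g C := by
  obtain ⟨g0, hg0⟩ := exists_scal X.card h ha hl hdet
  obtain ⟨t, rfl⟩ := X.surj g0
  obtain ⟨C, hC, htC⟩ := exists_comp_normBy X hn h (hg0.fpf X.card h ha hne)
  refine ⟨C, hC, fun g hg c hc => ?_⟩
  have ht' : Scal q e a l (σ (g * t * g⁻¹)) := by
    rw [map_mul, map_mul, map_inv]; exact hg0.conj hg
  rw [comp_eq_of_agree X hn h (hg0.fpf X.card h ha hne) (hg0.agree ht') ⟨a, ha, ht'.1⟩ hC htC
    (comp_conjBy hg hC) htC.conjBy]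
  exact ⟨c, hc, rfl⟩

include X hn h in
theorem exists_comp_of_pl (hq : q = 2) (h7 : 9 ≤ n) {ω : F} (h1 : ω ≠ 1) (h2 : ω ^ 2 ≠ 1)
    (hω : ω * ω ^ q = 1) (hdet : ω ^ (n - 2) * ω * ω = 1) :
    ∃ C : Subgroup E, Comp σ (QS e) C ∧ ∀ g : E, σ g ∈ NS e → NormBy g C := by
  have hF := X.card
  have := hq
  let Same : (Fin n → F) → (Fin n → F) → (Fin n → F) → (Fin n → F) → Prop := fun a b c d =>
    ∀ (t t' : E) (C C' : Subgroup E), Pl q e ω a b (σ t) → Pl q e ω c d (σ t') →
      Comp σ (QS e) C → NormBy t C → Comp σ (QS e) C' → NormBy t' C' → C = C'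
  have htrans : ∀ {a b c d a' b'}, OPair q e f c d → Same a b c d → Same c d a' b' →
      Same a b a' b' := by
    intro a b c d a' b' hcd s1 s2 t t' C C' ht ht' hC htC hC' htC'
    obtain ⟨g, hg⟩ := exists_pl hF h hcd hω hdet
    obtain ⟨u, rfl⟩ := X.surj g
    obtain ⟨D, hD, huD⟩ := exists_comp_normBy X hn h (hg.fpf hF h hcd h1 h2)
    exact (s1 t u C D ht hg hC htC hD huD).trans (s2 u t' D C' hg ht' hD huD hC' htC')
  have hswap : ∀ {a b a' b'}, Same a b a' b' → Same b a a' b' :=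
    fun s t t' C C' ht => s t t' C C' ht.swap
  have hswap' : ∀ {a b a' b'}, Same a b a' b' → Same a b b' a' :=
    fun s t t' C C' ht ht' => s t t' C C' ht ht'.swap
  have horth : ∀ {a b c d}, OPair q e f a b → OPair q e f c d → hermForm n F q a c = 0 →
      hermForm n F q a d = 0 → hermForm n F q b c = 0 → hermForm n F q b d = 0 →
      Same a b c d := fun {a b c d} hab hcd x1 x2 x3 x4 t t' C C' ht ht' hC htC hC' htC' =>
    comp_eq_of_commutator X hn h (ht.fpf hF h hab h1 h2) (ht'.fpf hF h hcd h1 h2)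
      (Pl.commutator_mem hF hab hcd x1 x2 x3 x4 ht ht') hC htC hC' htC'
  have hrk := finrank_rest hF h
  have hshare : ∀ {a b x}, OPair q e f a b → OPair q e f a x → Same a b a x := by
    intro a b x hab hax
    obtain ⟨W1, hW1, hd1, hm1⟩ := cut hF (nondeg_rest hF h) hab.left hab.norm_left
    have hbW1 : b ∈ rest q e f ⊓ perp q (Submodule.span F {a}) := ⟨hab.right, fun w hw => by
      obtain ⟨k, rfl⟩ := Submodule.mem_span_singleton.1 hw
      rw [herm_smul_right, herm_eq_zero_symm hF hab.orth, mul_zero]⟩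
    obtain ⟨hV, hVd⟩ := nondeg_inf_perp hF (nondeg_rest hF h)
      (not_isotropic_of_nondeg hF (x := a) (by rw [hab.norm_left]; exact one_ne_zero))
      ((Submodule.span_singleton_le_iff_mem _ _).2 hab.left)
    rw [finrank_span_singleton (fun h0 : a = 0 => by
      simpa [h0, herm_zero_left] using hab.norm_left)] at hVd
    obtain ⟨W2, hW2, hd2, hm2⟩ := cut hF hV hbW1 hab.norm_right
    obtain ⟨a1, ha1, ha11, ha1x⟩ := exists_norm_one_perp hF hW2 (by omega) x
    obtain ⟨W3, hW3, hd3, hm3⟩ := cut hF hW2 ha1 ha11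
    obtain ⟨a2, ha2, ha21, ha2x⟩ := exists_norm_one_perp hF hW3 (by omega) x
    obtain ⟨ha2W, ha2a1⟩ := hm3 a2 ha2
    have pa1 := hm2 a1 ha1
    have pa2 := hm2 a2 ha2W
    have h12 : OPair q e f a1 a2 :=
      ⟨pa1.1.1, pa2.1.1, ha11, ha21, herm_eq_zero_symm hF ha2a1⟩
    have qa1 := pa1.1.2 a (Submodule.mem_span_singleton_self a)
    have qa2 := pa2.1.2 a (Submodule.mem_span_singleton_self a)
    exact htrans h12
      (horth hab h12 (herm_eq_zero_symm hF qa1) (herm_eq_zero_symm hF qa2)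
        (herm_eq_zero_symm hF pa1.2) (herm_eq_zero_symm hF pa2.2))
      (horth h12 hax qa1 ha1x qa2 ha2x)
  have hall : ∀ {a b a' b'}, OPair q e f a b → OPair q e f a' b' → Same a b a' b' := by
    intro a b a' b' hab hab'
    obtain ⟨W1, hW1, hd1, hm1⟩ := cut hF (nondeg_rest hF h) hab.left hab.norm_left
    obtain ⟨c, hc, hc1, hca'⟩ := exists_norm_one_perp hF hW1 (by omega) a'
    obtain ⟨hcW, hca⟩ := hm1 c hc
    have h_ac : OPair q e f a c :=
      ⟨hab.left, hcW, hab.norm_left, hc1, herm_eq_zero_symm hF hca⟩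
    have h_ca' : OPair q e f c a' := ⟨hcW, hab'.left, hc1, hab'.norm_left, hca'⟩
    refine htrans (h_ac.swap hF) (hswap' (hshare hab h_ac)) ?_
    exact htrans (h_ca'.swap hF) (hswap' (hshare (h_ac.swap hF) h_ca'))
      (hshare (h_ca'.swap hF) hab')
  obtain ⟨a, ha, ha1⟩ := exists_norm_one_of_nondeg hF (nondeg_rest hF h)
    (fun hb => by rw [hb, finrank_bot] at hrk; omega)
  obtain ⟨W1, hW1, hd1, hm1⟩ := cut hF (nondeg_rest hF h) ha ha1
  obtain ⟨b, hb, hb1, hba⟩ := exists_norm_one_perp hF hW1 (by omega) a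
  have hab : OPair q e f a b := ⟨ha, (hm1 b hb).1, ha1, hb1, herm_eq_zero_symm hF hba⟩
  obtain ⟨g0, hg0⟩ := exists_pl hF h hab hω hdet
  obtain ⟨t, rfl⟩ := X.surj g0
  obtain ⟨C, hC, htC⟩ := exists_comp_normBy X hn h (hg0.fpf hF h hab h1 h2)
  refine ⟨C, hC, fun g hg c hc => ?_⟩
  obtain ⟨hab', ht'⟩ := hg0.conj hF h hab hg
  rw [hall hab hab' t (g * t * g⁻¹) C (conjBy g C) hg0 (by rw [map_mul, map_mul, map_inv]; exact ht')
    hC htC (comp_conjBy hg hC) htC.conjBy]
  exact ⟨c, hc, rfl⟩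

include X hn h in
/-- A complement over `QS e` normalised by the preimage of the line stabiliser. -/
theorem exists_comp_NS : ∃ C : Subgroup E, Comp σ (QS e) C ∧ ∀ g : E, σ g ∈ NS e → NormBy g C := by
  have hF := X.card
  rcases Nat.lt_or_ge q 3 with hq | hq
  · obtain rfl : q = 2 := by have := one_lt_q hF; omega
    obtain ⟨ω, h1, h2, h3, hω⟩ := omega_facts hF
    have hω0 : ω ≠ 0 := fun h0 => by simp [h0] at h3
    have hpow : ∀ k, ω ^ k = ω ^ (k % 3) := fun k => by
      conv_lhs => rw [← Nat.div_add_mod k 3, pow_add, pow_mul, h3, one_pow, one_mul]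
    have hn3 := hn.three_le
    by_cases hm : (n - 2) % 3 = 1
    · have h6 := hn.six
      have h33 := hn.three
      have h44 := hn.four
      refine exists_comp_of_pl X hn h rfl (by omega) h1 h2 hω ?_
      rw [hpow, hm]
      linear_combination h3
    · refine exists_comp_of_scal X hn h (a := ω ^ (n - 2)) (l := ω) (pow_ne_zero _ hω0) hω ?_ ?_
      · field_simp
      · rw [← pow_mul, ← pow_succ, hpow]
        rcases (by omega : ((n - 2) * 2 + 1) % 3 = 1 ∨ ((n - 2) * 2 + 1) % 3 = 2) with hk | hk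
        · rw [hk, pow_one]; exact h1
        · rw [hk]; exact h2
  · obtain ⟨a, ha, ha0, ha1⟩ := exists_fixed_ne hF hq
    refine exists_comp_of_scal X hn h (a := a) (l := 1) ha0 (by rw [one_pow, one_mul]) ?_ ?_
    · rw [ha, mul_inv_cancel₀ ha0, one_pow, one_mul]
    · rw [ha, mul_one]; exact ha1

end Cfsg.Agent.Lib.MultPSU
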