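import Mathlib
import Cfsg.Agent.Lib.MultPSU.Normal

/-!
Lib/MultPSU/Sylow: a complement over a Sylow `p`-subgroup of `SU n`, by induction on nondegenerate
subspaces; hence `SU n` is tame at its characteristic.
-/

set_option autoImplicit false
set_option linter.unusedSectionVars false

namespace Cfsg.Agent.Lib.MultPSU

open Matrix Module Subgroup Cfsg.Agent.Lib.Unitary Cfsg.Agent.Lib.AutPSU
open Cfsg.Agent.Lib.MinIndexPSU
open scoped commutatorElement

universe u v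

variable {F : Type u} [Field F] [Fintype F] {q n : ℕ} {e f : Fin n → F}
variable {p : ℕ} {E : Type v} [Group E] {σ : E →* SU n F q}

/-- The elements fixing the orthogonal of `W` pointwise. -/
def SW (W : Submodule F (Fin n → F)) : Subgroup (SU n F q) where
  carrier := {X | ∀ x ∈ perp q W, X.1.1 *ᵥ x = x}
  one_mem' := fun x _ => by simp
  mul_mem' := fun {X Y} hX hY x hx => by rw [SU_mul_mulVec, hY x hx, hX x hx]
  inv_mem' := fun {X} hX x hx => by conv_lhs => rw [← hX x hx, SU_inv_mulVec]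

/-- The product of two subgroups, the second normalising the first. -/
def normProd {G : Type*} [Group G] (H K : Subgroup G)
    (hn : ∀ k ∈ K, ∀ h ∈ H, k * h * k⁻¹ ∈ H) : Subgroup G where
  carrier := {x | ∃ h ∈ H, ∃ k ∈ K, h * k = x}
  one_mem' := ⟨1, one_mem _, 1, one_mem _, one_mul 1⟩
  mul_mem' := by
    rintro _ _ ⟨h, hh, k, hk, rfl⟩ ⟨h', hh', k', hk', rfl⟩
    exact ⟨h * (k * h' * k⁻¹), mul_mem hh (hn k hk h' hh'), k * k', mul_mem hk hk', by group⟩
  inv_mem' := by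
    rintro _ ⟨h, hh, k, hk, rfl⟩
    exact ⟨k⁻¹ * h⁻¹ * k⁻¹⁻¹, hn _ (inv_mem hk) _ (inv_mem hh), k⁻¹, inv_mem hk, by group⟩

theorem sup_le_normProd {G : Type*} [Group G] (H K : Subgroup G)
    (hn : ∀ k ∈ K, ∀ h ∈ H, k * h * k⁻¹ ∈ H) : H ⊔ K ≤ normProd H K hn :=
  sup_le (fun h hh => ⟨h, hh, 1, one_mem _, mul_one h⟩)
    fun k hk => ⟨1, one_mem _, k, hk, one_mul k⟩

theorem card_sup_of_normal {G : Type*} [Group G] (H K : Subgroup G)
    (hn : ∀ k ∈ K, ∀ h ∈ H, k * h * k⁻¹ ∈ H) (hd : H ⊓ K = ⊥) :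
    Nat.card (H ⊔ K : Subgroup G) = Nat.card H * Nat.card K := by
  rw [← Nat.card_prod]
  symm
  refine Nat.card_eq_of_bijective (fun x : H × K =>
    (⟨x.1.1 * x.2.1, mul_mem (mem_sup_left x.1.2) (mem_sup_right x.2.2)⟩ :
      (H ⊔ K : Subgroup G))) ⟨?_, ?_⟩
  · rintro ⟨h, k⟩ ⟨h', k'⟩ hxy
    have h1 : h.1 * k.1 = h'.1 * k'.1 := congrArg Subtype.val hxy
    have h2 : h'.1⁻¹ * h.1 ∈ H ⊓ K := by
      refine mem_inf.2 ⟨mul_mem (inv_mem h'.2) h.2, ?_⟩
      rw [show h'.1⁻¹ * h.1 = k'.1 * k.1⁻¹ by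
        rw [inv_mul_eq_iff_eq_mul, ← mul_assoc, ← h1, mul_inv_cancel_right]]
      exact mul_mem k'.2 (inv_mem k.2)
    rw [hd, Subgroup.mem_bot, inv_mul_eq_one] at h2
    rw [h2] at h1
    exact Prod.ext (Subtype.ext h2.symm) (Subtype.ext (mul_left_cancel h1))
  · rintro ⟨x, hx⟩
    obtain ⟨h, hh, k, hk, rfl⟩ := sup_le_normProd H K hn hx
    exact ⟨(⟨h, hh⟩, ⟨k, hk⟩), rfl⟩

theorem comp_product {G : Type*} [Group G] {τ : E →* G} {H K : Subgroup G} {C D : Subgroup E}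
    (hC : Comp τ H C) (hD : Comp τ K D) (hd : H ⊓ K = ⊥)
    (hn : ∀ d ∈ D, ∀ c ∈ C, d * c * d⁻¹ ∈ C) : Comp τ (H ⊔ K) (C ⊔ D) := by
  refine ⟨by rw [Subgroup.map_sup, hC.map_eq, hD.map_eq], eq_bot_iff.2 ?_⟩
  rintro x ⟨hx, hk⟩
  obtain ⟨c, hc, d, hd', rfl⟩ := sup_le_normProd C D hn hx
  have h1 : τ c * τ d = 1 := by rw [← map_mul]; exact hk
  have h2 : τ c ∈ H ⊓ K := mem_inf.2 ⟨hC.mem hc, by
    rw [eq_inv_of_mul_eq_one_left h1]; exact inv_mem (hD.mem hd')⟩
  rw [hd, Subgroup.mem_bot] at h2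
  rw [h2, one_mul] at h1
  rw [hC.eq_one hc h2, hD.eq_one hd' h1, one_mul]
  exact one_mem _

theorem card_QS_inf_SW (hF : Fintype.card F = q ^ 2) (h : Hyp q e f)
    {W : Submodule F (Fin n → F)} (hW : Nondeg q W) (he : e ∈ W) (hf : f ∈ W) :
    Nat.card (QS (q := q) e ⊓ SW W : Subgroup (SU n F q)) =
      q ^ (2 * (finrank F W - 2) + 1) := by
  have hle : Submodule.span F ({e, f} : Set (Fin n → F)) ≤ W :=
    Submodule.span_le.2 (by rintro x (rfl | rfl) <;> assumption)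
  obtain ⟨-, hd⟩ := nondeg_inf_perp hF hW (h.nondeg hF) hle
  rw [(h.finrank_span hF).2] at hd
  rw [card_subgroup_QS hF h _ inf_le_left]
  have hz : zp e f '' ((QS e ⊓ SW W : Subgroup (SU n F q)) : Set (SU n F q)) =
      ((W ⊓ perp q (Submodule.span F {e, f}) : Submodule F (Fin n → F)) : Set (Fin n → F)) := by
    ext z
    constructor
    · rintro ⟨X, ⟨hX, hXW⟩, rfl⟩
      refine ⟨?_, zp_mem hF h X⟩
      rw [← perp_perp hF W]
      intro y hy
      obtain ⟨d, -, hA⟩ := exists_param hF h hX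
      have h1 := hA y
      rw [suToGU_val, hXW y hy, hy e he, mul_zero, zero_smul, add_zero, zero_sub] at h1
      have h2 : -hermForm n F q y (zp e f X) = 0 :=
        (smul_eq_zero.1 (left_eq_add.1 h1)).resolve_right (ne_zero_of_hyp h)
      exact herm_eq_zero_symm hF (neg_eq_zero.1 h2)
    · intro hz
      obtain ⟨d, hd⟩ := exists_eich_param hF z
      have hze := ((MinIndexPSU.mem_rest hF).1 hz.2).1
      obtain ⟨X, hX⟩ := exists_SU_eich hF h.1 hze hd
      refine ⟨X, ⟨mem_QS_of_eich hF h.1 hze hX, fun x hx => ?_⟩, zp_of_eich hF h hz.2 hX⟩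
      have := hX x
      rw [suToGU_val, hx e he, hx z hz.1, mul_zero, zero_smul, sub_zero, zero_smul, add_zero,
        add_zero] at this
      exact this
  have hRS : RS (q := q) e ≤ QS e ⊓ SW W :=
    le_inf (RS_le_QS h.1) fun X hX x hx => hX x (hx e he)
  have ht : tc f '' ((QS e ⊓ SW W ⊓ RS e : Subgroup (SU n F q)) : Set (SU n F q)) =
      {c : F | c + c ^ q = 0} := by
    rw [inf_eq_right.2 hRS]
    ext c
    constructor
    · rintro ⟨X, hX, rfl⟩; exact (exists_tc hF h hX).1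
    · intro hc
      obtain ⟨X, hX⟩ := exists_SU_tv hF h.1 hc
      exact ⟨X, (mem_RS_iff hF h).2 ⟨c, hc, hX⟩, tc_of_tv hF h hX⟩
  rw [hz, ht, ← Nat.card_coe_set_eq, ← Nat.card_coe_set_eq,
    show Nat.card {c : F | c + c ^ q = 0} = q from card_trace_zero hF, SetLike.coe_sort_coe,
    Module.natCard_eq_pow_finrank (K := F), Nat.card_eq_fintype_card, hF,
    show finrank F (W ⊓ perp q (Submodule.span F {e, f}) : Submodule F (Fin n → F)) =
      finrank F W - 2 by omega, ← pow_mul, ← pow_succ]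

theorem exists_comp_sylow (X : PExt p σ) (hn : Size q n) :
    ∀ (d : ℕ) (W : Submodule F (Fin n → F)), Nondeg q W → finrank F W = d →
      ∃ U : Subgroup (SU n F q), U ≤ SW W ∧ Nat.card U = q ^ d.choose 2 ∧
        ∃ C : Subgroup E, Comp σ U C := by
  have hF := X.card
  intro d
  induction d using Nat.strong_induction_on with
  | _ d IH =>
    intro W hW hd
    by_cases h2 : d < 2
    · refine ⟨⊥, bot_le, by rw [Subgroup.card_bot, Nat.choose_eq_zero_of_lt h2, pow_zero], ⊥,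
        ⟨Subgroup.map_bot σ, bot_inf_eq _⟩⟩
    obtain ⟨e, he, f, hf, h⟩ := exists_isotropic_pair hF hW (by omega)
    have hle : Submodule.span F ({e, f} : Set (Fin n → F)) ≤ W :=
      Submodule.span_le.2 (by rintro x (rfl | rfl) <;> assumption)
    obtain ⟨hW', hd'⟩ := nondeg_inf_perp hF hW (h.nondeg hF) hle
    rw [(h.finrank_span hF).2, hd] at hd'
    obtain ⟨U', hU', hcard, D, hD⟩ := IH _ (by omega) _ hW' rfl
    have hfix : ∀ {g : SU n F q}, g ∈ U' → g.1.1 *ᵥ e = e ∧ g.1.1 *ᵥ f = f ∧ g ∈ SW W := by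
      intro g hg
      have hp : ∀ x ∈ ({e, f} : Set (Fin n → F)), g.1.1 *ᵥ x = x := fun x hx => by
        refine hU' hg x fun w hw => ?_
        exact herm_eq_zero_symm hF (hw.2 x (Submodule.subset_span hx))
      exact ⟨hp e (by simp), hp f (by simp), fun x hx => hU' hg x fun w hw => hx w hw.1⟩
    obtain ⟨C, hC, hCn⟩ := exists_comp_NS X hn h
    have hN : ∀ {g : SU n F q}, g ∈ U' → g ∈ NS e := fun hg =>
      ⟨1, one_ne_zero, by rw [one_smul]; exact (hfix hg).1⟩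
    have hconj : ∀ g ∈ U', ∀ x ∈ QS (q := q) e ⊓ SW W, g * x * g⁻¹ ∈ QS e ⊓ SW W :=
      fun g hg x hx => ⟨NS_conj_QS (hN hg) hx.1,
        (SW W).mul_mem ((SW W).mul_mem (hfix hg).2.2 hx.2) ((SW W).inv_mem (hfix hg).2.2)⟩
    have hdisj : QS (q := q) e ⊓ SW W ⊓ U' = ⊥ := by
      rw [eq_bot_iff]
      rintro g ⟨⟨hgQ, -⟩, hgU⟩
      have hgf := (hfix hgU).2.1
      have hz : zp e f g = 0 := by
        rw [zp, hgf]; simpa using proj_plane hF h (0 : F) 1
      refine Subgroup.mem_bot.2 (eq_of_tc hF h (mem_RS_of_zp hF h hgQ hz) (one_mem _) ?_)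
      rw [tc_one hF h, tc, hgf, h.2.1]
    have hC' : Comp σ (QS e ⊓ SW W) (C ⊓ (QS e ⊓ SW W).comap σ) := by
      refine ⟨le_antisymm (map_le_iff_le_comap.2 inf_le_right) fun x hx => ?_,
        eq_bot_iff.2 fun z hz => hC.inf_ker ▸ mem_inf.2 ⟨hz.1.1, hz.2⟩⟩
      obtain ⟨c, hc, rfl⟩ := hC.exists_mem hx.1
      exact mem_map_of_mem σ (mem_inf.2 ⟨hc, hx⟩)
    refine ⟨QS e ⊓ SW W ⊔ U', sup_le inf_le_right fun g hg => (hfix hg).2.2, ?_, _,
      comp_product hC' hD hdisj ?_⟩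
    · rw [card_sup_of_normal _ _ hconj hdisj, card_QS_inf_SW hF h hW he hf, hcard, ← pow_add, hd]
      congr 1
      obtain ⟨k, rfl⟩ : ∃ k, d = k + 2 := ⟨d - 2, by omega⟩
      rw [show finrank F (W ⊓ perp q (Submodule.span F {e, f}) : Submodule F (Fin n → F)) = k
        by omega]
      show 2 * (k + 2 - 2) + 1 + k.choose (1 + 1) = (k + 1 + 1).choose (1 + 1)
      rw [Nat.choose_succ_succ' (k + 1) 1, Nat.choose_succ_succ' k 1, Nat.choose_one_right,
        Nat.choose_one_right]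
      omega
    · rintro w hw c ⟨hc, hcm⟩
      refine mem_inf.2 ⟨hCn w (hN (hD.mem hw)) c hc, ?_⟩
      rw [mem_comap, map_mul, map_mul, map_inv]
      exact hconj _ (hD.mem hw) _ hcm

/-- `SU n` has no multiplier at its characteristic. -/
theorem tame_SU_char [CharP F p] (hF : Fintype.card F = q ^ 2) (hp : p.Prime) (hn : Size q n) :
    Tame p (SU n F q) := by
  intro E _ _ σ hσ hk hker
  have := Fact.mk hp
  have hpq : p ∣ q := dvd_q p hF
  have X : PExt p σ := ⟨hF, hp, hpq, hσ, hk, hker⟩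
  have hnd : Nondeg q (⊤ : Submodule F (Fin n → F)) :=
    nondeg_top fun u hu => herm_nondeg_left hF hu
  obtain ⟨U, -, hU, C, hC⟩ := exists_comp_sylow X hn n ⊤ hnd (by rw [finrank_top, finrank_fin_fun])
  refine commutator_inf_ker_of_index hk hσ hp hker (hC.split hk) fun hdvd => ?_
  have h3 := hn.three_le
  have hq := one_lt_q hF
  have h1 := card_SU (n := n) hF (by omega)
  rw [← U.card_mul_index, hU, Nat.choose_two_right, card_GU hF,
    mul_left_comm] at h1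
  have h2 := Nat.eq_of_mul_eq_mul_left (pow_pos (by omega) _) h1
  have h4 : p ∣ ∏ i ∈ Finset.range n, (if Even i then q ^ (i + 1) + 1 else q ^ (i + 1) - 1) :=
    h2 ▸ hdvd.mul_left _
  obtain ⟨i, -, hi⟩ := (Nat.Prime.prime hp).exists_mem_finset_dvd h4
  have hqi : p ∣ q ^ (i + 1) := dvd_pow hpq (by omega)
  refine hp.not_dvd_one ?_
  split_ifs at hi
  · exact (Nat.dvd_add_right hqi).1 hi
  · have := Nat.dvd_sub hqi hi
    have hpos := Nat.one_le_pow (i + 1) q (by omega)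
    rwa [show q ^ (i + 1) - (q ^ (i + 1) - 1) = 1 by omega] at this

end Cfsg.Agent.Lib.MultPSU
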